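import Groth.Agent.Lib.Cube.Finiteness
import Mathlib.CategoryTheory.Monoidal.Cartesian.Over

/-!
# The theorem of the cube over a field
-/

set_option autoImplicit false

universe u

open CategoryTheory CategoryTheory.Limits MonoidalCategory CartesianMonoidalCategory AlgebraicGeometry

namespace Groth.Agent.Lib.Cube.OverField

noncomputable section

theorem geometricallyConnected_of_irreducible {X Y : Scheme.{u}} (f : X ⟶ Y)
    [GeometricallyIrreducible f] : GeometricallyConnected f where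
  geometrically_connectedSpace := fun K _ y P fst snd h =>
    haveI := GeometricallyIrreducible.geometrically_irreducibleSpace (f := f) y fst snd h
    inferInstance

variable {k : Type u} [Field k] {X Y Z : Over (Spec (CommRingCat.of k))}
  [IsProper X.hom] [GeometricallyIntegral X.hom]
  [IsProper Y.hom] [GeometricallyReduced Y.hom] [GeometricallyConnected Y.hom]
  [LocallyOfFiniteType Z.hom] [GeometricallyIntegral Z.hom]
  (x₀ : 𝟙_ (Over (Spec (CommRingCat.of k))) ⟶ X) (y₀ : 𝟙_ (Over (Spec (CommRingCat.of k))) ⟶ Y)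
  (z₀ : 𝟙_ (Over (Spec (CommRingCat.of k))) ⟶ Z)

omit [IsProper X.hom] [GeometricallyIntegral X.hom] [IsProper Y.hom] [GeometricallyReduced Y.hom]
  [GeometricallyConnected Y.hom] [LocallyOfFiniteType Z.hom] [GeometricallyIntegral Z.hom] in
theorem isPullback_left : IsPullback (lift (fst X (Y ⊗ Z)) (snd X (Y ⊗ Z) ≫ snd Y Z)).left
    (snd X (Y ⊗ Z)).left (snd X Z).left (snd Y Z).left := by
  have h1 : IsPullback (fst X Z).left (snd X Z).left X.hom Z.hom := IsPullback.of_hasPullback X.hom Z.hom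
  have h2 : IsPullback (fst X (Y ⊗ Z)).left (snd X (Y ⊗ Z)).left X.hom (Y ⊗ Z).hom :=
    IsPullback.of_hasPullback X.hom (Y ⊗ Z).hom
  refine IsPullback.of_right ?_ ?_ h1
  · rw [← Over.comp_left, lift_fst, Over.w (snd Y Z)]
    exact h2
  · rw [← Over.comp_left, ← Over.comp_left, lift_snd]

variable {L : (X ⊗ Y ⊗ Z).left.Modules} {ι : Type u} {U : ι → (X ⊗ Y ⊗ Z).left.Opens}

/-- The data of the theorem of the cube with the third factor as base. -/
def ctx (hU : ∀ a, IsAffineOpen (U a)) (hUc : iSup U = ⊤)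
    (c : Groth.Agent.H97.GlueLine.Cocycle U)
    (hx : Triv.TrivAlong c (lift (toUnit (Y ⊗ Z) ≫ x₀) (𝟙 (Y ⊗ Z))).left)
    (hy : Triv.TrivAlong c (lift (fst X Z) (lift (toUnit (X ⊗ Z) ≫ y₀) (snd X Z))).left) :
    Ctx Z.left where
  X := (X ⊗ Z).left
  Y := (Y ⊗ Z).left
  W := (X ⊗ Y ⊗ Z).left
  px := (snd X Z).left
  py := (snd Y Z).left
  fx := (lift (fst X (Y ⊗ Z)) (snd X (Y ⊗ Z) ≫ snd Y Z)).left
  fy := (snd X (Y ⊗ Z)).left
  H := isPullback_left
  isProper_px := inferInstanceAs (IsProper (pullback.snd X.hom Z.hom))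
  flat_px := by
    show Flat (pullback.snd X.hom Z.hom)
    haveI : Flat X.hom := inferInstance
    infer_instance
  isProper_py := inferInstanceAs (IsProper (pullback.snd Y.hom Z.hom))
  flat_py := by
    show Flat (pullback.snd Y.hom Z.hom)
    haveI : Flat Y.hom := inferInstance
    infer_instance
  hx := by
    haveI : GeometricallyConnected X.hom := geometricallyConnected_of_irreducible X.hom
    exact (H2.Rigid.H0.of_geometrically X.hom).pullback_snd X.hom Z.hom
  hy := (H2.Rigid.H0.of_geometrically Y.hom).pullback_snd Y.hom Z.hom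
  x₀ := (lift (toUnit Z ≫ x₀) (𝟙 Z)).left
  hx₀ := by rw [← Over.comp_left, lift_snd, Over.id_left]
  y₀ := (lift (toUnit Z ≫ y₀) (𝟙 Z)).left
  hy₀ := by rw [← Over.comp_left, lift_snd, Over.id_left]
  i := (lift (toUnit (Y ⊗ Z) ≫ x₀) (𝟙 (Y ⊗ Z))).left
  hi₁ := by
    rw [← Over.comp_left, ← Over.comp_left]
    congr 1
    apply CartesianMonoidalCategory.hom_ext <;>
      simp only [Category.assoc, lift_fst, lift_snd, lift_fst_assoc, lift_snd_assoc, comp_toUnit_assoc,
        Category.id_comp, Category.comp_id, comp_lift_assoc, comp_lift]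
  hi₂ := by rw [← Over.comp_left, lift_snd, Over.id_left]
  j := (lift (fst X Z) (lift (toUnit (X ⊗ Z) ≫ y₀) (snd X Z))).left
  hj₁ := by
    rw [← Over.comp_left, ← Over.id_left]
    congr 1
    apply CartesianMonoidalCategory.hom_ext <;>
      simp only [Category.assoc, lift_fst, lift_snd, lift_fst_assoc, lift_snd_assoc, comp_toUnit_assoc,
        Category.id_comp, Category.comp_id, comp_lift_assoc, comp_lift]
  hj₂ := by
    rw [← Over.comp_left, ← Over.comp_left]
    congr 1
    apply CartesianMonoidalCategory.hom_ext <;>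
      simp only [Category.assoc, lift_fst, lift_snd, lift_fst_assoc, lift_snd_assoc, comp_toUnit_assoc,
        Category.id_comp, Category.comp_id, comp_lift_assoc, comp_lift]
  ι := ι
  U := U
  hU := hU
  hUc := hUc
  c := c
  hi := hx
  hj := hy

include x₀ y₀ z₀ in
/-- The theorem of the cube over a field. -/
theorem nonempty_iso (hL : PicF.IsInvertible L)
    (hx : Nonempty ((Scheme.Modules.pullback (lift (toUnit (Y ⊗ Z) ≫ x₀) (𝟙 (Y ⊗ Z))).left).obj L ≅ Coh.structureModule (Y ⊗ Z).left))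
    (hy : Nonempty ((Scheme.Modules.pullback (lift (fst X Z) (lift (toUnit (X ⊗ Z) ≫ y₀) (snd X Z))).left).obj L ≅ Coh.structureModule (X ⊗ Z).left))
    (hz : Nonempty ((Scheme.Modules.pullback (lift (fst X Y) (lift (snd X Y) (toUnit (X ⊗ Y) ≫ z₀))).left).obj L ≅ Coh.structureModule (X ⊗ Y).left)) :
    Nonempty (L ≅ Coh.structureModule (X ⊗ Y ⊗ Z).left) := by
  obtain ⟨ι, U, hU, hUc, e, he, c, hc⟩ := Triv.exists_cocycle hL
  have iff := fun {P : Scheme.{u}} (f : P ⟶ (X ⊗ Y ⊗ Z).left) => Triv.trivAlong_iff e he c hc hUc f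
  let C := ctx x₀ y₀ hU hUc c ((iff _).2 hx) ((iff _).2 hy)
  haveI : IsLocallyNoetherian Z.left := LocallyOfFiniteType.isLocallyNoetherian Z.hom
  haveI : IrreducibleSpace Z.left := GeometricallyIrreducible.irreducibleSpace_of_subsingleton Z.hom
  haveI : GeometricallyIntegral C.px := inferInstanceAs (GeometricallyIntegral (pullback.snd X.hom Z.hom))
  haveI : GeometricallyReduced C.py := inferInstanceAs (GeometricallyReduced (pullback.snd Y.hom Z.hom))
  -- the fibre through the rational point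
  let T : Over (Spec (CommRingCat.of k)) := Over.mk (C.bcBase z₀.left ≫ (𝟙_ (Over (Spec (CommRingCat.of k)))).hom)
  let b : T ⟶ X ⊗ Y ⊗ Z := Over.homMk (C.bcMap z₀.left) (by
    show C.bcMap z₀.left ≫ (X ⊗ Y ⊗ Z).hom = C.bcBase z₀.left ≫ _
    have e1 : C.pw ≫ Z.hom = (X ⊗ Y ⊗ Z).hom := by
      show ((lift (fst X (Y ⊗ Z)) (snd X (Y ⊗ Z) ≫ snd Y Z)).left ≫ (snd X Z).left) ≫ Z.hom = _
      rw [← Over.comp_left, Over.w]
    rw [← e1, ← Category.assoc, pullback.condition, Category.assoc, Over.w z₀])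
  have hb : (b ≫ lift (fst X (Y ⊗ Z)) (snd X (Y ⊗ Z) ≫ fst Y Z)) ≫
      lift (fst X Y) (lift (snd X Y) (toUnit (X ⊗ Y) ≫ z₀)) = b := by
    have hz' : b ≫ snd X (Y ⊗ Z) ≫ snd Y Z = toUnit T ≫ z₀ := by
      apply Over.OverMorphism.ext
      rw [Over.comp_left, Over.comp_left, Over.comp_left, Over.toUnit_left]
      show C.bcMap z₀.left ≫ (snd X (Y ⊗ Z)).left ≫ C.py = (C.bcBase z₀.left ≫ 𝟙 _) ≫ z₀.left
      rw [Category.comp_id]
      exact (congrArg (C.bcMap z₀.left ≫ ·) (Ctx.pw_eq C).symm).trans pullback.condition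
    apply CartesianMonoidalCategory.hom_ext
    · simp
    · apply CartesianMonoidalCategory.hom_ext
      · simp
      · simp only [Category.assoc, lift_snd, comp_lift_assoc, lift_snd_assoc, comp_toUnit_assoc]
        exact hz'.symm
  have hfib : Triv.TrivAlong C.c (C.bcMap z₀.left) := by
    have h := ((iff _).2 hz).comp (b ≫ lift (fst X (Y ⊗ Z)) (snd X (Y ⊗ Z) ≫ fst Y Z)).left
    rw [← Over.comp_left, hb] at h
    exact h
  have key := Global.trivAlong_of_fib Finiteness.finH1 (Global.fib_of (C := C) rfl hfib)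
  obtain ⟨i⟩ := (iff (𝟙 _)).1 key
  exact ⟨(Scheme.Modules.pullbackId _).symm.app L ≪≫ i⟩

end

end Groth.Agent.Lib.Cube.OverField
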