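import Groth.Agent.Lib.Cube.SeesawGlobal
import Groth.Agent.Lib.TensorMod.Invertible
import Groth.Agent.H3.PicCalc
import Groth.Prelude.Def_ega3
import Mathlib.Topology.JacobsonSpace
import Groth.Agent.Lib.Cube.OverField

/-!
# Consequences of the seesaw theorem
-/

set_option autoImplicit false

universe u

open CategoryTheory CategoryTheory.Limits AlgebraicGeometry

namespace Groth.Agent.Lib.Cube.SeesawCons

open Groth.Agent.Lib

noncomputable section

variable {X Y : Scheme.{u}} (f : X ⟶ Y)

/-- One-dimensional global functions: constant functions and non-empty fibres. -/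
theorem h0_surjective_of_finrank
    (h0 : ∀ y : Y, Module.finrank (Y.residueField y) Γ(f.fiber y, ⊤) = 1) :
    H2.Rigid.H0 f ∧ Surjective f := by
  have hnt : ∀ y, Nontrivial Γ(f.fiber y, ⊤) := fun y =>
    Module.nontrivial_of_finrank_pos (R := Y.residueField y) (by rw [h0 y]; exact one_pos)
  refine ⟨fun y w => ?_, ⟨fun y => ?_⟩⟩
  · haveI := hnt y
    obtain ⟨c, hc⟩ := (finrank_eq_one_iff_of_nonzero' (K := Y.residueField y)
      (1 : Γ(f.fiber y, ⊤)) one_ne_zero).1 (h0 y) w
    rw [Algebra.smul_def, mul_one] at hc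
    exact ⟨_, hc⟩
  · haveI := hnt y
    obtain ⟨z⟩ : Nonempty (f.fiber y) := by
      by_contra hne
      rw [not_nonempty_iff] at hne
      haveI : Subsingleton Γ(f.fiber y, ⊤) := by
        rw [show (⊤ : (f.fiber y).Opens) = ⊥ from TopologicalSpace.Opens.ext (Set.eq_empty_of_isEmpty _)]
        infer_instance
      exact false_of_nontrivial_of_subsingleton Γ(f.fiber y, ⊤)
    exact ⟨f.fiberι y z, (f.range_fiberι y ▸ Set.mem_range_self z : f.fiberι y z ∈ f ⁻¹' {y})⟩

/-- An inverse image from the base is trivial on the fibres. -/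
theorem trivial_on_fibre {M : Y.Modules} (hM : PicF.IsInvertible M) {L : X.Modules}
    (e : (Scheme.Modules.pullback f).obj M ≅ L) (y : Y) :
    Nonempty ((Scheme.Modules.pullback (f.fiberι y)).obj L ≅ Coh.structureModule (f.fiber y)) := by
  obtain ⟨i⟩ := H3.PicCalc.isInvertible_subsingleton
    (PicLoc.isInvertible_pullback (Y.fromSpecResidueField y) hM)
  exact ⟨(Scheme.Modules.pullback (f.fiberι y)).mapIso e.symm ≪≫
    (Scheme.Modules.pullbackComp (f.fiberι y) f).app M ≪≫
    (Scheme.Modules.pullbackCongr (f.fiber_fac y)).app M ≪≫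
    ((Scheme.Modules.pullbackComp (f.fiberToSpecResidueField y) (Y.fromSpecResidueField y)).app M).symm ≪≫
    (Scheme.Modules.pullback (f.fiberToSpecResidueField y)).mapIso i ≪≫
    PicLoc.pullbackStructureIso _⟩

/-- A module from the base is the pullback of its direct image when functions are those of the base. -/
theorem counit_of_pullback (hpush : H2.Rigid.Push f) {M : Y.Modules} (hM : PicF.IsInvertible M)
    {L : X.Modules} (e : (Scheme.Modules.pullback f).obj M ≅ L) :
    PicF.IsInvertible ((Scheme.Modules.pushforward f).obj L) ∧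
      IsIso ((Scheme.Modules.pullbackPushforwardAdjunction f).counit.app L) := by
  let adj := Scheme.Modules.pullbackPushforwardAdjunction f
  have hη : IsIso (adj.unit.app M) := TensorMod.LocIso.isIso_unit_of_isFinLocFree f
    (fun U => (ConcreteCategory.isIso_iff_bijective _).2 (hpush U))
    (TensorMod.LocFree.of_rank (TensorMod.LocFree.of_isInvertible hM))
  refine ⟨TensorMod.Invertible.isInvertible_of_iso
    (asIso (adj.unit.app M) ≪≫ (Scheme.Modules.pushforward f).mapIso e) hM, ?_⟩
  have h1 : IsIso (adj.counit.app ((Scheme.Modules.pullback f).obj M)) := by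
    have hη' : IsIso ((Scheme.Modules.pullback f).map (adj.unit.app M)) :=
      @Functor.map_isIso _ _ _ _ _ _ _ _ hη
    exact @IsIso.of_isIso_fac_left _ _ _ _ _ _ _ (𝟙 _) hη' inferInstance (adj.left_triangle_components M)
  exact (NatTrans.isIso_app_iff_of_iso adj.counit e).1 h1

/-- A proper flat morphism with geometrically integral fibres has constant functions on the fibres. -/
theorem h0_of_geometricallyIntegral [IsProper f] [GeometricallyIntegral f] :
    H2.Rigid.H0 f ∧ ∀ y : Y, IsIntegral (f.fiber y) :=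
  haveI : GeometricallyConnected f := OverField.geometricallyConnected_of_irreducible f
  ⟨H2.Rigid.H0.of_geometrically f, fun y =>
    GeometricallyIntegral.geometrically_isIntegral (f := f) (Y.fromSpecResidueField y) _ _
      (IsPullback.of_hasPullback f (Y.fromSpecResidueField y))⟩

/-- Fibrewise isomorphic invertible modules differ by one from the base. -/
theorem exists_twist_of [IsProper f] [Flat f] [IsLocallyNoetherian Y] [IsReduced Y] [Surjective f]
    (hH : H2.Rigid.H0 f) (L M : X.Modules) (hL : PicF.IsInvertible L) (hM : PicF.IsInvertible M)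
    (Q : Y → Prop)
    (hQ : ∀ D : X.Modules, PicF.IsInvertible D →
      (∀ y, Q y → Nonempty ((Scheme.Modules.pullback (f.fiberι y)).obj D ≅ Coh.structureModule (f.fiber y))) →
      ∀ y, Nonempty ((Scheme.Modules.pullback (f.fiberι y)).obj D ≅ Coh.structureModule (f.fiber y)))
    (ht : ∀ y : Y, Q y → Nonempty ((Scheme.Modules.pullback (f.fiberι y)).obj L ≅
      (Scheme.Modules.pullback (f.fiberι y)).obj M)) :
    ∃ E : Y.Modules, PicF.IsInvertible E ∧
      Nonempty (L ≅ CohB1.tensorMod M ((Scheme.Modules.pullback f).obj E)) := by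
  letI : ∀ Z : Scheme.{u}, PicGrp.Law Z := Groth.Agent.Lib.TensorMod.Invertible.law
  let a := PicGrp.cls L hL
  let b := PicGrp.cls M hM
  obtain ⟨D, hD, hDc⟩ := PicGrp.exists_eq_cls (a * b⁻¹)
  have htriv : ∀ y : Y, Nonempty ((Scheme.Modules.pullback (f.fiberι y)).obj D ≅
      Coh.structureModule (f.fiber y)) := hQ D hD fun y hy => by
    let p := PicGrp.pullHom (f.fiberι y) (TensorMod.Pullback.pullMul (f.fiberι y))
    have e : p a = p b := Subtype.ext ((PicGrp.cl_eq_cl_iff _ _).2 (ht y hy))
    refine (PicGrp.cls_eq_one_iff (PicLoc.isInvertible_pullback (f.fiberι y) hD)).1 ?_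
    calc PicGrp.cls _ (PicLoc.isInvertible_pullback (f.fiberι y) hD) = p (PicGrp.cls D hD) :=
          Subtype.ext rfl
      _ = 1 := by rw [← hDc, map_mul, map_inv, e, mul_inv_cancel]
  obtain ⟨E, hE, ⟨e⟩⟩ := SeesawGlobal.exists_of_fibres f hH D hD htriv
  refine ⟨E, hE, (H3.PicCalc.iso_iff (a := a) (b := b * (a * b⁻¹)) rfl
    (H3.PicCalc.cl_tensor (a := b) (b := a * b⁻¹) rfl ?_)).2 (by rw [mul_comm a, mul_inv_cancel_left])⟩
  rw [hDc]
  exact (PicGrp.cl_eq_cl_iff _ _).2 ⟨e⟩

/-- Fibrewise isomorphic invertible modules differ by one from the base. -/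
theorem exists_twist [IsProper f] [Flat f] [IsLocallyNoetherian Y] [IsReduced Y] [Surjective f]
    (hH : H2.Rigid.H0 f) (L M : X.Modules) (hL : PicF.IsInvertible L) (hM : PicF.IsInvertible M)
    (ht : ∀ y : Y, Nonempty ((Scheme.Modules.pullback (f.fiberι y)).obj L ≅
      (Scheme.Modules.pullback (f.fiberι y)).obj M)) :
    ∃ E : Y.Modules, PicF.IsInvertible E ∧
      Nonempty (L ≅ CohB1.tensorMod M ((Scheme.Modules.pullback f).obj E)) :=
  exists_twist_of f hH L M hL hM (fun _ => True) (fun _ _ h y => h y trivial) fun y _ => ht y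

/-- With geometrically integral fibres over a Jacobson base, triviality on closed fibres spreads. -/
theorem trivial_of_closed_fibres [IsProper f] [Flat f] [IsLocallyNoetherian Y] [JacobsonSpace Y]
    [GeometricallyIntegral f] (D : X.Modules) (hD : PicF.IsInvertible D)
    (h : ∀ y : Y, IsClosed ({y} : Set Y) →
      Nonempty ((Scheme.Modules.pullback (f.fiberι y)).obj D ≅ Coh.structureModule (f.fiber y)))
    (y : Y) : Nonempty ((Scheme.Modules.pullback (f.fiberι y)).obj D ≅ Coh.structureModule (f.fiber y)) := by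
  obtain ⟨hH, hint⟩ := h0_of_geometricallyIntegral f
  obtain ⟨ι, U, -, hUc, e, he, c, hc⟩ := Triv.exists_cocycle hD
  have hcl := SeesawGlobal.isClosed_fibT f c hUc hint fun y => by
    haveI := hint y
    exact SeesawGlobal.bijective_appTop_of_surjective _ (hH y)
  by_contra hy
  obtain ⟨z, hz, hzc⟩ := nonempty_inter_closedPoints (Z := {y : Y | SeesawGlobal.FibT f c y}ᶜ)
    ⟨y, fun h' => hy ((Triv.trivAlong_iff e he c hc hUc _).1 h')⟩ hcl.isOpen_compl.isLocallyClosed
  exact hz ((Triv.trivAlong_iff e he c hc hUc _).2 (h z hzc))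

end

end Groth.Agent.Lib.Cube.SeesawCons
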