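import Groth.Agent.Lib.Cube.Descend
import Mathlib.RingTheory.DiscreteValuationRing.Basic

/-!
# Specialisation of triviality over a discrete valuation ring

A cocycle trivial on the generic fibre has integral invariant families for it and for its inverse
with product a power of the uniformizer; dividing by the uniformizer as long as possible, the
special fibre is trivial as soon as such families cannot have product zero without one vanishing.
-/

set_option autoImplicit false

universe u

open CategoryTheory CategoryTheory.Limits AlgebraicGeometry TopologicalSpace Opposite IsLocalRing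

namespace Groth.Agent.Lib.Cube.Dvr

open Groth.Agent.Lib.TensorMod.Dual (rf rf_rf rf_self)
open Groth.Agent.Lib.Cube.Triv Groth.Agent.Lib.Cube.Cech1 Groth.Agent.Lib.Cube.AffineBC
open Groth.Agent.Lib.Cube.Small (app_congr str_app str_rf flat_str mem_map_of_sum_eq_zero)
open Groth.Agent.Lib.Cube.Descend (pull)
open Groth.Agent.H97.GlueLine (Cocycle)

noncomputable section

variable {P Q : Scheme.{u}} {ι : Type u} {U : ι → P.Opens}

/-- A family invariant under the cocycle. -/
def IsRel (c : Cocycle U) (x : ∀ a, Γ(P, U a)) : Prop :=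
  ∀ (a b : ι) (V : P.Opens) (ha : V ≤ U a) (hb : V ≤ U b),
    rf ha (x a) = rf (le_inf ha hb) (c.u a b) * rf hb (x b)

/-- A family invariant under the inverse cocycle. -/
def IsRelInv (c : Cocycle U) (y : ∀ a, Γ(P, U a)) : Prop :=
  ∀ (a b : ι) (V : P.Opens) (ha : V ≤ U a) (hb : V ≤ U b),
    rf hb (y b) = rf (le_inf ha hb) (c.u a b) * rf ha (y a)

theorem IsRel.comap {c : Cocycle U} {x : ∀ a, Γ(P, U a)} (h : IsRel c x) (g : Q ⟶ P) :
    IsRel (Triv.comap c g) fun a => (g.app (U a)).hom (x a) :=
  fun a b V ha hb => pull g (fun V' h₁ _ h₃ => h a b V' h₁ h₃) ha (le_inf ha hb) hb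

theorem IsRelInv.comap {c : Cocycle U} {y : ∀ a, Γ(P, U a)} (h : IsRelInv c y) (g : Q ⟶ P) :
    IsRelInv (Triv.comap c g) fun a => (g.app (U a)).hom (y a) :=
  fun a b V ha hb => pull g (fun V' h₁ _ h₃ => h a b V' h₃ h₁) hb (le_inf ha hb) ha

theorem trivAlong_of_isRel {c : Cocycle U} {g : Q ⟶ P} {x : ∀ a, Γ(P, U a)} (h : IsRel c x)
    (hu : ∀ a, IsUnit ((g.app (U a)).hom (x a))) : TrivAlong c g :=
  ⟨fun a => (g.app (U a)).hom (x a), hu, fun a b => by
    have := h.comap g a b (g ⁻¹ᵁ (U a ⊓ U b)) (pre_mono g inf_le_left) (pre_mono g inf_le_right)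
    refine this.trans ?_
    congr 1
    exact rf_self _ _⟩

theorem nonempty_of_ne_zero {V : P.Opens} {z : Γ(P, V)} (hz : z ≠ 0) [AlgebraicGeometry.IsReduced P] :
    (V : Set P).Nonempty := by
  by_contra h
  rw [Set.not_nonempty_iff_eq_empty] at h
  refine hz (eq_zero_of_basicOpen_eq_bot z ?_)
  refine le_bot_iff.1 fun q hq => ?_
  have := P.basicOpen_le z hq
  change q ∈ (V : Set P) at this
  rw [h] at this
  exact this

/-- On an integral scheme one of two invariant families with product zero vanishes. -/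
theorem eq_zero_or_eq_zero [IsIntegral P] {c : Cocycle U} {x y : ∀ a, Γ(P, U a)} (hx : IsRel c x)
    (h0 : ∀ a, x a * y a = 0) : (∀ a, x a = 0) ∨ ∀ a, y a = 0 := by
  by_contra hcon
  push Not at hcon
  obtain ⟨⟨a, ha⟩, ⟨b, hb⟩⟩ := hcon
  obtain ⟨q, hqa, hqb⟩ := nonempty_preirreducible_inter (U a).isOpen (U b).isOpen
    (nonempty_of_ne_zero ha) (nonempty_of_ne_zero hb)
  let V := U a ⊓ U b
  haveI : Nonempty V := ⟨⟨q, hqa, hqb⟩⟩
  have hx' : rf (inf_le_left : V ≤ U a) (x a) ≠ 0 := fun h => ha
    (map_injective_of_isIntegral P (homOfLE (inf_le_left : V ≤ U a)) (h.trans (map_zero _).symm))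
  have hy' : rf (inf_le_right : V ≤ U b) (y b) ≠ 0 := fun h => hb
    (map_injective_of_isIntegral P (homOfLE (inf_le_right : V ≤ U b)) (h.trans (map_zero _).symm))
  rw [hx a b V inf_le_left inf_le_right] at hx'
  have := mul_ne_zero (right_ne_zero_of_mul hx') hy'
  rw [← rf_mul, h0] at this
  exact this (map_zero _)

theorem inv_rel {A : Type u} [CommRing A] {c vb wa wb : A} (e1 : c * vb * wa = 1) (e2 : vb * wb = 1) :
    wb = c * wa := by
  linear_combination c * wa * e2 - wb * e1

/-- Families vanishing at every point vanish on reduced schemes. -/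
theorem eq_zero_of_forall [AlgebraicGeometry.IsReduced P] {V : P.Opens} {z : Γ(P, V)}
    (h : ∀ q ∈ V, q ∉ P.basicOpen z) : z = 0 :=
  eq_zero_of_basicOpen_eq_bot z (le_bot_iff.1 fun q hq => (h q (P.basicOpen_le z hq) hq).elim)

variable {R : CommRingCat.{u}} [IsDomain R] {p : P ⟶ Spec R}

/-- The morphism of the fraction field. -/
abbrev genPt (R : CommRingCat.{u}) [IsDomain R] :
    Spec (CommRingCat.of (FractionRing R)) ⟶ Spec R :=
  Spec.map (CommRingCat.ofHom (algebraMap R (FractionRing R)))

theorem eq_zero_of_str_mul [Flat p] {V : P.Opens} (hV : IsAffineOpen V) {s : R} (hs : s ≠ 0)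
    (z : Γ(P, V)) (h : (str p V).hom s * z = 0) : z = 0 := by
  have := mem_map_of_sum_eq_zero _ (flat_str p hV) ⊥ ![s]
    (fun c hc β => by
      rw [Ideal.mem_bot]
      fin_cases β
      simp only [Fin.sum_univ_one, Matrix.cons_val_zero] at hc
      exact (mul_eq_zero.1 hc).resolve_right hs)
    ![z] (by simpa using h) 0
  simpa using this

theorem str_mul_cancel [Flat p] {A : P.Opens} {s : R} (hs : s ≠ 0) {z z' : Γ(P, A)}
    (h : (str p A).hom s * z = (str p A).hom s * z') : z = z' := by
  refine fun_ext (fun B : {B : P.affineOpens // (B : P.Opens) ≤ A} => (B.1 : P.Opens)) (fun v hv => ?_)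
    fun B V hA hB => ?_
  · obtain ⟨B', hB', hv', hle⟩ := exists_isAffineOpen_mem_and_subset (U := A) hv
    exact Opens.mem_iSup.2 ⟨⟨⟨B', hB'⟩, hle⟩, hv'⟩
  · rw [← rf_rf B.2 hB, ← rf_rf B.2 hB (a := z')]
    congr 1
    refine sub_eq_zero.1 (eq_zero_of_str_mul (p := p) B.1.2 hs _ ?_)
    have e := congrArg (rf B.2) h
    rw [rf_mul, rf_mul, str_rf] at e
    rw [mul_sub, e, sub_self]

theorem isLoc (R : CommRingCat.{u}) [IsDomain R] :
    @IsLocalization R _ (nonZeroDivisors R) (CommRingCat.of (FractionRing R)) _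
      (CommRingCat.ofHom (algebraMap R (FractionRing R))).hom.toAlgebra := by
  rw [show (CommRingCat.ofHom (algebraMap R (FractionRing R))).hom.toAlgebra =
    (inferInstanceAs (Algebra R (FractionRing R)) : Algebra R (CommRingCat.of (FractionRing R))) from
      Algebra.algebra_ext _ _ fun r => rfl]
  exact (inferInstance : IsLocalization (nonZeroDivisors R) (FractionRing R))

theorem app_genPt_injective [Flat p] {A : P.Opens} {z : Γ(P, A)}
    (h : ((pullback.fst p (genPt R)).app A).hom z = 0) : z = 0 := by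
  refine fun_ext (fun B : {B : P.affineOpens // (B : P.Opens) ≤ A} => (B.1 : P.Opens)) (fun v hv => ?_)
    fun B V hA hB => ?_
  · obtain ⟨B', hB', hv', hle⟩ := exists_isAffineOpen_mem_and_subset (U := A) hv
    exact Opens.mem_iSup.2 ⟨⟨⟨B', hB'⟩, hle⟩, hv'⟩
  · rw [← rf_rf B.2 hB, ← rf_rf B.2 hB (a := (0 : Γ(P, A)))]
    congr 1
    have hd := (exists_den (IsPullback.of_hasPullback p (genPt R)) B.1.2 (nonZeroDivisors R)
      (isLoc R)).2 (rf B.2 z) (by
        rw [app_rf]
        exact (congrArg _ h).trans (map_zero _))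
    obtain ⟨s, hs, hs'⟩ := hd
    rw [eq_zero_of_str_mul B.1.2 (nonZeroDivisors.ne_zero hs) _ hs']
    exact (map_zero _).symm

/-- Triviality on the generic fibre gives a pair of invariant families with nonzero product. -/
theorem exists_pair [Flat p] [Finite ι] (hU : ∀ a, IsAffineOpen (U a)) (c : Cocycle U)
    (h : TrivAlong c (pullback.fst p (genPt R))) :
    ∃ (s : R) (_ : s ≠ 0) (x y : ∀ a, Γ(P, U a)), IsRel c x ∧ IsRelInv c y ∧
      ∀ a, x a * y a = (str p (U a)).hom s := by
  classical
  haveI := Fintype.ofFinite ι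
  obtain ⟨v, hv, he⟩ := h
  choose w hw using fun a => (hv a).exists_right_inv
  let g := pullback.fst p (genPt R)
  let H := IsPullback.of_hasPullback p (genPt R)
  let φ := algebraMap R (FractionRing R)
  let gv := str (pullback.snd p (genPt R))
  have hd := fun a => (exists_den H (hU a) (nonZeroDivisors R)
    (isLoc R)).1
  choose s hs x₀ hx₀ using fun a => hd a (v a)
  choose t ht y₀ hy₀ using fun a => hd a (w a)
  let σ : R := ∏ a, s a
  let τ : R := ∏ a, t a
  have hσ : σ ≠ 0 := Finset.prod_ne_zero_iff.2 fun a _ => nonZeroDivisors.ne_zero (hs a)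
  have hτ : τ ≠ 0 := Finset.prod_ne_zero_iff.2 fun a _ => nonZeroDivisors.ne_zero (ht a)
  let x : ∀ a, Γ(P, U a) := fun a => (str p (U a)).hom (∏ b ∈ Finset.univ.erase a, s b) * x₀ a
  let y : ∀ a, Γ(P, U a) := fun a => (str p (U a)).hom (∏ b ∈ Finset.univ.erase a, t b) * y₀ a
  have hg : ∀ a (r : R), (g.app (U a)).hom ((str p (U a)).hom r) = (gv (g ⁻¹ᵁ U a)).hom (φ r) :=
    fun a r => ConcreteCategory.congr_hom (isPushout H (hU a)).w r
  have hgx : ∀ a, (g.app (U a)).hom (x a) = (gv _).hom (φ σ) * v a := fun a => by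
    have e : φ σ = φ (∏ b ∈ Finset.univ.erase a, s b) * φ (s a) := by
      rw [← map_mul, Finset.prod_erase_mul _ _ (Finset.mem_univ a)]
    show (g.app (U a)).hom ((str p (U a)).hom _ * x₀ a) = _
    rw [map_mul, hg, ← hx₀ a, e, map_mul, mul_assoc]
    rfl
  have hgy : ∀ a, (g.app (U a)).hom (y a) = (gv _).hom (φ τ) * w a := fun a => by
    have e : φ τ = φ (∏ b ∈ Finset.univ.erase a, t b) * φ (t a) := by
      rw [← map_mul, Finset.prod_erase_mul _ _ (Finset.mem_univ a)]
    show (g.app (U a)).hom ((str p (U a)).hom _ * y₀ a) = _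
    rw [map_mul, hg, ← hy₀ a, e, map_mul, mul_assoc]
    rfl
  have inj : ∀ {A : P.Opens} {z z' : Γ(P, A)}, (g.app A).hom z = (g.app A).hom z' → z = z' :=
    fun {A z z'} e => sub_eq_zero.1 (app_genPt_injective (p := p) (by rw [map_sub]; exact sub_eq_zero.2 e))
  refine ⟨σ * τ, mul_ne_zero hσ hτ, x, y, fun a b V ha hb => inj ?_, fun a b V ha hb => inj ?_,
    fun a => inj ?_⟩
  · rw [map_mul, app_rf, app_rf, app_rf]
    erw [hgx, hgx, rf_mul, rf_mul, str_rf, str_rf,
      TrivAlong.eq he a b (pre_mono g ha) (pre_mono g hb)]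
    exact mul_left_comm _ _ _
  · rw [map_mul, app_rf, app_rf, app_rf]
    erw [hgy, hgy, rf_mul, rf_mul, str_rf, str_rf]
    have e1 : rf (pre_mono g ha) (v a) * rf (pre_mono g ha) (w a) = 1 := by
      rw [← rf_mul, hw, Rigid.rf_one]
    have e2 : rf (pre_mono g hb) (v b) * rf (pre_mono g hb) (w b) = 1 := by
      rw [← rf_mul, hw, Rigid.rf_one]
    rw [TrivAlong.eq he a b (pre_mono g ha) (pre_mono g hb)] at e1
    refine Eq.trans ?_ (mul_left_comm _ _ _)
    congr 1
    exact inv_rel e1 e2
  · rw [map_mul, hgx, hgy, hg, map_mul, map_mul]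
    linear_combination (gv (g ⁻¹ᵁ U a)).hom (φ σ) * (gv (g ⁻¹ᵁ U a)).hom (φ τ) * hw a

variable [IsDiscreteValuationRing R]

/-- The morphism of the residue field. -/
abbrev sp (p : P ⟶ Spec R) : pullback p (Small.res R) ⟶ P := pullback.fst p (Small.res R)

/-- Triviality on the generic fibre specialises, granting the alternative for families whose
product vanishes on the special fibre. -/
theorem trivAlong_special [Flat p] [Finite ι] (hU : ∀ a, IsAffineOpen (U a)) (c : Cocycle U)
    (h : TrivAlong c (pullback.fst p (genPt R)))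
    (hd : ∀ x y : ∀ a, Γ(P, U a), IsRel c x → IsRelInv c y →
      (∀ a, ((sp p).app (U a)).hom (x a * y a) = 0) →
      (∀ a, ((sp p).app (U a)).hom (x a) = 0) ∨ ∀ a, ((sp p).app (U a)).hom (y a) = 0) :
    TrivAlong c (sp p) := by
  obtain ⟨ϖ, hϖ⟩ := IsDiscreteValuationRing.exists_irreducible R
  have hk : ∀ a (z : Γ(P, U a)), ((sp p).app (U a)).hom z = 0 ↔
      ∃ z', z = (str p (U a)).hom ϖ * z' := fun a z => by
    rw [← RingHom.mem_ker, (app_surjective (IsPullback.of_hasPullback p (Small.res R)) (hU a)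
      residue_surjective).2]
    erw [IsLocalRing.ker_residue, hϖ.maximalIdeal_eq, Ideal.map_span, Set.image_singleton,
      Ideal.mem_span_singleton]
    rfl
  have main : ∀ (n : ℕ) (x y : ∀ a, Γ(P, U a)), IsRel c x → IsRelInv c y →
      (∀ a, x a * y a = (str p (U a)).hom (ϖ ^ n)) → TrivAlong c (sp p) := by
    intro n
    induction n with
    | zero =>
      intro x y hx _ hxy
      exact trivAlong_of_isRel hx fun a => (IsUnit.of_mul_eq_one (y a)
        ((hxy a).trans (by rw [pow_zero, map_one]))).map _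
    | succ n ih =>
      intro x y hx hy hxy
      have hϖ0 : ϖ ≠ 0 := hϖ.ne_zero
      have hz : ∀ a, ((sp p).app (U a)).hom (x a * y a) = 0 := fun a => (hk a _).2
        ⟨(str p (U a)).hom (ϖ ^ n), by rw [hxy a, pow_succ', map_mul]⟩
      rcases hd x y hx hy hz with h0 | h0
      · choose x' hx' using fun a => (hk a (x a)).1 (h0 a)
        refine ih x' y (fun a b V ha hb => str_mul_cancel (p := p) hϖ0 ?_) hy fun a =>
          str_mul_cancel (p := p) hϖ0 ?_
        · have e := hx a b V ha hb
          rw [hx' a, hx' b, rf_mul, rf_mul, str_rf, str_rf] at e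
          linear_combination e
        · have e := hxy a
          rw [hx' a, pow_succ, map_mul] at e
          linear_combination e
      · choose y' hy' using fun a => (hk a (y a)).1 (h0 a)
        refine ih x y' hx (fun a b V ha hb => str_mul_cancel (p := p) hϖ0 ?_) fun a =>
          str_mul_cancel (p := p) hϖ0 ?_
        · have e := hy a b V ha hb
          rw [hy' a, hy' b, rf_mul, rf_mul, str_rf, str_rf] at e
          linear_combination e
        · have e := hxy a
          rw [hy' a, pow_succ, map_mul] at e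
          linear_combination e
  obtain ⟨s, hs, x, y, hx, hy, hxy⟩ := exists_pair hU c h
  obtain ⟨n, u, rfl⟩ := IsDiscreteValuationRing.eq_unit_mul_pow_irreducible hs hϖ
  refine main n (fun a => (str p (U a)).hom ↑u⁻¹ * x a) y (fun a b V ha hb => ?_) hy fun a => ?_
  · have e := hx a b V ha hb
    rw [rf_mul, rf_mul, str_rf, str_rf]
    linear_combination (str p V).hom (↑u⁻¹ : R) * e
  · show (str p (U a)).hom ↑u⁻¹ * x a * y a = _
    rw [mul_assoc, hxy, ← map_mul, ← mul_assoc, Units.inv_mul, one_mul]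

end

end Groth.Agent.Lib.Cube.Dvr
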