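import Groth.Agent.Lib.Cube.Regular
import Groth.Agent.Lib.ProjCoh.CechNat
import Groth.Agent.Lib.Ample.GG
import Mathlib.RingTheory.Filtration

/-!
# Separatedness of twisted first cohomology from finiteness
-/

set_option autoImplicit false
set_option linter.style.haveILetI false

universe u

open CategoryTheory CategoryTheory.Limits AlgebraicGeometry TopologicalSpace Opposite IsLocalRing

namespace Groth.Agent.Lib.Cube.SepOfFinite

open Groth.Agent.H97.GlueLine
open Groth.Agent.Lib.TensorMod Groth.Agent.Lib.TensorMod.Dual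
open Groth.Agent.Lib.Cech.Complex
open Groth.Agent.Lib.ProjCoh.CechNat
open Groth.Agent.Lib.Cube.Cech1 Groth.Agent.Lib.Cube.Regular Groth.Agent.Lib.Cube.AffineBC

noncomputable section

/-- First cohomology of invertible modules on proper schemes over Noetherian rings is finite. -/
def FinH1 : Prop :=
  ∀ (A : Type u) [CommRing A] [IsNoetherianRing A] (W : Scheme.{u})
    [W.Over (Spec (CommRingCat.of A))] [IsProper (W ↘ Spec (CommRingCat.of A))] (L : W.Modules),
    PicF.IsInvertible L → Module.Finite A (Coh.HH W L 1)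

variable {W : Scheme.{u}} {ι : Type u} {U : ι → W.Opens} (c : Cocycle U)

/-- The abelian sheaf of the glued module. -/
abbrev F : CohTop.Ab W.carrier := Coh.toAb (glue c)

/-- The Čech cochain of a twisted cochain of functions. -/
def cochain (g : C1 U) : Cochain U (F c).obj 1 := fun i =>
  (show Γ(glue c, inter U i) from
    rf (le_inf (inter_le U i 0) (inter_le U i 1)) (g (i 0) (i 1)) •
      rs (glue c) (inter_le U i 0) (gen c (i 0)))

theorem dC_cochain {g : C1 U} (hg : IsTw c g) : dC U (F c).obj 1 (cochain c g) = 0 := by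
  funext i
  rw [dC_apply, Fin.sum_univ_three]
  simp only [Fin.val_zero, Fin.val_one, Fin.val_two, pow_zero, pow_one, neg_one_sq, one_smul, neg_smul]
  let V : W.Opens := inter U i
  have h0 : V ≤ U (i 0) := inter_le U i 0
  have h1 : V ≤ U (i 1) := inter_le U i 1
  have h2 : V ≤ U (i 2) := inter_le U i 2
  show @HAdd.hAdd Γ(glue c, V) Γ(glue c, V) Γ(glue c, V) instHAdd
    (rs (glue c) _ (rf _ (g (i 1) (i 2)) • rs (glue c) _ (gen c (i 1))) +
      -rs (glue c) _ (rf _ (g (i 0) (i 2)) • rs (glue c) _ (gen c (i 0))))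
    (rs (glue c) _ (rf _ (g (i 0) (i 1)) • rs (glue c) _ (gen c (i 0)))) = (0 : Γ(glue c, V))
  simp only [rs_smul, rs_rs, rf_rf]
  rw [show rs (glue c) h1 (gen c (i 1)) = _ from rs_gen c (i 0) (i 1) h0 h1, smul_smul]
  erw [← neg_smul, ← add_smul, ← add_smul]
  have e := hg (i 0) (i 1) (i 2) V h0 h1 h2
  convert zero_smul Γ(W, V) (rs (glue c) h0 (gen c (i 0))) using 2
  simp only [Cocycle.tr]
  linear_combination e

theorem isTwCob_of_dC {g : C1 U} {b : Cochain U (F c).obj 0}
    (hb : dC U (F c).obj 0 b = cochain c g) : IsTwCob c g := by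
  let b' : ∀ j : Fin (0 + 1) → ι, Γ(glue c, inter U j) := b
  let const : ι → Fin (0 + 1) → ι := fun a _ => a
  have hc : ∀ a, U a ≤ inter U (const a) := fun a => le_iInf fun _ => le_rfl
  choose w hw using fun a => Ample.GenLocus.exists_coord (isGen_gen c a) (rs (glue c) (hc a) (b' (const a)))
  refine ⟨fun a => -w a, fun a d => ?_⟩
  let i : Fin (1 + 1) → ι := ![a, d]
  have hi : U a ⊓ U d ≤ inter U i := le_iInf fun k => by fin_cases k <;> simp [i]
  have h1 := congrFun hb i
  rw [dC_apply, Fin.sum_univ_two] at h1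
  simp only [Fin.val_zero, Fin.val_one, pow_zero, pow_one, one_smul, neg_smul] at h1
  have h2 : rs (glue c) (inter_le_face U i 0) (b' (i ∘ Fin.succAbove 0)) +
      -rs (glue c) (inter_le_face U i 1) (b' (i ∘ Fin.succAbove 1)) =
      (show Γ(glue c, inter U i) from rf (le_inf (inter_le U i 0) (inter_le U i 1)) (g (i 0) (i 1)) •
        rs (glue c) (inter_le U i 0) (gen c (i 0))) := h1
  have e0 : i ∘ Fin.succAbove 0 = const d := funext fun k => by fin_cases k; rfl
  have e1 : i ∘ Fin.succAbove 1 = const a := funext fun k => by fin_cases k; rfl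
  have key : ∀ (j j' : Fin (0 + 1) → ι) (_ : j = j') (A : W.Opens) (hj : A ≤ inter U j)
      (hj' : A ≤ inter U j'), rs (glue c) hj (b' j) = rs (glue c) hj' (b' j') := by
    rintro j _ rfl A hj hj'; rfl
  have h3 := congrArg (rs (glue c) hi) h2
  erw [HomGlue.rs_add, rs_rs, rs_smul, rs_rs, rf_rf, rf_self] at h3
  have h4 : rs (glue c) hi (-rs (glue c) (inter_le_face U i 1) (b' (i ∘ Fin.succAbove 1))) =
      -(rf (inf_le_left : U a ⊓ U d ≤ U a) (w a) • rs (glue c) (inf_le_left : U a ⊓ U d ≤ U a) (gen c a)) := by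
    refine (map_neg ((glue c).presheaf.map (homOfLE hi).op).hom _).trans (congrArg Neg.neg ?_)
    rw [← rs_smul, ← hw, rs_rs]
    exact (rs_rs _ _ _ _).trans (key _ _ e1 _ _ _)
  have h5 : rs (glue c) (hi.trans (inter_le_face U i 0)) (b' (i ∘ Fin.succAbove 0)) =
      (c.u a d * rf (inf_le_right : U a ⊓ U d ≤ U d) (w d)) • rs (glue c) (inf_le_left : U a ⊓ U d ≤ U a) (gen c a) := by
    rw [key _ _ e0 _ _ (inf_le_right.trans (hc d)), ← rs_rs (glue c) (hc d) inf_le_right, hw, rs_smul,
      rs_gen c a d inf_le_left inf_le_right, smul_smul, mul_comm]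
    congr 2
    exact rf_self _ _
  erw [h4, h5] at h3
  rw [← neg_smul, ← add_smul] at h3
  have h6 := (isGen_gen c a (U a ⊓ U d) inf_le_left).1 h3
  have h7 : ∀ {A B : W.Opens} (h : A ≤ B) (x : Γ(W, B)), rf h (-x) = -rf h x :=
    fun h x => map_neg _ x
  rw [h7, h7]
  refine h6.symm.trans ?_
  ring

variable {R : CommRingCat.{u}} [IsLocalRing R] [IsNoetherianRing R]

omit [IsLocalRing R] [IsNoetherianRing R] in
theorem interAcyclic (C : Ctx (Spec R)) :
    Groth.Agent.Lib.Cech.Compare.InterAcyclic C.U (F C.c) := by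
  haveI := C.isSeparated
  haveI : (glue C.c).IsQuasicoherent := (Ample.GG.isCoh_of_isInvertible (isInvertible_glue C.c C.hUc)).1
  exact fun q i n => ZarCoh.Affine.HU_subsingleton _
    (show IsAffineOpen (⨅ a, C.U (i a)) from IsAffineOpen.iInf fun a => C.hU (i a)) n

/-- Twisted first cohomology is separated when first cohomology is finite. -/
theorem sep_of_finH1 (hfin : FinH1.{u}) (C : Ctx (Spec R)) {x : R} (hx : x ∈ maximalIdeal R) :
    Sep C x := by
  haveI : IsLocallyNoetherian C.W := LocallyOfFiniteType.isLocallyNoetherian C.pw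
  letI : C.W.Over (Spec (CommRingCat.of R)) := ⟨C.pw⟩
  haveI : IsProper (C.W ↘ Spec (CommRingCat.of R)) := inferInstanceAs (IsProper C.pw)
  haveI := hfin R C.W (glue C.c) (isInvertible_glue C.c C.hUc)
  obtain ⟨K⟩ := nonempty_comparison C.U C.hUc 1
  let hI := interAcyclic C
  let z : ∀ g : C1 C.U, IsTw C.c g → Coh.HH C.W (glue C.c) 1 := fun g hg =>
    (K.e (F C.c) hI).hom (cls (U := C.U) (F C.c).obj (cochain C.c g) (dC_cochain C.c hg))
  intro g hg happrox
  suffices h0 : z g hg = 0 by
    have hc0 : cls (U := C.U) (F C.c).obj (cochain C.c g) (dC_cochain C.c hg) = 0 :=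
      (AddCommGrpCat.mono_iff_injective (K.e (F C.c) hI).hom).1 inferInstance
        (h0.trans (map_zero _).symm)
    obtain ⟨b, hb⟩ := exists_of_cls_eq_zero _ _ _ hc0
    exact isTwCob_of_dC C.c hb
  have hmem : ∀ n : ℕ, z g hg ∈ (Ideal.span {x} ^ n • ⊤ : Submodule R (Coh.HH C.W (glue C.c) 1)) := by
    intro n
    obtain ⟨h, hh, w, hw⟩ := happrox n
    let r : R := x ^ n
    let φ := Coh.smulAb (glue C.c) (Coh.toGlobal (C.W ↘ Spec (CommRingCat.of R)) r)
    let b : Cochain C.U (F C.c).obj 0 := fun j =>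
      (show Γ(glue C.c, inter C.U j) from
        -(rf (inter_le C.U j 0) (w (j 0)) • rs (glue C.c) (inter_le C.U j 0) (gen C.c (j 0))))
    have hdec : cochain C.c g = Groth.Agent.Lib.Cech.Complex.map φ.hom 1 (cochain C.c h) + dC C.U (F C.c).obj 0 b := by
      funext i
      rw [Pi.add_apply, dC_apply, Fin.sum_univ_two]
      simp only [Fin.val_zero, Fin.val_one, pow_zero, pow_one, one_smul, neg_smul]
      let V : C.W.Opens := inter C.U i
      have h0 : V ≤ C.U (i 0) := inter_le C.U i 0
      have h1 : V ≤ C.U (i 1) := inter_le C.U i 1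
      show cochain C.c g i = @HAdd.hAdd Γ(glue C.c, V) Γ(glue C.c, V) Γ(glue C.c, V) instHAdd
        (φ.hom.app (op V) (cochain C.c h i))
        (rs (glue C.c) (inter_le_face C.U i 0) (b (i ∘ Fin.succAbove 0)) +
          -rs (glue C.c) (inter_le_face C.U i 1) (b (i ∘ Fin.succAbove 1)))
      have hφ : φ.hom.app (op V) (cochain C.c h i) = (str C.pw V).hom r •
          (rf (le_inf h0 h1) (h (i 0) (i 1)) • rs (glue C.c) h0 (gen C.c (i 0))) := by
        refine (Coh.smulAb_app _ _ _ _).trans ?_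
        apply congrArg (fun t : Γ(C.W, V) => t • (rf (le_inf h0 h1) (h (i 0) (i 1)) • rs (glue C.c) h0 (gen C.c (i 0))))
        exact ConcreteCategory.congr_hom (show ((Scheme.ΓSpecIso (CommRingCat.of R)).inv ≫ C.pw.appTop) ≫
          C.W.presheaf.map (homOfLE (le_top : V ≤ ⊤)).op = str C.pw V by
            rw [AffineBC.str, Category.assoc]; rfl) r
      rw [hφ]
      simp only [b]
      have hneg : ∀ {A B : C.W.Opens} (h : A ≤ B) (m : Γ(glue C.c, B)),
          rs (glue C.c) h (-m) = -rs (glue C.c) h m := fun h m => map_neg _ m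
      erw [hneg, hneg, rs_smul, rs_smul, rs_rs, rs_rs, rf_rf, rf_rf]
      rw [neg_neg]
      change cochain C.c g i = (str C.pw V).hom r • rf (le_inf h0 h1) (h (i 0) (i 1)) • rs (glue C.c) h0 (gen C.c (i 0)) +
        (-(rf h1 (w (i 1)) • rs (glue C.c) h1 (gen C.c (i 1))) + rf h0 (w (i 0)) • rs (glue C.c) h0 (gen C.c (i 0)))
      rw [show rs (glue C.c) h1 (gen C.c (i 1)) = _ from rs_gen C.c (i 0) (i 1) h0 h1,
        smul_smul, smul_smul, ← neg_smul, ← add_smul, ← add_smul]
      show rf _ (g (i 0) (i 1)) • rs (glue C.c) h0 (gen C.c (i 0)) = _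
      congr 1
      have e := congrArg (rf (X := C.W) (le_inf h0 h1)) (hw (i 0) (i 1))
      simp only [rf_sub, Triv.rf_mul, rf_rf, Small.str_rf] at e
      simp only [Cocycle.tr]
      linear_combination e
    have hz : z g hg = r • z h hh := by
      have e1 : cls (U := C.U) (F C.c).obj (cochain C.c g) (dC_cochain C.c hg) =
          cls (U := C.U) (F C.c).obj (Groth.Agent.Lib.Cech.Complex.map φ.hom 1 (cochain C.c h))
            (by rw [← map_dC, dC_cochain C.c hh, map_zero]) := by
        have e3 := cls_add (U := C.U) (F C.c).obj (Groth.Agent.Lib.Cech.Complex.map φ.hom 1 (cochain C.c h))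
          (dC C.U (F C.c).obj 0 b) (by rw [← map_dC, dC_cochain C.c hh, map_zero]) (dC_dC _ _ _ b)
        refine (Eq.trans ?_ e3).trans ?_
        · congr 1
        rw [cls_eq_zero_of, add_zero]
      show (K.e (F C.c) hI).hom _ = _
      rw [e1, ← cls_map (U := C.U) (F C.c).obj φ.hom (cochain C.c h) (dC_cochain C.c hh)]
      exact (ConcreteCategory.congr_hom (K.nat (F C.c) (F C.c) φ hI hI) _).symm
    rw [hz]
    exact Submodule.smul_mem_smul (Ideal.pow_mem_pow (Ideal.mem_span_singleton_self x) n) Submodule.mem_top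
  have hKrull := Ideal.iInf_pow_smul_eq_bot_of_isLocalRing (M := Coh.HH C.W (glue C.c) 1)
    (Ideal.span {x}) (fun e => (maximalIdeal.isMaximal R).ne_top (top_le_iff.1
      (e.symm.trans_le ((Ideal.span_singleton_le_iff_mem _).2 hx))))
  rw [← Submodule.mem_bot R, ← hKrull]
  exact (Submodule.mem_iInf _).2 hmem

end

end Groth.Agent.Lib.Cube.SepOfFinite
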