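import Groth.Agent.Lib.Cube.SemiCont
import Groth.Agent.Lib.Cube.Dvr
import Groth.Agent.Lib.Cube.SepOfFinite
import Groth.Agent.Lib.Exchange.Proper
import Groth.Agent.H34.UFDExt.Gen

/-!
# Invariant families on fibres as homology of a complex of finite free modules

For a flat proper scheme over a Noetherian ring with a cocycle on a finite affine cover, the
invariant families on the fibres are the degree zero fibre homology of a complex of finite free
modules, hence semicontinuous.
-/

set_option autoImplicit false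
set_option linter.style.haveILetI false

universe u

open CategoryTheory CategoryTheory.Limits AlgebraicGeometry TopologicalSpace Opposite
open scoped TensorProduct

namespace Groth.Agent.Lib.Cube.FamCx

open Groth.Agent.Lib.TensorMod.Dual (rf rs rf_rf rf_self rs_rs rs_smul)
open Groth.Agent.Lib.TensorMod.Gen (IsGen)
open Groth.Agent.Lib.Cube.Triv Groth.Agent.Lib.Cube.Cech1 Groth.Agent.Lib.Cube.AffineBC
open Groth.Agent.H97.GlueLine
open Groth.Agent.Lib.Cech.Complex (inter inter_le inter_le_face)
open Groth.Agent.Lib.CechRes.Sec (rho secA toSec ofSec)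
open ZarCoh.Exchange.Complex

noncomputable section

/-- A module with local generators is flat over the base when the scheme is. -/
theorem isFlatOver_of_isInvertible {X S : Scheme.{u}} (f : X ⟶ S) [Flat f] {M : X.Modules}
    (hM : PicF.IsInvertible M) : FlatMod.IsFlatOver f M := by
  intro x
  obtain ⟨U, e, hx, he⟩ := TensorMod.Gen.isInvertible_iff.1 hM x
  have hbij := H34.UFDExt.Gen.IsGen.stalk_bijective (M := M) (fun W h => he W h) hx
  show letI := FlatMod.moduleStalkOver f M x; Module.Flat _ _
  letI := FlatMod.moduleStalkOver f M x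
  letI : Algebra (S.presheaf.stalk (f.base x)) (X.presheaf.stalk x) := (f.stalkMap x).hom.toAlgebra
  haveI : IsScalarTower (S.presheaf.stalk (f.base x)) (X.presheaf.stalk x) (M.presheaf.stalk x) :=
    IsScalarTower.of_algebraMap_smul fun _ _ => rfl
  haveI : Module.Flat (S.presheaf.stalk (f.base x)) (X.presheaf.stalk x) := Flat.stalkMap f x
  exact Module.Flat.of_linearEquiv ((LinearEquiv.ofBijective (LinearMap.toSpanSingleton
    (X.presheaf.stalk x) (M.presheaf.stalk x) (M.presheaf.germ U x hx e)) hbij).restrictScalars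
      (S.presheaf.stalk (f.base x))).symm

variable {A : Type u} [CommRing A] {W : Scheme.{u}} [W.Over (Spec (CommRingCat.of A))]
  {ι : Type u} {U : ι → W.Opens} (c : Cocycle U)

local notation "pW" => (W ↘ Spec (CommRingCat.of A))

theorem rho_eq (V : W.Opens) (r : A) :
    rho pW V r = (str (R := CommRingCat.of A) pW V).hom r := rfl

/-- Functions on an open as a module over the base. -/
def algV (V : W.Opens) : Algebra A Γ(W, V) := (rho pW V).toAlgebra

attribute [local instance] algV

theorem le_inter (a : ι) : U a ≤ inter U (fun _ : Fin (0 + 1) => a) := le_iInf fun _ => le_rfl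

theorem inter_le_pair (i : Fin (1 + 1) → ι) : inter U i ≤ U (i 0) ⊓ U (i 1) :=
  le_inf (inter_le U i 0) (inter_le U i 1)

theorem smul_aux {V V' : W.Opens} (h : V' ≤ V) (r : A) (a : Γ(W, V)) (g : Γ(glue c, V')) :
    rf h (rho pW V r * a) • g = rho pW V' r • (rf h a • g) := by
  rw [Triv.rf_mul, mul_smul, show rf h (rho pW V r) = rho pW V' r from CechRes.Sec.rho_res pW h r]

/-- Functions on the members as cochains of the glued module. -/
def toC0 : (∀ a, Γ(W, U a)) →ₗ[A] CM A U (glue c) 0 :=
  LinearMap.pi fun i =>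
    { toFun := fun x => toSec pW (rf (inter_le U i 0) (x (i 0)) • rs (glue c) (inter_le U i 0) (gen c (i 0)))
      map_add' := fun x y => by
        simp only [Pi.add_apply, Cech1.rf_add, add_smul]
        rfl
      map_smul' := fun r x => smul_aux c (inter_le U i 0) r (x (i 0)) _ }

/-- Functions on the double intersections as cochains of the glued module. -/
def toC1 : (∀ ab : ι × ι, Γ(W, U ab.1 ⊓ U ab.2)) →ₗ[A] CM A U (glue c) 1 :=
  LinearMap.pi fun i =>
    { toFun := fun g => toSec pW
        (rf (inter_le_pair i) (g (i 0, i 1)) • rs (glue c) (inter_le U i 0) (gen c (i 0)))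
      map_add' := fun x y => by
        simp only [Pi.add_apply, Cech1.rf_add, add_smul]
        rfl
      map_smul' := fun r x => smul_aux c (inter_le_pair i) r (x (i 0, i 1)) _ }

/-- The deviation from invariance. -/
def dev : (∀ a, Γ(W, U a)) →ₗ[A] ∀ ab : ι × ι, Γ(W, U ab.1 ⊓ U ab.2) :=
  LinearMap.pi fun ab =>
    { toFun := fun x => c.u ab.1 ab.2 * rf inf_le_right (x ab.2) - rf inf_le_left (x ab.1)
      map_add' := fun x y => by
        simp only [Pi.add_apply, Cech1.rf_add, mul_add]
        ring
      map_smul' := fun r x => by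
        have e : ∀ (a : ι) (h : U ab.1 ⊓ U ab.2 ≤ U a), rf h ((r • x) a) = rho pW _ r * rf h (x a) :=
          fun a h => by
            show rf h (rho pW (U a) r * x a) = _
            rw [Triv.rf_mul]
            congr 1
            exact CechRes.Sec.rho_res pW _ r
        rw [e, e]
        show _ = rho pW _ r * _
        ring }

theorem dA_toC0 (x : ∀ a, Γ(W, U a)) : dA A U (glue c) 0 (toC0 (A := A) c x) = toC1 (A := A) c (dev (A := A) c x) := by
  rw [dA_eq]
  funext i
  rw [Cech.Complex.dC_apply, Fin.sum_univ_two]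
  simp only [Fin.val_zero, Fin.val_one, pow_zero, pow_one, one_smul, neg_smul]
  let V : W.Opens := inter U i
  have h0 : V ≤ U (i 0) := inter_le U i 0
  have h1 : V ≤ U (i 1) := inter_le U i 1
  show @HAdd.hAdd Γ(glue c, V) Γ(glue c, V) Γ(glue c, V) instHAdd
    (rs (glue c) (inter_le_face U i 0) (toC0 (A := A) c x (i ∘ Fin.succAbove 0)))
    (-rs (glue c) (inter_le_face U i 1) (toC0 (A := A) c x (i ∘ Fin.succAbove 1))) =
      rf (inter_le_pair i) (dev (A := A) c x (i 0, i 1)) • rs (glue c) h0 (gen c (i 0))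
  have e0 : rs (glue c) (inter_le_face U i 0) (toC0 (A := A) c x (i ∘ Fin.succAbove 0)) =
      rf h1 (x (i 1)) • rs (glue c) h1 (gen c (i 1)) := by
    refine (rs_smul _ _ _ _).trans ?_
    rw [rf_rf, rs_rs]
    rfl
  have e1 : rs (glue c) (inter_le_face U i 1) (toC0 (A := A) c x (i ∘ Fin.succAbove 1)) =
      rf h0 (x (i 0)) • rs (glue c) h0 (gen c (i 0)) := by
    refine (rs_smul _ _ _ _).trans ?_
    rw [rf_rf, rs_rs]
    rfl
  rw [e0, e1, show rs (glue c) h1 (gen c (i 1)) = _ from rs_gen c (i 0) (i 1) h0 h1, smul_smul,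
    ← neg_smul, ← add_smul]
  congr 1
  simp only [dev, LinearMap.pi_apply, LinearMap.coe_mk, AddHom.coe_mk, Cech1.rf_sub, Triv.rf_mul,
    rf_rf, Cocycle.tr]
  ring

theorem rs_self {M : W.Modules} {V : W.Opens} (m : Γ(M, V)) (h : V ≤ V) : rs M h m = m := by
  show M.presheaf.map (homOfLE h).op m = m
  rw [show (homOfLE h).op = 𝟙 (op V) from rfl, M.presheaf.map_id]
  rfl

theorem toC0_bijective : Function.Bijective (toC0 (A := A) c) := by
  constructor
  · intro x y h
    funext a
    have h1 := congrFun h (fun _ => a)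
    have h2 : rf (inter_le U (fun _ : Fin (0 + 1) => a) 0) (x a) =
        rf (inter_le U (fun _ : Fin (0 + 1) => a) 0) (y a) :=
      (isGen_gen c a (inter U fun _ : Fin (0 + 1) => a) (inter_le U _ 0)).1 h1
    have h3 := congrArg (rf (le_inter a)) h2
    rw [rf_rf, rf_rf, rf_self, rf_self] at h3
    exact h3
  · intro m
    choose x hx using fun a => Ample.GenLocus.exists_coord (isGen_gen c a)
      (rs (glue c) (le_inter a) (ofSec pW (m fun _ => a)))
    refine ⟨x, funext fun i => ?_⟩
    have hi : i = fun _ => i 0 := funext fun k => congrArg i (Fin.fin_one_eq_zero k)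
    obtain ⟨a, rfl⟩ : ∃ a, i = fun _ : Fin (0 + 1) => a := ⟨i 0, hi⟩
    show rf (inter_le U (fun _ : Fin (0 + 1) => a) 0) (x a) •
      rs (glue c) (inter_le U (fun _ : Fin (0 + 1) => a) 0) (gen c a) = _
    rw [← rs_smul, ← hx, rs_rs]
    exact rs_self _ _

theorem pair_le (a b : ι) : U a ⊓ U b ≤ inter U (![a, b] : Fin (1 + 1) → ι) :=
  le_iInf fun k => by fin_cases k <;> simp

theorem toC1_bijective : Function.Bijective (toC1 (A := A) c) := by
  constructor
  · intro x y h
    funext ⟨a, b⟩
    have h1 := congrFun h ![a, b]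
    have h2 : rf (inter_le_pair ![a, b]) (x (a, b)) = rf (inter_le_pair ![a, b]) (y (a, b)) :=
      (isGen_gen c a (inter U ![a, b]) (inter_le U ![a, b] 0)).1 h1
    have h3 := congrArg (rf (pair_le a b)) h2
    erw [rf_rf, rf_rf, rf_self, rf_self] at h3
    exact h3
  · intro m
    choose x hx using fun ab : ι × ι => Ample.GenLocus.exists_coord
      ((isGen_gen c ab.1).res (inf_le_left : U ab.1 ⊓ U ab.2 ≤ U ab.1))
      (rs (glue c) (pair_le ab.1 ab.2) (ofSec pW (m ![ab.1, ab.2])))
    refine ⟨x, funext fun i => ?_⟩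
    obtain ⟨a, b, rfl⟩ : ∃ a b, i = ![a, b] := ⟨i 0, i 1, funext fun k => by fin_cases k <;> rfl⟩
    show rf (inter_le_pair ![a, b]) (x (a, b)) • rs (glue c) (inter_le U ![a, b] 0) (gen c a) = _
    have h := congrArg (rs (glue c) (inter_le_pair ![a, b])) (hx (a, b))
    erw [rs_smul, rs_rs, rs_rs] at h
    exact h.symm.trans (rs_self _ _)

theorem ker_dev_iff {M : Type u} [AddCommGroup M] [Module A M] (z : (∀ a, Γ(W, U a)) ⊗[A] M) :
    (dA A U (glue c) 0).rTensor M ((toC0 c).rTensor M z) = 0 ↔ (dev c).rTensor M z = 0 := by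
  have e : (dA A U (glue c) 0).rTensor M ((toC0 c).rTensor M z) =
      (toC1 c).rTensor M ((dev c).rTensor M z) := by
    rw [← LinearMap.rTensor_comp_apply, ← LinearMap.rTensor_comp_apply]
    congr 2
    exact LinearMap.ext (dA_toC0 c)
  rw [e]
  exact map_eq_zero_iff _ ((LinearEquiv.ofBijective _ (toC1_bijective c)).rTensor M).injective

end

end Groth.Agent.Lib.Cube.FamCx
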