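import Groth.Agent.Lib.FlatCx.Fkr
import Groth.Agent.Lib.FlatCx.DRank
import Mathlib.RingTheory.LocalRing.ResidueField.Ideal

/-!
# Fibre homology of complexes of finite flat modules in degree zero
-/

set_option autoImplicit false

universe u

open CategoryTheory TensorProduct
open Groth.Agent.Lib.FlatCx.Basic Groth.Agent.Lib.FlatCx.HKer Groth.Agent.Lib.FlatCx.BaseChange

namespace Groth.Agent.Lib.Cube.SemiCont

noncomputable section

variable {A : Type u} [CommRing A]

/-- Maps of modules over a residue field which are linear over the ring are linear over the field. -/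
def residueLinearEquiv (x : PrimeSpectrum A) {M N : Type u} [AddCommGroup M] [AddCommGroup N]
    [Module x.asIdeal.ResidueField M] [Module x.asIdeal.ResidueField N] [Module A M] [Module A N]
    [IsScalarTower A x.asIdeal.ResidueField M] [IsScalarTower A x.asIdeal.ResidueField N]
    (e : M ≃ₗ[A] N) : M ≃ₗ[x.asIdeal.ResidueField] N :=
  { e with
    map_smul' := fun c m => by
      obtain ⟨a, s, hs, rfl⟩ := IsFractionRing.div_surjective (A ⧸ x.asIdeal) c
      obtain ⟨a, rfl⟩ := Ideal.Quotient.mk_surjective a
      obtain ⟨s, rfl⟩ := Ideal.Quotient.mk_surjective s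
      have hs0 : algebraMap A x.asIdeal.ResidueField s ≠ 0 := by
        rw [IsScalarTower.algebraMap_apply A (A ⧸ x.asIdeal) x.asIdeal.ResidueField]
        exact (map_ne_zero_iff _ (IsFractionRing.injective (A ⧸ x.asIdeal) _)).2
          (nonZeroDivisors.ne_zero hs)
      have key : ∀ r : A, algebraMap (A ⧸ x.asIdeal) x.asIdeal.ResidueField (Ideal.Quotient.mk _ r) =
          algebraMap A x.asIdeal.ResidueField r := fun r => rfl
      show e _ = _ • e m
      rw [key, key]
      refine (smul_right_injective N hs0) ?_
      show algebraMap A _ s • e _ = algebraMap A _ s • (_ • e m)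
      simp only [RingHom.id_apply]
      rw [algebraMap_smul, ← map_smul, ← algebraMap_smul x.asIdeal.ResidueField s, smul_smul,
        smul_smul, mul_div_cancel₀ _ hs0, algebraMap_smul, algebraMap_smul, map_smul] }

variable (P : ChainComplex (ModuleCat.{u} A) ℤ)

/-- The homology of the base change to a residue field is the tensored homology. -/
def bcEquiv (p q : ℤ) (hpq : q + 1 = p) (x : PrimeSpectrum A) :
    LinearMap.ker ((Dbar P p q).baseChange x.asIdeal.ResidueField) ≃ₗ[A]
      CohIII.T P p (ModuleCat.of A x.asIdeal.ResidueField) :=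
  LinearEquiv.trans
    ({ toFun := fun z => ⟨TensorProduct.comm A _ _ z.1, by
          have h : (Dbar P p q).lTensor x.asIdeal.ResidueField z.1 = 0 := z.2
          show (Dbar P p q).rTensor _ (TensorProduct.comm A _ _ z.1) = 0
          rw [show (Dbar P p q).rTensor x.asIdeal.ResidueField (TensorProduct.comm A _ _ z.1) =
            TensorProduct.comm A _ _ ((Dbar P p q).lTensor x.asIdeal.ResidueField z.1) from
              (LinearMap.congr_fun (LinearMap.rTensor_comp_comm ..) z.1), h, map_zero]⟩
       invFun := fun z => ⟨(TensorProduct.comm A _ _).symm z.1, by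
          have h : (Dbar P p q).rTensor x.asIdeal.ResidueField z.1 = 0 := z.2
          show (Dbar P p q).lTensor x.asIdeal.ResidueField ((TensorProduct.comm A _ _).symm z.1) = 0
          apply (TensorProduct.comm A x.asIdeal.ResidueField (P.X q)).injective
          rw [← show (Dbar P p q).rTensor x.asIdeal.ResidueField
              (TensorProduct.comm A _ _ ((TensorProduct.comm A _ _).symm z.1)) =
            TensorProduct.comm A _ _ ((Dbar P p q).lTensor x.asIdeal.ResidueField
              ((TensorProduct.comm A _ _).symm z.1)) from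
              (LinearMap.congr_fun (LinearMap.rTensor_comp_comm ..) _), LinearEquiv.apply_symm_apply, h,
            map_zero]⟩
       left_inv := fun z => Subtype.ext (LinearEquiv.symm_apply_apply _ _)
       right_inv := fun z => Subtype.ext (LinearEquiv.apply_symm_apply _ _)
       map_add' := fun a b => Subtype.ext (map_add _ _ _)
       map_smul' := fun a b => Subtype.ext (map_smul _ _ _) } :
      LinearMap.ker ((Dbar P p q).baseChange x.asIdeal.ResidueField) ≃ₗ[A]
        LinearMap.ker ((Dbar P p q).rTensor x.asIdeal.ResidueField))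
    (TKerEquiv P (ModuleCat.of A x.asIdeal.ResidueField) hpq).symm

theorem dRank_eq (p q : ℤ) (hpq : q + 1 = p) (x : PrimeSpectrum A) :
    CohIII.dRank P p x =
      Module.finrank x.asIdeal.ResidueField (LinearMap.ker ((Dbar P p q).baseChange x.asIdeal.ResidueField)) :=
  (homologyKerEquiv (bc P x.asIdeal.ResidueField) hpq ≪≫ₗ kerDbarEquiv P x.asIdeal.ResidueField p q).finrank_eq

theorem dRank_eq_zero_iff (hP : ∀ i, Module.Finite A (P.X i)) (p : ℤ) (x : PrimeSpectrum A) :
    CohIII.dRank P p x = 0 ↔ Subsingleton (CohIII.T P p (ModuleCat.of A x.asIdeal.ResidueField)) := by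
  haveI := hP p
  haveI : Module.Finite A (Q P p) := Module.Finite.quotient _ _
  haveI : Module.Finite x.asIdeal.ResidueField
      (LinearMap.ker ((Dbar P p (p - 1)).baseChange x.asIdeal.ResidueField)) :=
    FiniteDimensional.finiteDimensional_submodule _
  rw [dRank_eq P p (p - 1) (by omega) x]
  exact (Module.finrank_zero_iff (R := x.asIdeal.ResidueField)
    (M := ↥(LinearMap.ker ((Dbar P p (p - 1)).baseChange x.asIdeal.ResidueField)))).trans
      (bcEquiv P p (p - 1) (by omega) x).toEquiv.subsingleton_congr

theorem dRank_eq_one (p : ℤ) (x : PrimeSpectrum A)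
    (e : CohIII.T P p (ModuleCat.of A x.asIdeal.ResidueField) ≃ₗ[A] x.asIdeal.ResidueField) :
    CohIII.dRank P p x = 1 := by
  rw [dRank_eq P p (p - 1) (by omega) x]
  exact (residueLinearEquiv (M := ↥(LinearMap.ker ((Dbar P p (p - 1)).baseChange x.asIdeal.ResidueField))) (N := x.asIdeal.ResidueField) x ((bcEquiv P p (p - 1) (by omega) x).trans e)).finrank_eq.trans
    (Module.finrank_self _)

variable [IsNoetherianRing A] (hP : ∀ i, Module.Finite A (P.X i) ∧ Module.Flat A (P.X i))

include hP in
/-- The vanishing locus of the fibre homology is open. -/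
theorem isOpen_subsingleton (p : ℤ) :
    IsOpen {x : PrimeSpectrum A | Subsingleton (CohIII.T P p (ModuleCat.of A x.asIdeal.ResidueField))} := by
  convert (FlatCx.DRank.upperSemicontinuous_dRank P hP p).isOpen_preimage 1 using 1
  ext x
  rw [Set.mem_ofPred_eq, ← dRank_eq_zero_iff P (fun i => (hP i).1) p x]
  exact Nat.lt_one_iff.symm

include hP in
/-- Over a reduced ring, homology whose fibres are lines commutes with surjections. -/
theorem preservesEpi_of_fibres [IsReduced A] (p : ℤ)
    (e : ∀ x : PrimeSpectrum A,
      Nonempty (CohIII.T P p (ModuleCat.of A x.asIdeal.ResidueField) ≃ₗ[A] x.asIdeal.ResidueField)) :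
    (CohIII.TFun P p).PreservesEpimorphisms := by
  refine (FlatCx.DRank.exact_of_isLocallyConstant_dRank P hP p ?_).2
  rw [show CohIII.dRank P p = fun _ => 1 from funext fun x => dRank_eq_one P p x (e x).some]
  exact IsLocallyConstant.const 1

end

end Groth.Agent.Lib.Cube.SemiCont
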