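import Groth.Agent.Lib.Cube.SeesawCons
import Groth.Agent.Lib.Ample.CounitGen
import Groth.Agent.Lib.TensorMod.GenLocal
import Groth.Prelude.Def_CohBC2

/-!
# Sections with surjective base change to an integral fibre generate near the fibre
-/

set_option autoImplicit false
set_option linter.style.haveILetI false

noncomputable section

universe u

open CategoryTheory CategoryTheory.Limits AlgebraicGeometry Opposite TopologicalSpace

namespace Groth.Agent.Lib.Cube.FibreGen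

open TensorMod TensorMod.Basic TensorMod.Dual TensorMod.Gen TensorMod.Pullback TensorMod.HomGlue Ample.GenLocus

variable {X S S' X' : Scheme.{u}}

theorem bc0Adj_app (f : X ⟶ S) (g : S' ⟶ S) (f' : X' ⟶ S') (g' : X' ⟶ X) (w : g' ≫ f = f' ≫ g)
    (L : X.Modules) (W : S.Opens) (hle : f' ⁻¹ᵁ (g ⁻¹ᵁ W) ≤ g' ⁻¹ᵁ (f ⁻¹ᵁ W)) (m : Γ(L, f ⁻¹ᵁ W)) :
    (CohBC.bc0Adj f g f' g' w L).app W m = rs ((pb g').obj L) hle (unitSec g' L m) := rfl

theorem preimage_le (f : X ⟶ S) (g : S' ⟶ S) (f' : X' ⟶ S') (g' : X' ⟶ X) (w : g' ≫ f = f' ≫ g)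
    (W : S.Opens) : f' ⁻¹ᵁ (g ⁻¹ᵁ W) ≤ g' ⁻¹ᵁ (f ⁻¹ᵁ W) := fun z hz => by
  show f (g' z) ∈ W
  rw [← Scheme.Hom.comp_apply, w, Scheme.Hom.comp_apply]
  exact hz

theorem subsingleton_sections_bot {P : Scheme.{u}} (M : P.Modules) {U : P.Opens} (h : U = ⊥) :
    Subsingleton Γ(M, U) := by
  subst h
  exact AddCommGrpCat.subsingleton_of_isZero
    (TopCat.Sheaf.isTerminalOfEmpty ⟨M.presheaf, M.isSheaf⟩).isZero

/-- If base change to a point is surjective and the target has a non-zero section, some section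
from the base survives. -/
theorem exists_ne_zero (f : X ⟶ S) (g : S' ⟶ S) (f' : X' ⟶ S') (g' : X' ⟶ X) (w : g' ≫ f = f' ≫ g)
    (L : X.Modules) (h : Epi (CohBC.bc0 f g f' g' w L)) [Nontrivial Γ((pb g').obj L, ⊤)] :
    ∃ (W : S.Opens) (m : Γ(L, f ⁻¹ᵁ W)), unitSec g' L m ≠ 0 := by
  by_contra hcon
  push Not at hcon
  have h0 : CohBC.bc0Adj f g f' g' w L = 0 := by
    refine Scheme.Modules.hom_ext _ _ fun W => ?_
    ext m
    refine (bc0Adj_app f g f' g' w L W (preimage_le f g f' g' w W) m).trans ?_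
    rw [hcon W m]
    exact map_zero _
  have h1 : CohBC.bc0 f g f' g' w L = 0 := by
    rw [CohBC.bc0, h0, Adjunction.homEquiv_counit, Functor.map_zero, zero_comp]
  have h2 : 𝟙 ((pf f').obj ((pb g').obj L)) = 0 := by
    rw [← cancel_epi (CohBC.bc0 f g f' g' w L), h1, zero_comp, zero_comp]
  obtain ⟨x, hx⟩ := exists_ne (0 : Γ((pb g').obj L, ⊤))
  exact hx (congrArg (fun φ => φ.app ⊤ x) h2)

/-- The section generates near `x`. -/
def GenNear {f : X ⟶ S} {L : X.Modules} {W : S.Opens} (m : Γ(L, f ⁻¹ᵁ W)) (x : X) : Prop :=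
  ∃ (B : X.Opens) (hB : B ≤ f ⁻¹ᵁ W), x ∈ B ∧ IsGen L B (rs L hB m)

/-- A section with non-zero restriction to an integral scheme generates at the image of the generic
point. -/
theorem genNear_of_ne_zero [IsIntegral X'] (f : X ⟶ S) (g' : X' ⟶ X) {L : X.Modules}
    (hL : PicF.IsInvertible L) {W : S.Opens} (m : Γ(L, f ⁻¹ᵁ W)) (hm : unitSec g' L m ≠ 0) :
    GenNear m (g' (genericPoint X')) := by
  by_contra hcon
  refine hm ?_
  choose U e hU he using isInvertible_iff.1 hL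
  let D : X' → X'.Opens := fun z => g' ⁻¹ᵁ (f ⁻¹ᵁ W ⊓ U (g' z))
  have hD : g' ⁻¹ᵁ (f ⁻¹ᵁ W) ≤ iSup D := fun z hz => Opens.mem_iSup.2 ⟨z, hz, hU _⟩
  refine HomGlue.sections_ext_cover D ((pb g').obj L) hD fun z => ?_
  let A := f ⁻¹ᵁ W ⊓ U (g' z)
  obtain ⟨a, ha⟩ := exists_coord ((he (g' z)).res (inf_le_right : A ≤ U (g' z)))
    (rs L (inf_le_left : A ≤ f ⁻¹ᵁ W) m)
  have ha0 : g'.app A a = 0 := by
    rw [← AlgebraicGeometry.basicOpen_eq_bot_iff]
    refine le_bot_iff.1 fun y hy => ?_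
    refine hcon ⟨X.basicOpen a, (X.basicOpen_le a).trans inf_le_left, ?_, ?_⟩
    · have : genericPoint X' ∈ X'.basicOpen (g'.app A a) :=
        (genericPoint_spec X').mem_open_set_iff (X'.basicOpen (g'.app A a)).isOpen |>.2
          ⟨y, trivial, hy⟩
      rwa [← Scheme.preimage_basicOpen] at this
    · have h1 := congrArg (rs L (X.basicOpen_le a)) ha
      rw [rs_rs, rs_smul, rs_rs] at h1
      rw [h1]
      exact IsGen_smul_isUnit ((he (g' z)).res ((X.basicOpen_le a).trans inf_le_right))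
        (X.toRingedSpace.isUnit_res_basicOpen a)
  have h2 := congrArg (unitSec g' L) ha
  rw [unitSec_smul, ha0, zero_smul, ← unitSec_rs g' (inf_le_left : A ≤ f ⁻¹ᵁ W) m] at h2
  have h3 := congrArg (rs ((pb g').obj L) (inf_le_right : g' ⁻¹ᵁ (f ⁻¹ᵁ W) ⊓ D z ≤ D z)) h2
  rw [rs_rs] at h3
  refine h3.trans ?_
  exact (map_zero _).trans (map_zero _).symm

/-- Generators of the structure module are units. -/
theorem isUnit_of_isGen {P : Scheme.{u}} {U : P.Opens} {a : Γ(Coh.structureModule P, U)}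
    (h : IsGen (Coh.structureModule P) U a) : IsUnit (show Γ(P, U) from a) := by
  refine isUnit_of_isGen_smul (isGen_one U) ?_
  convert h using 1
  exact (smul_one_eq (show Γ(P, U) from a)).symm

/-- A pair of sections of mutually inverse modules generating at one point of the fibre over `s`
generates along that fibre. -/
theorem exists_gen_of_pair (f : X ⟶ S) (hpush : H2.Rigid.Push f) {L M : X.Modules}
    (hL : PicF.IsInvertible L) (hM : PicF.IsInvertible M)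
    (i : CohB1.tensorMod L M ≅ Coh.structureModule X) {W₁ W₂ : S.Opens}
    (m : Γ(L, f ⁻¹ᵁ W₁)) (n : Γ(M, f ⁻¹ᵁ W₂)) {x : X} (hm : GenNear m x) (hn : GenNear n x) :
    ∃ V : S.Opens, f x ∈ V ∧ (∃ l : Γ(L, f ⁻¹ᵁ V), IsGen L (f ⁻¹ᵁ V) l) := by
  let W := W₁ ⊓ W₂
  let m' := rs L (f.preimage_mono (inf_le_left : W ≤ W₁)) m
  let n' := rs M (f.preimage_mono (inf_le_right : W ≤ W₂)) n
  let t : Γ(Coh.structureModule X, f ⁻¹ᵁ W) := i.hom.app _ (SecTwist.tmul L M (f ⁻¹ᵁ W) m' n')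
  let a : Γ(X, f ⁻¹ᵁ W) := t
  obtain ⟨r, hr⟩ := (hpush W).2 a
  have hgen : ∀ (B : X.Opens) (hB : B ≤ f ⁻¹ᵁ W), IsGen L B (rs L hB m') → IsGen M B (rs M hB n') →
      IsUnit (rf hB a) := fun B hB hmB hnB => by
    have h1 := Ample.GenLocus.isGen_of_isIso_over (Ample.GenLocus.isIso_over_of_iso i B) (isGen_tmul hmB hnB)
    rw [← rs_tmul, ← rs_app] at h1
    exact isUnit_of_isGen h1
  obtain ⟨B₁, hB₁, hx₁, hm₁⟩ := hm
  obtain ⟨B₂, hB₂, hx₂, hn₂⟩ := hn
  let B := B₁ ⊓ B₂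
  have hB : B ≤ f ⁻¹ᵁ W := fun z hz => ⟨hB₁ hz.1, hB₂ hz.2⟩
  have hxB : x ∈ B := ⟨hx₁, hx₂⟩
  have hu : IsUnit (rf hB a) := by
    refine hgen B hB ?_ ?_
    · have h := hm₁.res (inf_le_left : B ≤ B₁)
      rw [rs_rs] at h ⊢
      exact h
    · have h := hn₂.res (inf_le_right : B ≤ B₂)
      rw [rs_rs] at h ⊢
      exact h
  have hxb : x ∈ X.basicOpen a := by
    have h1 : x ∈ X.basicOpen (rf hB a) := by rw [X.basicOpen_of_isUnit hu]; exact hxB
    have h2 : X.basicOpen (rf hB a) = B ⊓ X.basicOpen a := Scheme.basicOpen_res X a (homOfLE hB).op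
    rw [h2] at h1
    exact h1.2
  let V := S.basicOpen r
  have hfV : f ⁻¹ᵁ V = X.basicOpen a := by
    rw [← hr]
    exact Scheme.preimage_basicOpen f r
  have hV : f ⁻¹ᵁ V ≤ f ⁻¹ᵁ W := f.preimage_mono (S.basicOpen_le r)
  refine ⟨V, by show x ∈ f ⁻¹ᵁ V; rw [hfV]; exact hxb, rs L hV m', ?_⟩
  refine GenLocal.isGen_of_forall_exists fun z hz => ?_
  obtain ⟨U₁, e, hzU₁, he⟩ := isInvertible_iff.1 hL z
  obtain ⟨U₂, e', hzU₂, he'⟩ := isInvertible_iff.1 hM z
  let A := f ⁻¹ᵁ V ⊓ (U₁ ⊓ U₂)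
  have hA : A ≤ f ⁻¹ᵁ W := inf_le_left.trans hV
  have he₁ := he.res (inf_le_right.trans inf_le_left : A ≤ U₁)
  have he₂ := he'.res (inf_le_right.trans inf_le_right : A ≤ U₂)
  obtain ⟨α, hα⟩ := exists_coord he₁ (rs L hA m')
  obtain ⟨β, hβ⟩ := exists_coord he₂ (rs M hA n')
  have hau : IsUnit (rf hA a) := by
    have h1 : IsUnit (rf (inf_le_left.trans hfV.le : A ≤ X.basicOpen a) (rf (X.basicOpen_le a) a)) :=
      (RingedSpace.isUnit_res_basicOpen _ a).map _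
    rwa [rf_rf] at h1
  have hαu : IsUnit α := by
    have h1 := rs_app i.hom hA (SecTwist.tmul L M (f ⁻¹ᵁ W) m' n')
    rw [rs_tmul, hα, hβ, tmul_smul] at h1
    replace h1 := h1.trans (i.hom.app_smul (α * β) _)
    have hg := isUnit_of_isGen
      (Ample.GenLocus.isGen_of_isIso_over (Ample.GenLocus.isIso_over_of_iso i A) (isGen_tmul he₁ he₂))
    have h2 : rf hA a = α * β *
        (show Γ(X, A) from i.hom.app A (SecTwist.tmul L M A
          (rs L (inf_le_right.trans inf_le_left : A ≤ U₁) e) (rs M (inf_le_right.trans inf_le_right : A ≤ U₂) e'))) := h1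
    rw [h2] at hau
    exact isUnit_of_mul_isUnit_left (isUnit_of_mul_isUnit_left hau)
  refine ⟨A, inf_le_left, ⟨hz, hzU₁, hzU₂⟩, ?_⟩
  rw [rs_rs, hα]
  exact IsGen_smul_isUnit he₁ hαu

/-- Base change to a point is surjective as soon as a section from the base restricts to a
generator. -/
theorem epi_bc0_of_gen (f : X ⟶ S) (g : S' ⟶ S) (f' : X' ⟶ S') (g' : X' ⟶ X) (w : g' ≫ f = f' ≫ g)
    (L : X.Modules) (hS : ∀ U : S'.Opens, U = ⊥ ∨ U = ⊤) (hp : Function.Surjective f'.appTop.hom)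
    {W : S.Opens} (hW : g ⁻¹ᵁ W = ⊤) (l : Γ(L, f ⁻¹ᵁ W)) (hl : IsGen L (f ⁻¹ᵁ W) l) :
    Epi (CohBC.bc0 f g f' g' w L) := by
  refine ⟨fun {Z} φ ψ h => ?_⟩
  have h1 : CohBC.bc0Adj f g f' g' w L ≫ (pf g).map φ = CohBC.bc0Adj f g f' g' w L ≫ (pf g).map ψ := by
    have h2 := congrArg (fun x => (pbAdj g).homEquiv _ _ x) h
    simpa only [Adjunction.homEquiv_naturality_right, CohBC.bc0, Equiv.apply_symm_apply] using h2
  let t := (CohBC.bc0Adj f g f' g' w L).app W l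
  have hle : (⊤ : S'.Opens) ≤ g ⁻¹ᵁ W := hW.ge
  have ht : φ.app (g ⁻¹ᵁ W) t = ψ.app (g ⁻¹ᵁ W) t := congrArg (fun x => x.app W l) h1
  let T : Γ((pb g').obj L, f' ⁻¹ᵁ (⊤ : S'.Opens)) := rs _ (f'.preimage_mono hle) t
  have hT : IsGen ((pb g').obj L) (f' ⁻¹ᵁ (⊤ : S'.Opens)) T := by
    have h2 := (isGen_unitSec g' hl).res ((f'.preimage_mono hle).trans (preimage_le f g f' g' w W))
    show IsGen _ _ (rs _ _ (rs _ (preimage_le f g f' g' w W) (unitSec g' L l)))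
    rw [rs_rs]
    exact h2
  have hT' : φ.app ⊤ T = ψ.app ⊤ T := by
    have h2 := congrArg (rs Z hle) ht
    rwa [rs_app, rs_app] at h2
  refine Scheme.Modules.hom_ext _ _ fun U => ?_
  rcases hS U with rfl | rfl
  · haveI := subsingleton_sections_bot Z (U := (⊥ : S'.Opens)) rfl
    ext y
    exact Subsingleton.elim (α := Γ(Z, ⊥)) _ _
  · ext y
    obtain ⟨c, hc⟩ := exists_coord hT y
    obtain ⟨c', rfl⟩ := hp c
    have hy : y = (c' • (show Γ((pf f').obj ((pb g').obj L), ⊤) from T)) := hc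
    rw [hy, Scheme.Modules.Hom.app_smul, Scheme.Modules.Hom.app_smul, hT']

end Groth.Agent.Lib.Cube.FibreGen
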