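import Groth.Agent.Lib.Cube.Regular
import Mathlib.RingTheory.Ideal.AssociatedPrime.Finiteness

/-!
# The theorem of the cube over a Noetherian local ring

A cocycle trivial on both slices and on the closed fibre is trivial, by Noetherian induction on the
ideals of the base from the infinitesimal and the regular steps.
-/

set_option autoImplicit false

universe u

open CategoryTheory CategoryTheory.Limits AlgebraicGeometry TopologicalSpace IsLocalRing

namespace Groth.Agent.Lib.Cube.Local

open Groth.Agent.Lib.Cube.Triv Groth.Agent.Lib.Cube.Small Groth.Agent.Lib.Cube.Regular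

noncomputable section

theorem trivAlong_of_fac {S S₁ S₂ : Scheme.{u}} (C : Ctx S) {φ : S₁ ⟶ S} {φ' : S₂ ⟶ S} (ρ : S₁ ⟶ S₂)
    (h : ρ ≫ φ' = φ) (hT : TrivAlong C.c (C.bcMap φ')) : TrivAlong C.c (C.bcMap φ) := by
  let q : C.bcW φ ⟶ C.bcW φ' := pullback.lift (C.bcMap φ) (C.bcBase φ ≫ ρ)
    (by rw [Category.assoc, h]; exact pullback.condition)
  exact (hT.comp q).of_eq (pullback.lift_fst _ _ _)

theorem trivAlong_id_of_fac {S S' : Scheme.{u}} (C : Ctx S) {φ : S' ⟶ S} (ρ : S ⟶ S') (h : ρ ≫ φ = 𝟙 S)
    (hT : TrivAlong C.c (C.bcMap φ)) : TrivAlong C.c (𝟙 C.W) := by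
  let q : C.W ⟶ C.bcW φ := pullback.lift (𝟙 C.W) (C.pw ≫ ρ)
    (by rw [Category.assoc, h, Category.comp_id, Category.id_comp])
  exact (hT.comp q).of_eq (pullback.lift_fst _ _ _)

theorem trivAlong_id_congr {S : Scheme.{u}} (C : Ctx S) {φ : S ⟶ S} (hφ : φ = 𝟙 S)
    (hT : TrivAlong C.c (C.bcMap φ)) : TrivAlong C.c (𝟙 C.W) :=
  trivAlong_id_of_fac C (𝟙 S) (by rw [hφ, Category.id_comp]) hT

variable {R : CommRingCat.{u}} [IsLocalRing R] [IsNoetherianRing R]

/-- Over a Noetherian local ring, triviality on the slices and on the closed fibre implies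
triviality, provided twisted first cohomology is separated on every closed subscheme of the base. -/
theorem trivAlong_of_closedFibre (C : Ctx (Spec R))
    (hsep : ∀ (I : Ideal R) [IsLocalRing (R ⧸ I)] (x : R ⧸ I), x ∈ maximalIdeal (R ⧸ I) →
      Sep (C.bc (quot I)) x)
    (h : TrivAlong C.c (C.bcMap (Small.res R))) : TrivAlong C.c (𝟙 C.W) := by
  have main : ∀ I : Ideal R, I ≠ ⊤ → TrivAlong C.c (C.bcMap (quot I)) := by
    intro I
    induction I using WellFoundedGT.induction with
    | _ I ih => ?_
    intro hI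
    by_cases hIm : I = maximalIdeal R
    · refine trivAlong_of_fac C
        (Spec.map (CommRingCat.ofHom (Ideal.quotEquivOfEq hIm.symm).toRingHom)) ?_ h
      exact (Spec.map_comp _ _).symm.trans
        (congrArg Spec.map (CommRingCat.hom_ext (RingHom.ext fun _ => rfl)))
    let R' := CommRingCat.of (R ⧸ I)
    haveI : Nontrivial (R ⧸ I) := Ideal.Quotient.nontrivial_iff.2 hI
    haveI : IsLocalRing R' := IsLocalRing.of_surjective' (Ideal.Quotient.mk I) Ideal.Quotient.mk_surjective
    haveI : IsNoetherianRing R' := inferInstanceAs (IsNoetherianRing (R ⧸ I))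
    haveI : IsLocalRing (R ⧸ I) := IsLocalRing.of_surjective' (Ideal.Quotient.mk I) Ideal.Quotient.mk_surjective
    let C' := C.bc (quot I)
    -- closed subschemes of the base cut out by larger ideals
    have hbig : ∀ J : Ideal R', J ≠ ⊥ → J ≠ ⊤ → TrivAlong C'.c (C'.bcMap (quot J)) := by
      intro J hJ hJt
      refine C.trivAlong_bcMap_comp (quot I) (quot J) rfl ?_
      let I' : Ideal R := J.comap (Ideal.Quotient.mk I)
      have hlt : I < I' := by
        refine lt_of_le_of_ne (fun r hr => ?_) fun e => hJ ?_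
        · show Ideal.Quotient.mk I r ∈ J
          rw [Ideal.Quotient.eq_zero_iff_mem.2 hr]
          exact zero_mem _
        · rw [← Ideal.map_comap_of_surjective _ Ideal.Quotient.mk_surjective J]
          show I'.map _ = ⊥
          rw [← e, Ideal.map_quotient_self]
      have hI't : I' ≠ ⊤ := fun e => hJt (by
        rw [← Ideal.map_comap_of_surjective _ Ideal.Quotient.mk_surjective J]
        show I'.map _ = ⊤
        rw [e, Ideal.map_top])
      refine trivAlong_of_fac C (Spec.map (CommRingCat.ofHom
        (Ideal.quotientMap J (Ideal.Quotient.mk I) le_rfl : R ⧸ I' →+* (R' : Type u) ⧸ J))) ?_ (ih I' hlt hI't)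
      exact (Spec.map_comp _ _).symm.trans
        ((congrArg Spec.map (CommRingCat.hom_ext (RingHom.ext fun _ => rfl))).trans
          (Spec.map_comp (CommRingCat.ofHom (Ideal.Quotient.mk I)) (CommRingCat.ofHom (Ideal.Quotient.mk J))))
    have hm : maximalIdeal R' ≠ ⊥ := by
      intro hb
      refine hIm (le_antisymm (IsLocalRing.le_maximalIdeal hI) fun r hr => ?_)
      rw [← Ideal.Quotient.eq_zero_iff_mem, ← Ideal.mem_bot (R := R'), ← hb]
      intro hu
      obtain ⟨s, hs⟩ := hu.exists_right_inv
      obtain ⟨s, rfl⟩ := Ideal.Quotient.mk_surjective s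
      rw [← map_mul, ← map_one (Ideal.Quotient.mk I), Ideal.Quotient.eq] at hs
      have := sub_mem (Ideal.mul_mem_right s _ hr) (IsLocalRing.le_maximalIdeal hI hs)
      rw [sub_sub_cancel] at this
      exact (maximalIdeal.isMaximal R).ne_top ((Ideal.eq_top_iff_one _).2 this)
    suffices hT : TrivAlong C'.c (𝟙 C'.W) from
      ((C.trivAlong_bc_iff (quot I) (𝟙 _)).1 hT).of_eq (Category.id_comp _)
    by_cases hx : ∃ x ∈ maximalIdeal R', ∀ r : R', r * x = 0 → r = 0
    · obtain ⟨x, hxm, hx⟩ := hx
      have hx0 : x ≠ 0 := fun e => one_ne_zero (hx 1 (by rw [e, mul_zero]))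
      refine trivAlong_of_regular C' hxm hx (hsep I x hxm) fun n => hbig _ (fun e => ?_) (fun e => ?_)
      · have hxn : ∀ (m : ℕ) (r : R'), r * x ^ m = 0 → r = 0 := by
          intro m
          induction m with
          | zero => intro r hr; simpa using hr
          | succ m ih' => intro r hr; exact ih' r (hx _ (by rw [mul_assoc, ← pow_succ]; exact hr))
        exact one_ne_zero (hxn (n + 1) 1 (by rw [one_mul]; exact Ideal.span_singleton_eq_bot.1 e))
      · have : Ideal.span {x ^ (n + 1)} ≤ maximalIdeal R' :=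
          (Ideal.span_singleton_le_iff_mem _).2 (Ideal.pow_mem_of_mem _ hxm _ n.succ_pos)
        exact (maximalIdeal.isMaximal R').ne_top (top_le_iff.1 (e.symm.trans_le this))
    · push Not at hx
      have hdis : Disjoint (maximalIdeal R' : Set R') (nonZeroDivisors R') := by
        rw [Set.disjoint_left]
        intro x hxm hxz
        obtain ⟨r, hr, hr0⟩ := hx x hxm
        exact hr0 (mem_nonZeroDivisors_iff_right.1 hxz r hr)
      obtain ⟨-, z, hz, hz0⟩ := SetLike.lt_iff_le_and_exists.1
        (Ideal.bot_lt_annihilator_of_disjoint_nonZeroDivisors hdis)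
      have hzm : ∀ r ∈ maximalIdeal R', r * z = 0 := fun r hr => by
        have := (Module.mem_annihilator.1 hz) ⟨r, hr⟩
        simpa [mul_comm] using congrArg Subtype.val this
      have hz1 : z ∈ maximalIdeal R' := by
        intro hu
        refine hm ((Submodule.eq_bot_iff _).2 fun r hr => ?_)
        exact (hu.mul_left_eq_zero).1 (hzm r hr)
      have hJm : maximalIdeal R' * Ideal.span {z} = ⊥ := by
        refine le_bot_iff.1 (Ideal.mul_le.2 fun r hr s hs => ?_)
        obtain ⟨t, rfl⟩ := Ideal.mem_span_singleton.1 hs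
        rw [Ideal.mem_bot, ← mul_assoc, hzm r hr, zero_mul]
      have hz' : Ideal.span {z} ≤ maximalIdeal R' := (Ideal.span_singleton_le_iff_mem _).2 hz1
      refine trivAlong_of_small _ hJm hz' C' (hbig _ (fun e => hz0 ?_) fun e =>
        (maximalIdeal.isMaximal R').ne_top (top_le_iff.1 (e.symm.trans_le hz')))
      rw [Ideal.mem_bot]
      exact Ideal.span_singleton_eq_bot.1 e
  refine trivAlong_id_of_fac C
    (Spec.map (CommRingCat.ofHom (RingEquiv.quotientBot R).toRingHom)) ?_ (main ⊥ bot_ne_top)
  exact ((Spec.map_comp _ _).symm.trans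
    (congrArg Spec.map (CommRingCat.hom_ext (RingHom.ext fun _ => rfl)))).trans (Spec.map_id R)

end

end Groth.Agent.Lib.Cube.Local
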