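import Groth.Agent.Lib.Cube.Special
import Groth.Agent.Lib.Cube.Local
import Groth.Agent.Lib.Cube.SepOfFinite

/-!
# The theorem of the cube over an irreducible locally Noetherian base

If the first factor is geometrically integral and the second geometrically reduced with constant
functions, a cocycle trivial on both slices and on one fibre is trivial.
-/

set_option autoImplicit false

universe u

open CategoryTheory CategoryTheory.Limits AlgebraicGeometry TopologicalSpace Opposite IsLocalRing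

namespace Groth.Agent.Lib.Cube.Global

open Groth.Agent.Lib.TensorMod.Dual (rf rf_rf rf_self)
open Groth.Agent.Lib.Cube.Triv
open Groth.Agent.Lib.Cube.Rigid (IsSec isUnit_rf)
open Groth.Agent.H97.GlueLine (Cocycle)

noncomputable section

/-- A trivialisation on an open is one along its inclusion. -/
theorem trivAlong_ι {W : Scheme.{u}} {ι : Type u} {U : ι → W.Opens} {c : Cocycle U} {O : W.Opens}
    {v : ∀ a, Γ(W, U a ⊓ O)} (hu : ∀ a, IsUnit (v a)) (hv : IsSec c O v) : TrivAlong c O.ι := by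
  have hle : ∀ a, O.ι ⁻¹ᵁ U a ≤ O.ι ⁻¹ᵁ (U a ⊓ O) := fun a x hx => ⟨hx, x.2⟩
  refine ⟨fun a => rf (hle a) ((O.ι.app (U a ⊓ O)).hom (v a)),
    fun a => isUnit_rf _ ((hu a).map _), fun a b => ?_⟩
  rw [rf_rf, rf_rf]
  have hab : O.ι ⁻¹ᵁ (U a ⊓ U b) ≤ O.ι ⁻¹ᵁ (U a ⊓ U b) := le_rfl
  refine (Descend.pull O.ι (x := v a) (c := c.u a b) (y := v b) (fun V ha _ hb => hv a b V ha hb)
    ((pre_mono O.ι inf_le_left).trans (hle a)) hab ((pre_mono O.ι inf_le_right).trans (hle b))).trans ?_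
  rw [rf_self]

variable {S : Scheme.{u}} (C : Ctx S)

/-- Triviality on the fibre over a point. -/
def Fib (s : S) : Prop := TrivAlong C.c (C.bcMap (S.fromSpecResidueField s))

theorem of_fib {K : Type u} [Field K] {ψ : Spec (CommRingCat.of K) ⟶ S} {s : S}
    (hψ : ψ (closedPoint K) = s) (h : Fib C s) : TrivAlong C.c (C.bcMap ψ) := by
  obtain ⟨⟨t, ν⟩, rfl⟩ := (Scheme.SpecToEquivOfField K S).symm.surjective ψ
  have e : t = s := by
    rw [← hψ]
    exact (S.fromSpecResidueField_apply t _).symm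
  subst e
  exact Local.trivAlong_of_fac C (Spec.map ν) rfl h

variable {S' : Scheme.{u}} (φ : S' ⟶ S) {ι' : Type u} (σ : ι' → C.ι) (U' : ι' → (C.bcW φ).Opens)
  (hU' : ∀ k, IsAffineOpen (U' k)) (hUc' : iSup U' = ⊤) (hσ : ∀ k, U' k ≤ C.bcMap φ ⁻¹ᵁ C.U (σ k))

theorem bcCover_pw : (C.bcCover φ σ U' hU' hUc' hσ).pw = C.bcBase φ := pullback.lift_snd _ _ _

theorem trivAlong_bcCover_bcMap {S'' : Scheme.{u}} (ψ : S'' ⟶ S') {χ : S'' ⟶ S} (h : ψ ≫ φ = χ) :
    TrivAlong (C.bcCover φ σ U' hU' hUc' hσ).c ((C.bcCover φ σ U' hU' hUc' hσ).bcMap ψ) ↔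
      TrivAlong C.c (C.bcMap χ) := by
  let C' := C.bcCover φ σ U' hU' hUc' hσ
  have hpw : C'.pw = C.bcBase φ := bcCover_pw C φ σ U' hU' hUc' hσ
  rw [Ctx.trivAlong_bcCover_iff]
  constructor
  · intro hT
    let l : C.bcW χ ⟶ C.bcW φ := pullback.lift (C.bcMap χ) (C.bcBase χ ≫ ψ)
      (by rw [Category.assoc, h]; exact pullback.condition)
    let m : C.bcW χ ⟶ C'.bcW ψ := pullback.lift (f := C'.pw) (g := ψ) l (C.bcBase χ)
      (by rw [hpw]; exact pullback.lift_snd _ _ _)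
    refine (hT.comp m).of_eq ?_
    show m ≫ (C'.bcMap ψ ≫ C.bcMap φ) = C.bcMap χ
    rw [← Category.assoc, pullback.lift_fst]
    exact pullback.lift_fst _ _ _
  · intro hT
    let m : C'.bcW ψ ⟶ C.bcW χ := pullback.lift (C'.bcMap ψ ≫ C.bcMap φ) (C'.bcBase ψ) (by
      rw [Category.assoc, ← h]
      refine (congrArg (C'.bcMap ψ ≫ ·) (pullback.condition.trans (congrArg (· ≫ φ) hpw.symm))).trans ?_
      refine (Category.assoc _ _ _).symm.trans ?_
      exact congrArg (· ≫ φ) pullback.condition)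
    exact (hT.comp m).of_eq (pullback.lift_fst _ _ _)

variable {C}

omit φ σ U' hU' hUc' hσ in
/-- Triviality over any field point gives triviality on the fibre. -/
theorem fib_of {K : Type u} [Field K] {ψ : Spec (CommRingCat.of K) ⟶ S} {s : S}
    (hψ : ψ (closedPoint K) = s) (h : TrivAlong C.c (C.bcMap ψ)) : Fib C s := by
  obtain ⟨⟨t, ν⟩, rfl⟩ := (Scheme.SpecToEquivOfField K S).symm.surjective ψ
  have e : t = s := by
    rw [← hψ]
    exact (S.fromSpecResidueField_apply t _).symm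
  subst e
  obtain ⟨ι', _, σ, U', hU', hUc', hσ⟩ := C.exists_finite_cover (S.fromSpecResidueField t)
  let C' := C.bcCover (S.fromSpecResidueField t) σ U' hU' hUc' hσ
  have h' : TrivAlong C'.c (C'.bcMap (Spec.map ν)) :=
    (trivAlong_bcCover_bcMap C _ σ U' hU' hUc' hσ (Spec.map ν) rfl).2 h
  have h'' : TrivAlong C'.c (𝟙 C'.W) := Descend.trivAlong_descend (κ := S.residueField t) ν.hom C' h'
  exact ((Ctx.trivAlong_bcCover_iff C _ σ U' hU' hUc' hσ (𝟙 _)).1 h'').of_eq (Category.id_comp _)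

omit φ σ U' hU' hUc' hσ in
/-- Triviality on an open of the base gives triviality on its fibres. -/
theorem fib_of_sec {V : S.Opens} {v : ∀ a, Γ(C.W, C.U a ⊓ C.pw ⁻¹ᵁ V)} (hu : ∀ a, IsUnit (v a))
    (hv : IsSec C.c (C.pw ⁻¹ᵁ V) v) {s : S} (hs : s ∈ V) : Fib C s := by
  let g := C.bcMap (S.fromSpecResidueField s)
  have hr : Set.range g ⊆ Set.range (C.pw ⁻¹ᵁ V).ι := by
    rw [Scheme.Opens.range_ι]
    rintro _ ⟨z, rfl⟩
    show C.pw (g z) ∈ V
    rw [← Scheme.Hom.comp_apply, pullback.condition, Scheme.Hom.comp_apply,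
      S.fromSpecResidueField_apply]
    exact hs
  exact ((trivAlong_ι hu hv).comp (IsOpenImmersion.lift (C.pw ⁻¹ᵁ V).ι g hr)).of_eq
    (IsOpenImmersion.lift_fac _ _ hr)

variable [IsLocallyNoetherian S]

omit φ σ U' hU' hUc' hσ in
/-- Triviality on a fibre extends to a neighbourhood. -/
theorem exists_nhd (hfin : SepOfFinite.FinH1.{u}) {s : S} (h : Fib C s) :
    ∃ V : S.Opens, s ∈ V ∧ ∃ v : ∀ a, Γ(C.W, C.U a ⊓ C.pw ⁻¹ᵁ V),
      (∀ a, IsUnit (v a)) ∧ IsSec C.c (C.pw ⁻¹ᵁ V) v := by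
  obtain ⟨_, ⟨V₀, hV₀, rfl⟩, hsV₀, -⟩ := S.isBasis_affineOpens.exists_subset_of_mem_open
    (Set.mem_univ s) isOpen_univ
  let φ := hV₀.fromSpec
  haveI : IsNoetherianRing Γ(S, V₀) := IsLocallyNoetherian.component_noetherian ⟨V₀, hV₀⟩
  obtain ⟨ι', _, σ, U', hU', hUc', hσ⟩ := C.exists_finite_cover φ
  let C' := C.bcCover φ σ U' hU' hUc' hσ
  haveI : Finite C'.ι := ‹Finite ι'›
  let p : PrimeSpectrum Γ(S, V₀) := hV₀.primeIdealOf ⟨s, hsV₀⟩
  have hp : φ p = s := hV₀.fromSpec_primeIdealOf ⟨s, hsV₀⟩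
  let L : CommRingCat.{u} := CommRingCat.of (Localization.AtPrime p.asIdeal)
  let C'' := C'.bc (Spread.atPt p)
  haveI : IsNoetherianRing L := inferInstanceAs (IsNoetherianRing (Localization.AtPrime p.asIdeal))
  haveI : IsLocalRing L := inferInstanceAs (IsLocalRing (Localization.AtPrime p.asIdeal))
  have hpt : (Small.res L ≫ Spread.atPt p ≫ φ) (closedPoint (ResidueField L)) = s := by
    rw [Scheme.Hom.comp_apply, Scheme.Hom.comp_apply]
    refine Eq.trans ?_ hp
    congr 1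
    refine PrimeSpectrum.ext ?_
    show Ideal.comap (algebraMap _ (Localization.AtPrime p.asIdeal))
      (Ideal.comap (residue L) (maximalIdeal (ResidueField L))) = p.asIdeal
    rw [IsLocalRing.maximalIdeal_eq_bot, ← RingHom.ker_eq_comap_bot, IsLocalRing.ker_residue]
    exact Localization.AtPrime.comap_maximalIdeal
  have h1 : TrivAlong C'.c (C'.bcMap (Small.res L ≫ Spread.atPt p)) :=
    (trivAlong_bcCover_bcMap C φ σ U' hU' hUc' hσ _ (Category.assoc _ _ _)).2 (of_fib C hpt h)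
  have h2 : TrivAlong C''.c (C''.bcMap (Small.res L)) :=
    Ctx.trivAlong_bcMap_comp C' (Spread.atPt p) (Small.res L) rfl h1
  have h3 : TrivAlong C''.c (𝟙 C''.W) := Local.trivAlong_of_closedFibre C''
    (fun I _ x hx => SepOfFinite.sep_of_finH1 hfin (C''.bc (Small.quot I)) hx) h2
  have h4 : TrivAlong C'.c (C'.bcMap (Spread.atPt p)) :=
    ((Ctx.trivAlong_bc_iff C' (Spread.atPt p) (𝟙 _)).1 h3).of_eq (Category.id_comp _)
  obtain ⟨V', hpV', v, hu, hv⟩ := Spread.exists_spread C' p h4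
  have h5 : TrivAlong C.c ((C'.pw ⁻¹ᵁ V').ι ≫ C.bcMap φ) :=
    (Ctx.trivAlong_bcCover_iff C φ σ U' hU' hUc' hσ _).1 (trivAlong_ι hu hv)
  haveI : IsOpenImmersion φ := hV₀.isOpenImmersion_fromSpec
  have hb : IsOpenImmersion (C.bcMap φ) := MorphismProperty.pullback_fst _ _ inferInstance
  haveI : IsOpenImmersion ((C'.pw ⁻¹ᵁ V').ι ≫ C.bcMap φ) :=
    MorphismProperty.comp_mem _ (C'.pw ⁻¹ᵁ V').ι (C.bcMap φ) inferInstance hb
  have hO : C.pw ⁻¹ᵁ (φ ''ᵁ V') ≤ ((C'.pw ⁻¹ᵁ V').ι ≫ C.bcMap φ).opensRange := by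
    rintro z ⟨y, hy, hyz⟩
    obtain ⟨z', hz', hz''⟩ := Scheme.Pullback.exists_preimage_pullback z y (f := C.pw) (g := φ) hyz.symm
    refine ⟨⟨z', ?_⟩, hz'⟩
    show C'.pw z' ∈ V'
    rw [bcCover_pw C φ σ U' hU' hUc' hσ]
    exact (congrArg (· ∈ V') hz'').mpr hy
  exact ⟨φ ''ᵁ V', ⟨p, hpV', hp⟩, Rigid.exists_sec_of_isOpenImmersion C.c _ hO h5⟩

omit φ σ U' hU' hUc' hσ in
/-- Triviality on a fibre specialises. -/
theorem fib_of_specializes [GeometricallyIntegral C.px] [GeometricallyReduced C.py] {η s : S}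
    (hsp : η ⤳ s) (h : Fib C η) : Fib C s := by
  by_cases hne : η = s
  · exact hne ▸ h
  obtain ⟨A, _, _, _, g, hgc, hgg⟩ := H46.DvrScheme.exists_dvr_of_specializes hsp hne
  obtain ⟨ι', _, σ, U', hU', hUc', hσ⟩ := C.exists_finite_cover g
  let C' := C.bcCover g σ U' hU' hUc' hσ
  haveI : Finite C'.ι := ‹Finite ι'›
  haveI : GeometricallyIntegral C'.px := inferInstanceAs (GeometricallyIntegral (pullback.snd C.px g))
  haveI : GeometricallyReduced C'.py := inferInstanceAs (GeometricallyReduced (pullback.snd C.py g))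
  let R : CommRingCat.{u} := CommRingCat.of A
  haveI : IsNoetherianRing R := inferInstanceAs (IsNoetherianRing A)
  have hgen : (Dvr.genPt R ≫ g) (closedPoint (FractionRing A)) = η := by
    rw [Scheme.Hom.comp_apply, ← hgg]
    congr 1
    refine Eq.trans ?_ (genericPoint_eq_bot_of_affine _).symm
    refine PrimeSpectrum.ext ?_
    show Ideal.comap (algebraMap A (FractionRing A)) (maximalIdeal (FractionRing A)) = ⊥
    rw [IsLocalRing.maximalIdeal_eq_bot, ← RingHom.ker_eq_comap_bot]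
    exact (RingHom.injective_iff_ker_eq_bot _).1 (IsFractionRing.injective A (FractionRing A))
  have h1 : TrivAlong C'.c (C'.bcMap (Dvr.genPt R)) :=
    (trivAlong_bcCover_bcMap C g σ U' hU' hUc' hσ _ rfl).2 (of_fib C hgen h)
  have h2 := Special.trivAlong_special_fibre C' h1
  have hspec : (Small.res R ≫ g) (closedPoint (ResidueField A)) = s := by
    rw [Scheme.Hom.comp_apply, ← hgc]
    congr 1
    refine PrimeSpectrum.ext ?_
    show Ideal.comap (residue A) (maximalIdeal (ResidueField A)) = maximalIdeal A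
    rw [IsLocalRing.maximalIdeal_eq_bot, ← RingHom.ker_eq_comap_bot]
    exact IsLocalRing.ker_residue
  exact fib_of hspec ((trivAlong_bcCover_bcMap C g σ U' hU' hUc' hσ _ rfl).1 h2)

omit φ σ U' hU' hUc' hσ in
/-- The theorem of the cube: trivial on both slices and on one fibre implies trivial. -/
theorem trivAlong_of_fib (hfin : SepOfFinite.FinH1.{u}) [IrreducibleSpace S]
    [GeometricallyIntegral C.px] [GeometricallyReduced C.py] {s₀ : S} (h₀ : Fib C s₀) :
    TrivAlong C.c (𝟙 C.W) := by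
  obtain ⟨V, hs₀, v, hu, hv⟩ := exists_nhd hfin h₀
  have hη : Fib C (genericPoint S) := fib_of_sec hu hv
    (((genericPoint_spec S).mem_open_set_iff V.isOpen).2 ⟨s₀, trivial, hs₀⟩)
  exact Rigid.trivAlong_of_local C fun s => exists_nhd hfin
    (fib_of_specializes ((genericPoint_spec S).specializes trivial) hη)

end

end Groth.Agent.Lib.Cube.Global
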