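import Groth.Agent.Lib.Cube.Dvr

/-!
# Changing the cover, and base change along arbitrary morphisms
-/

set_option autoImplicit false

universe u

open CategoryTheory CategoryTheory.Limits AlgebraicGeometry TopologicalSpace Opposite

namespace Groth.Agent.Lib.Cube

open Groth.Agent.Lib.TensorMod.Dual (rf rf_rf rf_self)
open Groth.Agent.Lib.Cube.Triv Groth.Agent.Lib.Cube.Cech1
open Groth.Agent.H97.GlueLine (Cocycle)

noncomputable section

section

variable {W : Scheme.{u}} {ι ι' : Type u} {U : ι → W.Opens} {U' : ι' → W.Opens}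

/-- A cocycle on a finer cover. -/
def reindex (c : Cocycle U) (σ : ι' → ι) (hσ : ∀ k, U' k ≤ U (σ k)) : Cocycle U' where
  u k l := rf (inf_le_inf (hσ k) (hσ l)) (c.u (σ k) (σ l))
  self k V h := by rw [rf_rf]; exact c.self (σ k) V _
  trans k l m V hk hl hm := by
    simp only [rf_rf]
    exact c.trans (σ k) (σ l) (σ m) V (hk.trans (hσ k)) (hl.trans (hσ l)) (hm.trans (hσ m))

theorem isUnit_u (c : Cocycle U) (a b : ι) : IsUnit (c.u a b) := by
  refine IsUnit.of_mul_eq_one (rf (inf_comm _ _).le (c.u b a)) ?_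
  have h := c.trans a b a (U a ⊓ U b) inf_le_left inf_le_right inf_le_left
  rw [c.self a] at h
  exact (congrArg (· * _) (rf_self _ _).symm).trans h

variable (c : Cocycle U) (σ : ι' → ι) (hσ : ∀ k, U' k ≤ U (σ k))

theorem trivAlong_reindex {P : Scheme.{u}} (f : P ⟶ W) (h : TrivAlong c f) :
    TrivAlong (reindex c σ hσ) f := by
  obtain ⟨v, hv, he⟩ := h
  refine ⟨fun k => rf (pre_mono f (hσ k)) (v (σ k)), fun k => Rigid.isUnit_rf _ (hv _), fun k l => ?_⟩
  simp only [reindex]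
  rw [rf_rf, app_rf]
  erw [rf_rf]
  rw [TrivAlong.eq he (σ k) (σ l) _ (pre_mono f (inf_le_right.trans (hσ l)))]
  rfl

theorem trivAlong_of_reindex (hc : iSup U' = ⊤) {P : Scheme.{u}} (f : P ⟶ W)
    (h : TrivAlong (reindex c σ hσ) f) : TrivAlong c f := by
  obtain ⟨v, hv, he⟩ := h
  have hcov : ∀ a, f ⁻¹ᵁ U a ≤ iSup fun k => f ⁻¹ᵁ U' k := fun a => by
    rw [← Scheme.Hom.preimage_iSup, hc, Scheme.Hom.preimage_top]; exact le_top
  let s : ∀ a k, Γ(P, f ⁻¹ᵁ U a ⊓ f ⁻¹ᵁ U' k) := fun a k =>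
    rf (le_inf inf_le_left (inf_le_right.trans (pre_mono f (hσ k))) :
      f ⁻¹ᵁ U a ⊓ f ⁻¹ᵁ U' k ≤ f ⁻¹ᵁ (U a ⊓ U (σ k))) (f.app (U a ⊓ U (σ k)) (c.u a (σ k))) *
    rf inf_le_right (v k)
  have glue : ∀ a, ∃ t : Γ(P, f ⁻¹ᵁ U a), ∀ k (B : P.Opens) (hA : B ≤ f ⁻¹ᵁ U a) (hk : B ≤ f ⁻¹ᵁ U' k),
      rf hA t = rf (le_inf hA hk) (s a k) := fun a =>
    fun_glue _ (hcov a) (s a) fun k l B hk hl => by
      simp only [s]
      rw [rf_mul, rf_mul, rf_rf, rf_rf, rf_rf, rf_rf, TrivAlong.eq he k l (hk.trans inf_le_right)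
        (hl.trans inf_le_right)]
      simp only [reindex]
      erw [app_rf, rf_rf]
      rw [← mul_assoc]
      congr 1
      exact (Triv.comap c f).trans a (σ k) (σ l) B (hk.trans inf_le_left)
        ((hk.trans inf_le_right).trans (pre_mono f (hσ k))) ((hl.trans inf_le_right).trans (pre_mono f (hσ l)))
  choose t ht using glue
  refine ⟨t, fun a => Rigid.isUnit_of_cover (fun k => f ⁻¹ᵁ U' k) (hcov a) fun k => ?_, fun a b => ?_⟩
  · rw [ht a k _ inf_le_left inf_le_right]
    have hcu : ∀ a b, IsUnit (f.app (U a ⊓ U b) (c.u a b)) := fun a b => (isUnit_u c a b).map _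
    exact Rigid.isUnit_rf _ ((Rigid.isUnit_rf _ (hcu a _)).mul (Rigid.isUnit_rf _ (hv k)))
  · refine fun_ext (fun k => f ⁻¹ᵁ U' k) ((pre_mono f inf_le_left).trans (hcov a)) fun k B hA hk => ?_
    have ha : B ≤ f ⁻¹ᵁ U a := hA.trans (pre_mono f inf_le_left)
    have hb : B ≤ f ⁻¹ᵁ U b := hA.trans (pre_mono f inf_le_right)
    erw [rf_mul, rf_rf, rf_rf, ht a k B ha hk, ht b k B hb hk]
    simp only [s]
    rw [rf_mul, rf_mul, rf_rf, rf_rf, rf_rf, rf_rf, ← mul_assoc]
    congr 1
    exact ((Triv.comap c f).trans a b (σ k) B ha hb (hk.trans (pre_mono f (hσ k)))).symm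

end

namespace Ctx

variable {S : Scheme.{u}} (C : Ctx S) {S' : Scheme.{u}} (φ : S' ⟶ S)

/-- Base change of the data with a finer cover. -/
noncomputable def bcCover {ι' : Type u} (σ : ι' → C.ι) (U' : ι' → (C.bcW φ).Opens)
    (hU' : ∀ k, IsAffineOpen (U' k)) (hUc' : iSup U' = ⊤) (hσ : ∀ k, U' k ≤ C.bcMap φ ⁻¹ᵁ C.U (σ k)) :
    Ctx S' where
  X := pullback C.px φ
  Y := pullback C.py φ
  W := C.bcW φ
  px := pullback.snd C.px φ
  py := pullback.snd C.py φ
  fx := pullback.lift (pullback.fst C.pw φ ≫ C.fx) (pullback.snd C.pw φ)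
    (by rw [Category.assoc, pullback.condition])
  fy := pullback.lift (pullback.fst C.pw φ ≫ C.fy) (pullback.snd C.pw φ)
    (by rw [Category.assoc, ← pw_eq, pullback.condition])
  H := by
    have hX := IsPullback.of_hasPullback C.px φ
    have hY := IsPullback.of_hasPullback C.py φ
    have hW := IsPullback.of_hasPullback C.pw φ
    have h1 : IsPullback (pullback.fst C.pw φ) (pullback.lift (pullback.fst C.pw φ ≫ C.fx) (pullback.snd C.pw φ)
        (by rw [Category.assoc, pullback.condition])) C.fx (pullback.fst C.px φ) :=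
      IsPullback.of_bot (by rw [pullback.lift_snd]; exact hW) (by rw [pullback.lift_fst]) hX
    -- paste to obtain the square over `Y`
    have h2 := h1.flip.paste_vert C.H
    refine IsPullback.of_bot ?_ (by rw [pullback.lift_snd, pullback.lift_snd]) hY.flip
    rw [pullback.lift_fst]
    have h3 : pullback.fst C.px φ ≫ C.px = pullback.snd C.px φ ≫ φ := pullback.condition
    rw [← h3]
    exact h2
  isProper_px := inferInstanceAs (IsProper (pullback.snd C.px φ))
  flat_px := inferInstanceAs (Flat (pullback.snd C.px φ))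
  isProper_py := inferInstanceAs (IsProper (pullback.snd C.py φ))
  flat_py := inferInstanceAs (Flat (pullback.snd C.py φ))
  hx := C.hx.pullback_snd C.px φ
  hy := C.hy.pullback_snd C.py φ
  x₀ := pullback.lift (φ ≫ C.x₀) (𝟙 S') (by rw [Category.assoc, C.hx₀, Category.comp_id, Category.id_comp])
  hx₀ := pullback.lift_snd _ _ _
  y₀ := pullback.lift (φ ≫ C.y₀) (𝟙 S') (by rw [Category.assoc, C.hy₀, Category.comp_id, Category.id_comp])
  hy₀ := pullback.lift_snd _ _ _
  i := pullback.lift (pullback.fst C.py φ ≫ C.i) (pullback.snd C.py φ)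
    (by rw [Category.assoc, i_pw, pullback.condition])
  hi₁ := by
    apply pullback.hom_ext
    · simp only [Category.assoc, pullback.lift_fst, pullback.lift_fst_assoc, C.hi₁]
      rw [pullback.condition_assoc]
    · simp only [Category.assoc, pullback.lift_snd, Category.comp_id]
  hi₂ := by
    apply pullback.hom_ext
    · simp only [Category.assoc, pullback.lift_fst, pullback.lift_fst_assoc, C.hi₂]
      simp
    · simp only [Category.assoc, pullback.lift_snd, Category.comp_id, Category.id_comp]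
  j := pullback.lift (pullback.fst C.px φ ≫ C.j) (pullback.snd C.px φ)
    (by rw [Category.assoc, j_pw, pullback.condition])
  hj₁ := by
    apply pullback.hom_ext
    · simp only [Category.assoc, pullback.lift_fst, pullback.lift_fst_assoc, C.hj₁]
      simp
    · simp only [Category.assoc, pullback.lift_snd, Category.comp_id, Category.id_comp]
  hj₂ := by
    apply pullback.hom_ext
    · simp only [Category.assoc, pullback.lift_fst, pullback.lift_fst_assoc, C.hj₂]
      rw [pullback.condition_assoc]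
    · simp only [Category.assoc, pullback.lift_snd, Category.comp_id]
  ι := ι'
  U := U'
  hU := hU'
  hUc := hUc'
  c := reindex (Triv.comap C.c (C.bcMap φ)) σ hσ
  hi := trivAlong_reindex _ σ hσ _ ((C.hi.comp (pullback.fst C.py φ)).of_eq
    (show pullback.fst C.py φ ≫ C.i = pullback.lift (pullback.fst C.py φ ≫ C.i) (pullback.snd C.py φ)
      (by rw [Category.assoc, i_pw, pullback.condition]) ≫ C.bcMap φ from (pullback.lift_fst _ _ _).symm))
  hj := trivAlong_reindex _ σ hσ _ ((C.hj.comp (pullback.fst C.px φ)).of_eq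
    (show pullback.fst C.px φ ≫ C.j = pullback.lift (pullback.fst C.px φ ≫ C.j) (pullback.snd C.px φ)
      (by rw [Category.assoc, j_pw, pullback.condition]) ≫ C.bcMap φ from (pullback.lift_fst _ _ _).symm))

/-- Triviality after base change with a finer cover. -/
theorem trivAlong_bcCover_iff {ι' : Type u} (σ : ι' → C.ι) (U' : ι' → (C.bcW φ).Opens)
    (hU' : ∀ k, IsAffineOpen (U' k)) (hUc' : iSup U' = ⊤) (hσ : ∀ k, U' k ≤ C.bcMap φ ⁻¹ᵁ C.U (σ k))
    {P : Scheme.{u}} (f : P ⟶ C.bcW φ) :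
    TrivAlong (C.bcCover φ σ U' hU' hUc' hσ).c f ↔ TrivAlong C.c (f ≫ C.bcMap φ) :=
  ⟨fun h => trivAlong_of_reindex (Triv.comap C.c (C.bcMap φ)) σ hσ hUc' f h,
    fun h => trivAlong_reindex (Triv.comap C.c (C.bcMap φ)) σ hσ f h⟩

/-- Over a quasi-compact base the base change has a finite affine cover adapted to the given one. -/
theorem exists_finite_cover [CompactSpace S'] :
    ∃ (ι' : Type u) (_ : Finite ι') (σ : ι' → C.ι) (U' : ι' → (C.bcW φ).Opens),
      (∀ k, IsAffineOpen (U' k)) ∧ iSup U' = ⊤ ∧ ∀ k, U' k ≤ C.bcMap φ ⁻¹ᵁ C.U (σ k) := by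
  haveI : CompactSpace (C.bcW φ) := QuasiCompact.compactSpace_of_compactSpace (C.bcBase φ)
  have h : ∀ x : C.bcW φ, ∃ (a : C.ι) (V : (C.bcW φ).Opens),
      IsAffineOpen V ∧ x ∈ V ∧ V ≤ C.bcMap φ ⁻¹ᵁ C.U a := fun x => by
    obtain ⟨a, ha⟩ := Opens.mem_iSup.1 (show C.bcMap φ x ∈ iSup C.U by rw [C.hUc]; trivial)
    obtain ⟨V, hV, hxV, hle⟩ := exists_isAffineOpen_mem_and_subset (U := C.bcMap φ ⁻¹ᵁ C.U a) ha
    exact ⟨a, V, hV, hxV, hle⟩
  choose σ V hV hxV hle using h
  obtain ⟨t, ht⟩ := isCompact_univ.elim_finite_subcover (fun x => (V x : Set (C.bcW φ)))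
    (fun x => (V x).isOpen) fun x _ => Set.mem_iUnion.2 ⟨x, hxV x⟩
  refine ⟨t, inferInstance, fun x => σ x, fun x => V x, fun x => hV x, top_le_iff.1 fun x _ => ?_,
    fun x => hle x⟩
  obtain ⟨y, hy, hxy⟩ := Set.mem_iUnion₂.1 (ht (Set.mem_univ x))
  exact Opens.mem_iSup.2 ⟨⟨y, hy⟩, hxy⟩

end Ctx

end

end Groth.Agent.Lib.Cube
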