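import Groth.Agent.Lib.Cube.Seesaw
import Groth.Agent.Lib.Cube.Refine
import Groth.Agent.Lib.Cube.Global
import Groth.Agent.H2.Rigid.Push
import Groth.Agent.H97.PullbackLine
import Groth.Agent.Lib.TensorMod.LocIso
import Mathlib.AlgebraicGeometry.Fiber

/-!
# The seesaw theorem over a locally Noetherian base
-/

set_option autoImplicit false
set_option linter.style.haveILetI false

universe u

open CategoryTheory CategoryTheory.Limits AlgebraicGeometry TopologicalSpace Opposite

namespace Groth.Agent.Lib.Cube.SeesawGlobal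

open Groth.Agent.Lib.TensorMod.Dual (rf rs rf_rf rf_self rs_rs rs_smul)
open Groth.Agent.Lib.TensorMod.Gen (IsGen)
open Groth.Agent.H97.GlueLine (Cocycle glue isInvertible_glue)
open Groth.Agent.Lib.Cube.Triv
open Groth.Agent.Lib.Cube.Rigid (IsSec)

noncomputable section

/-- Over a field, constant functions only means functions are exactly the constants. -/
theorem bijective_appTop_of_surjective {K : Type u} [Field K] {P : Scheme.{u}} [Nonempty P]
    (q : P ⟶ Spec (CommRingCat.of K)) (hs : Function.Surjective q.appTop.hom) :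
    Function.Bijective q.appTop.hom := by
  refine ⟨fun a b h => ?_, hs⟩
  haveI : Nonempty ((⊤ : P.Opens) : Set P) := ⟨⟨Classical.arbitrary P, trivial⟩⟩
  have hinj := (q.appTop.hom.comp (Scheme.ΓSpecIso (CommRingCat.of K)).inv.hom).injective
  obtain ⟨a', rfl⟩ := (ConcreteCategory.bijective_of_isIso (Scheme.ΓSpecIso (CommRingCat.of K)).inv).2 a
  obtain ⟨b', rfl⟩ := (ConcreteCategory.bijective_of_isIso (Scheme.ΓSpecIso (CommRingCat.of K)).inv).2 b
  exact congrArg _ (hinj h)

section Chart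

variable {X Y : Scheme.{u}} (f : X ⟶ Y) {ι : Type u} {U : ι → X.Opens} (c : Cocycle U)

/-- Triviality on the fibre. -/
def FibT (y : Y) : Prop := TrivAlong c (f.fiberι y)

variable {A : Type u} [CommRing A] (φ : Spec (CommRingCat.of A) ⟶ Y) [IsOpenImmersion φ]

/-- The base change to a chart. -/
instance overPb : (pullback f φ).Over (Spec (CommRingCat.of A)) := ⟨pullback.snd f φ⟩

/-- The point of a chart and its image. -/
def jHom (x : PrimeSpectrum A) :
    Spec (CommRingCat.of x.asIdeal.ResidueField) ⟶ Spec (Y.residueField (φ x)) :=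
  Spec.map (φ.residueFieldMap x ≫ (Scheme.Spec.residueFieldIso (CommRingCat.of A) x).hom)

instance isIso_jHom (x : PrimeSpectrum A) : IsIso (jHom φ x) := by
  unfold jHom
  infer_instance

theorem jHom_fromSpec (x : PrimeSpectrum A) :
    jHom φ x ≫ Y.fromSpecResidueField (φ x) =
      Spec.map (CommRingCat.ofHom (algebraMap A x.asIdeal.ResidueField)) ≫ φ := by
  have h1 := Scheme.Spec.map_residueFieldIso_inv_eq_fromSpecResidueField (CommRingCat.of A) x
  rw [jHom, Spec.map_comp, Category.assoc, φ.SpecMap_residueFieldMap_fromSpecResidueField, ← h1]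
  rw [← Category.assoc, ← Category.assoc, ← Spec.map_comp, Iso.inv_hom_id, Spec.map_id,
    Category.id_comp]

/-- The fibre in a chart maps to the fibre. -/
def toFiber (x : PrimeSpectrum A) :
    pullback (pullback f φ ↘ Spec (CommRingCat.of A))
        (Spec.map (CommRingCat.ofHom (algebraMap A x.asIdeal.ResidueField))) ⟶ f.fiber (φ x) :=
  pullback.lift (pullback.fst _ _ ≫ pullback.fst f φ) (pullback.snd _ _ ≫ jHom φ x) (by
    rw [Category.assoc, Category.assoc, jHom_fromSpec, pullback.condition, ← Category.assoc,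
      ← Category.assoc]
    exact congrArg (· ≫ φ) pullback.condition)

instance isIso_toFiber (x : PrimeSpectrum A) : IsIso (toFiber f φ x) := by
  have h1 := (IsPullback.of_hasPullback (pullback f φ ↘ Spec (CommRingCat.of A))
    (Spec.map (CommRingCat.ofHom (algebraMap A x.asIdeal.ResidueField)))).paste_horiz
      (IsPullback.of_hasPullback f φ)
  have h2 : IsPullback (pullback.fst _ _ ≫ pullback.fst f φ)
      (pullback.snd (pullback f φ ↘ Spec (CommRingCat.of A)) (Spec.map (CommRingCat.ofHom (algebraMap A x.asIdeal.ResidueField))) ≫ jHom φ x)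
      f (Y.fromSpecResidueField (φ x)) := by
    refine h1.of_iso (Iso.refl _) (Iso.refl _) (asIso (jHom φ x)) (Iso.refl _) ?_ ?_ ?_ ?_
    · simp
    · simp
    · simp
    · simp [jHom_fromSpec]
  have e : toFiber f φ x = h2.isoPullback.hom := by
    apply pullback.hom_ext
    · rw [IsPullback.isoPullback_hom_fst]; exact pullback.lift_fst _ _ _
    · rw [IsPullback.isoPullback_hom_snd]; exact pullback.lift_snd _ _ _
  rw [e]
  infer_instance

theorem toFiber_fiberι (x : PrimeSpectrum A) :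
    toFiber f φ x ≫ f.fiberι (φ x) = pullback.fst _ _ ≫ pullback.fst f φ := pullback.lift_fst _ _ _

theorem toFiber_toSpec (x : PrimeSpectrum A) :
    toFiber f φ x ≫ f.fiberToSpecResidueField (φ x) = pullback.snd _ _ ≫ jHom φ x :=
  pullback.lift_snd _ _ _

theorem bijective_fibBase (x : PrimeSpectrum A)
    (hq : Function.Bijective (f.fiberToSpecResidueField (φ x)).appTop.hom) :
    Function.Bijective (Seesaw.fibBase (W := pullback f φ) x).appTop.hom := by
  have e : Seesaw.fibBase (W := pullback f φ) x =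
      (toFiber f φ x ≫ f.fiberToSpecResidueField (φ x)) ≫ inv (jHom φ x) := by
    rw [toFiber_toSpec, Category.assoc, IsIso.hom_inv_id, Category.comp_id]
  rw [e, Scheme.Hom.comp_appTop, Scheme.Hom.comp_appTop]
  haveI : IsIso (toFiber f φ x).appTop :=
    inferInstanceAs (IsIso (Scheme.Γ.map (toFiber f φ x).op))
  haveI : IsIso (inv (jHom φ x)).appTop :=
    inferInstanceAs (IsIso (Scheme.Γ.map (inv (jHom φ x)).op))
  exact ((ConcreteCategory.bijective_of_isIso (toFiber f φ x).appTop).comp hq).comp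
    (ConcreteCategory.bijective_of_isIso (inv (jHom φ x)).appTop)

variable {ι' : Type u} (σ : ι' → ι) {U' : ι' → (pullback f φ).Opens}
  (hσ : ∀ k, U' k ≤ pullback.fst f φ ⁻¹ᵁ U (σ k))

/-- The cocycle in the chart. -/
abbrev chartC : Cocycle U' := reindex (Triv.comap c (pullback.fst f φ)) σ hσ

theorem fibT_chart_iff (hUc' : iSup U' = ⊤) (x : PrimeSpectrum A) :
    TrivAlong (chartC f c φ σ hσ) (Seesaw.fibMap (W := pullback f φ) x) ↔ FibT f c (φ x) := by
  constructor
  · intro h
    have h1 : TrivAlong c (Seesaw.fibMap (W := pullback f φ) x ≫ pullback.fst f φ) :=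
      trivAlong_of_reindex (Triv.comap c (pullback.fst f φ)) σ hσ hUc' _ h
    refine (h1.comp (inv (toFiber f φ x))).of_eq ?_
    rw [IsIso.inv_comp_eq]
    exact (toFiber_fiberι f φ x).symm
  · intro h
    exact trivAlong_reindex (Triv.comap c (pullback.fst f φ)) σ hσ _
      ((h.comp (toFiber f φ x)).of_eq (toFiber_fiberι f φ x))

variable (hU : ∀ a, IsAffineOpen (U a)) (hUc : iSup U = ⊤)

include hUc in
omit [IsOpenImmersion φ] in
theorem exists_finite_cover [QuasiCompact f] :
    ∃ (ι' : Type u) (_ : Finite ι') (σ : ι' → ι) (U' : ι' → (pullback f φ).Opens),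
      (∀ k, IsAffineOpen (U' k)) ∧ iSup U' = ⊤ ∧ ∀ k, U' k ≤ pullback.fst f φ ⁻¹ᵁ U (σ k) := by
  haveI : CompactSpace ↥(pullback f φ) := QuasiCompact.compactSpace_of_compactSpace (pullback.snd f φ)
  have h : ∀ x : ↥(pullback f φ), ∃ (a : ι) (V : (pullback f φ).Opens),
      IsAffineOpen V ∧ x ∈ V ∧ V ≤ pullback.fst f φ ⁻¹ᵁ U a := fun x => by
    obtain ⟨a, ha⟩ := Opens.mem_iSup.1 (show pullback.fst f φ x ∈ iSup U by rw [hUc]; trivial)
    obtain ⟨V, hV, hxV, hle⟩ := exists_isAffineOpen_mem_and_subset (U := pullback.fst f φ ⁻¹ᵁ U a) ha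
    exact ⟨a, V, hV, hxV, hle⟩
  choose σ V hV hxV hle using h
  obtain ⟨t, ht⟩ := isCompact_univ.elim_finite_subcover (fun x => (V x : Set (pullback f φ : Scheme.{u})))
    (fun x => (V x).isOpen) fun x _ => Set.mem_iUnion.2 ⟨x, hxV x⟩
  refine ⟨t, inferInstance, fun x => σ x, fun x => V x, fun x => hV x, top_le_iff.1 fun x _ => ?_,
    fun x => hle x⟩
  obtain ⟨y, hy, hxy⟩ := Set.mem_iUnion₂.1 (ht (Set.mem_univ x))
  exact Opens.mem_iSup.2 ⟨⟨y, hy⟩, hxy⟩

end Chart

variable {X Y : Scheme.{u}} (f : X ⟶ Y) [IsProper f] [Flat f] [IsLocallyNoetherian Y]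
  {ι : Type u} {U : ι → X.Opens} (c : Cocycle U) (hUc : iSup U = ⊤)

include hUc in
/-- With integral fibres with constant functions, the trivial fibres form a closed set. -/
theorem isClosed_fibT (hint : ∀ y : Y, IsIntegral (f.fiber y))
    (hq : ∀ y : Y, Function.Bijective (f.fiberToSpecResidueField y).appTop.hom) :
    IsClosed {y : Y | FibT f c y} := by
  rw [← isOpen_compl_iff, isOpen_iff_forall_mem_open]
  intro y hy
  obtain ⟨_, ⟨V₀, hV₀, rfl⟩, hyV₀, -⟩ := Y.isBasis_affineOpens.exists_subset_of_mem_open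
    (Set.mem_univ y) isOpen_univ
  let φ : Spec (CommRingCat.of Γ(Y, V₀)) ⟶ Y := hV₀.fromSpec
  haveI : IsOpenImmersion φ := hV₀.isOpenImmersion_fromSpec
  haveI : IsNoetherianRing Γ(Y, V₀) := IsLocallyNoetherian.component_noetherian ⟨V₀, hV₀⟩
  obtain ⟨ι', _, σ, U', hU', hUc', hσ⟩ := exists_finite_cover f φ hUc
  haveI : IsProper (pullback f φ ↘ Spec (CommRingCat.of Γ(Y, V₀))) :=
    inferInstanceAs (IsProper (pullback.snd f φ))
  haveI : Flat (pullback f φ ↘ Spec (CommRingCat.of Γ(Y, V₀))) :=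
    inferInstanceAs (Flat (pullback.snd f φ))
  have hcl := Seesaw.isClosed_trivial (chartC f c φ σ hσ) hU' hUc'
    (fun x => by
      haveI := hint (φ x)
      haveI : IsIso (toFiber f φ x) := isIso_toFiber f φ x
      haveI : Nonempty (pullback (pullback f φ ↘ Spec (CommRingCat.of Γ(Y, V₀)))
          (Spec.map (CommRingCat.ofHom (algebraMap Γ(Y, V₀) x.asIdeal.ResidueField))) :) :=
        ⟨inv (toFiber f φ x) (Classical.arbitrary _)⟩
      exact isIntegral_of_isOpenImmersion (toFiber f φ x))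
    fun x => bijective_fibBase f φ x (hq (φ x))
  refine ⟨φ '' {x | TrivAlong (chartC f c φ σ hσ) (Seesaw.fibMap (W := pullback f φ) x)}ᶜ, ?_,
    φ.isOpenEmbedding.isOpenMap _ hcl.isOpen_compl, ?_⟩
  · rintro _ ⟨x, hx, rfl⟩
    exact fun h => hx ((fibT_chart_iff f c φ σ hσ hUc' x).2 h)
  · obtain ⟨x, rfl⟩ : y ∈ Set.range φ := by
      show y ∈ Set.range hV₀.fromSpec
      rw [hV₀.range_fromSpec]
      exact hyV₀
    exact ⟨x, fun h => hy ((fibT_chart_iff f c φ σ hσ hUc' x).1 h), rfl⟩

include hUc in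
/-- Over a reduced base, triviality on all fibres gives triviality locally on the base. -/
theorem exists_trivAlong_nhd [IsReduced Y]
    (hq : ∀ y : Y, Function.Bijective (f.fiberToSpecResidueField y).appTop.hom)
    (ht : ∀ y : Y, FibT f c y) (y : Y) :
    ∃ V : Y.Opens, y ∈ V ∧ TrivAlong c (f ⁻¹ᵁ V).ι := by
  obtain ⟨_, ⟨V₀, hV₀, rfl⟩, hyV₀, -⟩ := Y.isBasis_affineOpens.exists_subset_of_mem_open
    (Set.mem_univ y) isOpen_univ
  let φ : Spec (CommRingCat.of Γ(Y, V₀)) ⟶ Y := hV₀.fromSpec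
  haveI : IsOpenImmersion φ := hV₀.isOpenImmersion_fromSpec
  haveI : IsNoetherianRing Γ(Y, V₀) := IsLocallyNoetherian.component_noetherian ⟨V₀, hV₀⟩
  obtain ⟨x, rfl⟩ : y ∈ Set.range φ := by
    show y ∈ Set.range hV₀.fromSpec
    rw [hV₀.range_fromSpec]
    exact hyV₀
  obtain ⟨ι', _, σ, U', hU', hUc', hσ⟩ := exists_finite_cover f φ hUc
  haveI : IsProper (pullback f φ ↘ Spec (CommRingCat.of Γ(Y, V₀))) :=
    inferInstanceAs (IsProper (pullback.snd f φ))
  haveI : Flat (pullback f φ ↘ Spec (CommRingCat.of Γ(Y, V₀))) :=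
    inferInstanceAs (Flat (pullback.snd f φ))
  obtain ⟨V, hxV, v, hv, hsec⟩ := Seesaw.exists_sec_of_fibres (chartC f c φ σ hσ) hU' hUc'
    (fun x => bijective_fibBase f φ x (hq (φ x)))
    (fun x => (fibT_chart_iff f c φ σ hσ hUc' x).2 (ht (φ x))) x
  let O : (pullback f φ).Opens := pullback.snd f φ ⁻¹ᵁ V
  have h1 : TrivAlong c (O.ι ≫ pullback.fst f φ) :=
    trivAlong_of_reindex (Triv.comap c (pullback.fst f φ)) σ hσ hUc' _ (Global.trivAlong_ι hv hsec)
  haveI : IsOpenImmersion (pullback.fst f φ) := MorphismProperty.pullback_fst _ _ inferInstance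
  haveI : IsOpenImmersion (O.ι ≫ pullback.fst f φ) := inferInstance
  have hr : Set.range (f ⁻¹ᵁ (φ ''ᵁ V)).ι ⊆ Set.range (O.ι ≫ pullback.fst f φ) := by
    rw [Scheme.Opens.range_ι]
    rintro z ⟨t, ht', htz⟩
    obtain ⟨z', hz', hz''⟩ := Scheme.Pullback.exists_preimage_pullback z t (f := f) (g := φ) htz.symm
    refine ⟨⟨z', ?_⟩, hz'⟩
    show pullback.snd f φ z' ∈ V
    rw [hz'']
    exact ht'
  exact ⟨φ ''ᵁ V, ⟨x, hxV, rfl⟩,
    (h1.comp (IsOpenImmersion.lift (O.ι ≫ pullback.fst f φ) _ hr)).of_eq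
      (IsOpenImmersion.lift_fac _ _ hr)⟩

omit [IsProper f] [Flat f] [IsLocallyNoetherian Y] in
/-- An invertible module trivial locally on the base comes from the base when functions do. -/
theorem exists_of_local_gen (hpush : H2.Rigid.Push f) (L : X.Modules)
    (h : ∀ y : Y, ∃ V : Y.Opens, y ∈ V ∧ ∃ l : Γ(L, f ⁻¹ᵁ V), IsGen L (f ⁻¹ᵁ V) l) :
    ∃ M : Y.Modules, PicF.IsInvertible M ∧ Nonempty ((Scheme.Modules.pullback f).obj M ≅ L) := by
  choose V hyV l hl using h
  have hV : iSup V = ⊤ := top_unique fun y _ => Opens.mem_iSup.2 ⟨y, hyV y⟩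
  have hex : ∀ i j, ∃ r : Γ(Y, V i ⊓ V j),
      rs L (f.preimage_mono inf_le_right : f ⁻¹ᵁ (V i ⊓ V j) ≤ f ⁻¹ᵁ V j) (l j) =
        f.app (V i ⊓ V j) r • rs L (f.preimage_mono inf_le_left : f ⁻¹ᵁ (V i ⊓ V j) ≤ f ⁻¹ᵁ V i) (l i) := by
    intro i j
    obtain ⟨s, hs⟩ := Ample.GenLocus.exists_coord
      ((hl i).res (f.preimage_mono inf_le_left : f ⁻¹ᵁ (V i ⊓ V j) ≤ f ⁻¹ᵁ V i))
      (rs L (f.preimage_mono inf_le_right) (l j))
    obtain ⟨r, rfl⟩ := (hpush _).2 s
    exact ⟨r, hs⟩
  choose r hr' using hex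
  have key : ∀ (i j : Y) (W : Y.Opens) (hi : W ≤ V i) (hj : W ≤ V j),
      rs L (f.preimage_mono hj) (l j) = f.app W (rf (le_inf hi hj) (r i j)) • rs L (f.preimage_mono hi) (l i) := by
    intro i j W hi hj
    have h := congrArg (rs L (f.preimage_mono (le_inf hi hj))) (hr' i j)
    rw [rs_smul, rs_rs, rs_rs] at h
    refine h.trans (congrArg (· • _) ?_)
    exact (congr($(f.naturality (homOfLE (le_inf hi hj)).op) (r i j))).symm
  have huniq : ∀ (i : Y) (W : Y.Opens) (hi : W ≤ V i) (a b : Γ(Y, W)),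
      f.app W a • rs L (f.preimage_mono hi) (l i) = f.app W b • rs L (f.preimage_mono hi) (l i) → a = b :=
    fun i W hi a b h => (hpush W).1 ((hl i _ (f.preimage_mono hi)).1 h)
  let c : Cocycle V :=
    { u := r
      self := fun i W h => huniq i W (h.trans inf_le_left) _ _ <| by
        rw [map_one, one_smul]
        exact (key i i W (h.trans inf_le_left) (h.trans inf_le_right)).symm
      trans := fun i j k W hi hj hk => huniq i W hi _ _ <| by
        rw [← key i k W hi hk, map_mul, mul_comm, mul_smul, ← key i j W hi hj, ← key j k W hj hk] }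
  exact ⟨glue c, isInvertible_glue c hV,
    H97.PullbackLine.nonempty_pullback_glue_iso f hV c L l hl fun i j => hr' i j⟩

/-- Over a reduced locally Noetherian base, an invertible module trivial on every fibre comes from
the base. -/
theorem exists_of_fibres [IsReduced Y] [Surjective f] (hH : H2.Rigid.H0 f)
    (L : X.Modules) (hL : PicF.IsInvertible L)
    (ht : ∀ y : Y, Nonempty ((Scheme.Modules.pullback (f.fiberι y)).obj L ≅
      Coh.structureModule (f.fiber y))) :
    ∃ M : Y.Modules, PicF.IsInvertible M ∧ Nonempty ((Scheme.Modules.pullback f).obj M ≅ L) := by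
  obtain ⟨ι, U, -, hUc, e, he, c, hc⟩ := Triv.exists_cocycle hL
  refine exists_of_local_gen f (H2.Rigid.push_of_flat f hH) L fun y => ?_
  obtain ⟨V, hyV, hV⟩ := exists_trivAlong_nhd f c hUc (fun y => by
      haveI : Nonempty (f.fiber y) := by
        obtain ⟨x, rfl⟩ := f.surjective y
        exact ⟨f.asFiber x⟩
      exact bijective_appTop_of_surjective _ (hH y))
    (fun y => (trivAlong_iff e he c hc hUc _).2 (ht y)) y
  obtain ⟨i⟩ := (trivAlong_iff e he c hc hUc _).1 hV
  exact ⟨V, hyV, TensorMod.Gen.exists_gen_of_iso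
    ((Scheme.Modules.restrictFunctorIsoPullback (f ⁻¹ᵁ V).ι).app L ≪≫ i)⟩

end

end Groth.Agent.Lib.Cube.SeesawGlobal
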