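import Groth.Agent.Lib.Cube.Global
import Groth.Agent.Lib.Snapper.Finite

/-!
# The finiteness input of the theorem of the cube
-/

set_option autoImplicit false

universe u

open CategoryTheory AlgebraicGeometry

namespace Groth.Agent.Lib.Cube.Finiteness

theorem finH1 : SepOfFinite.FinH1.{u} := fun A _ _ W _ _ L hL =>
  ProperFin.Assembly.qfin_of_isCoh Snapper.Finite.facts L
    (haveI : IsLocallyNoetherian W := LocallyOfFiniteType.isLocallyNoetherian (W ↘ Spec (CommRingCat.of A))
     Ample.GG.isCoh_of_isInvertible hL) 1

end Groth.Agent.Lib.Cube.Finiteness
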