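import Groth.Agent.Lib.Cube.Regular

/-!
# Rigidified trivialisations in the theorem of the cube

A trivialisation over an open of the base can be normalised along the first slice, and normalised
trivialisations are unique; so triviality is local on the base.
-/

set_option autoImplicit false

universe u

open CategoryTheory CategoryTheory.Limits AlgebraicGeometry TopologicalSpace Opposite

namespace Groth.Agent.Lib.Cube.Rigid

open Groth.Agent.Lib.TensorMod.Dual (rf rf_rf rf_self)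
open Groth.Agent.Lib.Cube.Triv Groth.Agent.Lib.Cube.Cech1
open Groth.Agent.Lib.Cube.Small (app_congr)
open Groth.Agent.H97.GlueLine (Cocycle)

noncomputable section

variable {W : Scheme.{u}} {ι : Type u} {U : ι → W.Opens}

/-- Families invariant under the cocycle on an open. -/
def IsSec (c : Cocycle U) (O : W.Opens) (v : ∀ a, Γ(W, U a ⊓ O)) : Prop :=
  ∀ (a b : ι) (V : W.Opens) (ha : V ≤ U a ⊓ O) (hb : V ≤ U b ⊓ O),
    rf ha (v a) = rf (le_inf (ha.trans inf_le_left) (hb.trans inf_le_left)) (c.u a b) * rf hb (v b)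

theorem rf_one {A B : W.Opens} (h : A ≤ B) : rf h (1 : Γ(W, B)) = 1 :=
  map_one (W.presheaf.map (homOfLE h).op).hom

theorem isUnit_rf {A B : W.Opens} (h : A ≤ B) {x : Γ(W, B)} (hx : IsUnit x) : IsUnit (rf h x) :=
  hx.map (W.presheaf.map (homOfLE h).op).hom

/-- Units on a cover make a unit. -/
theorem isUnit_of_cover {A : W.Opens} {κ : Type u} (V : κ → W.Opens) (hV : A ≤ iSup V) {x : Γ(W, A)}
    (h : ∀ k, IsUnit (rf (inf_le_left : A ⊓ V k ≤ A) x)) : IsUnit x := by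
  choose y hy using fun k => (h k).exists_right_inv
  obtain ⟨t, ht⟩ := fun_glue V hV y fun k l B hk hl => by
    have e1 : rf (hk.trans inf_le_left) x * rf hk (y k) = 1 := by
      rw [← rf_rf (inf_le_left : A ⊓ V k ≤ A) hk, ← rf_mul, hy, rf_one]
    have e2 : rf (hl.trans inf_le_left) x * rf hl (y l) = 1 := by
      rw [← rf_rf (inf_le_left : A ⊓ V l ≤ A) hl, ← rf_mul, hy, rf_one]
    exact left_inv_eq_right_inv (by rw [mul_comm]; exact e1) e2
  refine IsUnit.of_mul_eq_one t (fun_ext V hV fun k B hA hk => ?_)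
  rw [rf_mul, ht k B hA hk, rf_one, ← rf_rf (inf_le_left : A ⊓ V k ≤ A) (le_inf hA hk) x,
    ← rf_mul, hy, rf_one]

/-- A trivialisation along an open immersion gives one on the open. -/
theorem exists_sec_of_isOpenImmersion {P : Scheme.{u}} (c : Cocycle U) (f : P ⟶ W) [IsOpenImmersion f]
    {O : W.Opens} (hO : O ≤ f.opensRange) (h : TrivAlong c f) :
    ∃ v : ∀ a, Γ(W, U a ⊓ O), (∀ a, IsUnit (v a)) ∧ IsSec c O v := by
  obtain ⟨w, hw, he⟩ := h
  have key : ∀ A : W.Opens, A ≤ O → Function.Bijective (f.app A).hom := fun A hA => by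
    haveI : IsIso (f.app A) := f.isIso_app A (hA.trans hO)
    exact ConcreteCategory.bijective_of_isIso (f.app A)
  have hsurj : ∀ a, ∃ v : Γ(W, U a ⊓ O),
      (f.app (U a ⊓ O)).hom v = rf (pre_mono f inf_le_left) (w a) := fun a => (key _ inf_le_right).2 _
  choose v hv using hsurj
  refine ⟨v, fun a => ?_, fun a b V ha hb => ?_⟩
  · obtain ⟨y, hy⟩ := (isUnit_rf (pre_mono f (inf_le_left : U a ⊓ O ≤ U a)) (hw a)).exists_right_inv
    obtain ⟨z, hz⟩ := (key (U a ⊓ O) inf_le_right).2 y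
    refine IsUnit.of_mul_eq_one z ((key _ inf_le_right).1 ?_)
    rw [map_mul, hv, hz, hy, map_one]
  · refine (key V (ha.trans inf_le_right)).1 ?_
    rw [map_mul, app_rf, app_rf, app_rf, hv, hv, rf_rf, rf_rf]
    exact TrivAlong.eq he a b _ _

theorem ratio_eq {A : Type u} [CommRing A] {x c y wb qa qb : A} (h : x = c * y)
    (e1 : c * wb * qa = 1) (e2 : wb * qb = 1) : x * qa = y * qb := by
  linear_combination qa * h + (y * qb) * e1 - (c * y * qa) * e2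

variable {S : Scheme.{u}} (C : Ctx S)

/-- The trivialisation on the first slice. -/
def wi (a : C.ι) : Γ(C.Y, C.i ⁻¹ᵁ C.U a) := C.hi.choose a

theorem isUnit_wi (a : C.ι) : IsUnit (wi C a) := C.hi.choose_spec.1 a

theorem wi_eq (a b : C.ι) {V : C.Y.Opens} (ha : V ≤ C.i ⁻¹ᵁ C.U a) (hb : V ≤ C.i ⁻¹ᵁ C.U b) :
    rf ha (wi C a) = rf (le_inf ha hb : V ≤ C.i ⁻¹ᵁ (C.U a ⊓ C.U b)) (C.i.app (C.U a ⊓ C.U b) (C.c.u a b)) *
      rf hb (wi C b) :=
  TrivAlong.eq C.hi.choose_spec.2 a b ha hb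

/-- The values on the first slice are the fixed trivialisation. -/
def IsRigid {O : C.W.Opens} (v : ∀ a, Γ(C.W, C.U a ⊓ O)) : Prop :=
  ∀ a, (C.i.app (C.U a ⊓ O)).hom (v a) = rf (pre_mono C.i inf_le_left) (wi C a)

theorem surjective_py : Surjective C.py :=
  ⟨fun s => ⟨C.y₀ s, by rw [← Scheme.Hom.comp_apply, C.hy₀]; rfl⟩⟩

/-- The structure maps push the structure sheaf to the structure sheaf. -/
class Pushes (C : Ctx S) : Prop where
  py : ∀ V : S.Opens, Function.Bijective (C.py.app V).hom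
  pw : ∀ V : S.Opens, Function.Bijective (C.pw.app V).hom

instance (priority := low) pushes_of_noetherian [IsLocallyNoetherian S] : Pushes C where
  py V := by
    haveI := surjective_py C
    exact H2.Rigid.push_of_flat C.py C.hy V
  pw V := by
    haveI : Surjective C.px := ⟨fun s => ⟨C.x₀ s, by rw [← Scheme.Hom.comp_apply, C.hx₀]; rfl⟩⟩
    haveI : Surjective C.fx := ⟨fun x => ⟨C.j x, by rw [← Scheme.Hom.comp_apply, C.hj₁]; rfl⟩⟩
    haveI : IsLocallyNoetherian C.X := LocallyOfFiniteType.isLocallyNoetherian C.px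
    have h1 := H2.Rigid.push_of_flat C.px C.hx V
    have h2 := H2.Rigid.push_of_flat C.fx (C.hy.of_isPullback C.H.flip) (C.px ⁻¹ᵁ V)
    exact h2.comp h1

theorem bijective_py_app [Pushes C] (V : S.Opens) :
    Function.Bijective (C.py.app V).hom :=
  Pushes.py V

theorem bijective_pw_app [Pushes C] (V : S.Opens) :
    Function.Bijective (C.pw.app V).hom :=
  Pushes.pw V

theorem app_i_pw (V : S.Opens) (μ : Γ(S, V)) :
    (C.i.app (C.pw ⁻¹ᵁ V)).hom ((C.pw.app V).hom μ) =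
      rf (by rw [← Scheme.Hom.comp_preimage, Ctx.i_pw]) ((C.py.app V).hom μ) := by
  rw [← CommRingCat.comp_apply, ← Scheme.Hom.comp_app]
  exact app_congr (Ctx.i_pw C) V μ

theorem iSup_pre (O : C.W.Opens) : O ≤ iSup C.U := C.hUc ▸ le_top

theorem iSup_pre_i (O : C.Y.Opens) : O ≤ iSup fun a => C.i ⁻¹ᵁ C.U a := by
  rw [← Scheme.Hom.preimage_iSup, C.hUc, Scheme.Hom.preimage_top]
  exact le_top

/-- The ratio of a family to an invertible one is a function. -/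
theorem exists_ratio {O : C.W.Opens} {v v' : ∀ a, Γ(C.W, C.U a ⊓ O)} (hu : ∀ a, IsUnit (v a))
    (hv : IsSec C.c O v) (hv' : IsSec C.c O v') :
    ∃ r : Γ(C.W, O), ∀ a, v' a = rf inf_le_right r * v a := by
  choose q hq using fun a => (hu a).exists_right_inv
  let s : ∀ a, Γ(C.W, O ⊓ C.U a) := fun a => rf (inf_comm _ _).le (v' a * q a)
  obtain ⟨r, hr⟩ := fun_glue C.U (iSup_pre C O) s fun a b B ha hb => by
    have ha' : B ≤ C.U a ⊓ O := ha.trans (inf_comm _ _).le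
    have hb' : B ≤ C.U b ⊓ O := hb.trans (inf_comm _ _).le
    simp only [s, rf_rf]
    rw [rf_mul, rf_mul]
    have e1 : rf ha' (v a) * rf ha' (q a) = 1 := by rw [← rf_mul, hq, rf_one]
    have e2 : rf hb' (v b) * rf hb' (q b) = 1 := by rw [← rf_mul, hq, rf_one]
    rw [hv' a b B ha' hb']
    rw [hv a b B ha' hb'] at e1
    linear_combination (rf hb' (v' b) * rf hb' (q b)) * e1 -
      (rf (le_inf (ha'.trans inf_le_left) (hb'.trans inf_le_left)) (C.c.u a b) * rf hb' (v' b) * rf ha' (q a)) * e2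
  refine ⟨r, fun a => ?_⟩
  have h := hr a (C.U a ⊓ O) inf_le_right inf_le_left
  simp only [s, rf_rf] at h
  erw [rf_self] at h
  rw [h, mul_assoc, mul_comm (q a), hq, mul_one]

/-- A trivialisation over an open of the base can be normalised along the slice. -/
theorem exists_rigid [Pushes C] (V : S.Opens) {v : ∀ a, Γ(C.W, C.U a ⊓ C.pw ⁻¹ᵁ V)}
    (hu : ∀ a, IsUnit (v a)) (hv : IsSec C.c (C.pw ⁻¹ᵁ V) v) :
    ∃ v' : ∀ a, Γ(C.W, C.U a ⊓ C.pw ⁻¹ᵁ V),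
      (∀ a, IsUnit (v' a)) ∧ IsSec C.c (C.pw ⁻¹ᵁ V) v' ∧ IsRigid C v' := by
  let O := C.pw ⁻¹ᵁ V
  have hO : C.py ⁻¹ᵁ V = C.i ⁻¹ᵁ O := by
    show C.py ⁻¹ᵁ V = C.i ⁻¹ᵁ C.pw ⁻¹ᵁ V
    rw [← Scheme.Hom.comp_preimage, Ctx.i_pw]
  have hle : ∀ a, C.py ⁻¹ᵁ V ⊓ C.i ⁻¹ᵁ C.U a ≤ C.i ⁻¹ᵁ (C.U a ⊓ O) := fun a =>
    le_inf inf_le_right (inf_le_left.trans hO.le)
  choose q hq using fun a => (isUnit_wi C a).exists_right_inv
  let s : ∀ a, Γ(C.Y, C.py ⁻¹ᵁ V ⊓ C.i ⁻¹ᵁ C.U a) := fun a =>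
    rf (hle a) ((C.i.app (C.U a ⊓ O)).hom (v a)) * rf inf_le_right (q a)
  obtain ⟨r, hr⟩ := fun_glue (fun a => C.i ⁻¹ᵁ C.U a) (iSup_pre_i C _) s fun a b B ha hb => by
    simp only [s, rf_mul, rf_rf]
    have ha' : B ≤ C.i ⁻¹ᵁ C.U a := ha.trans inf_le_right
    have hb' : B ≤ C.i ⁻¹ᵁ C.U b := hb.trans inf_le_right
    have e1 : rf ha' (wi C a) * rf ha' (q a) = 1 := by rw [← rf_mul, hq, rf_one]
    have e2 : rf hb' (wi C b) * rf hb' (q b) = 1 := by rw [← rf_mul, hq, rf_one]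
    have e3 := congrArg (rf (le_inf (ha.trans (hle a)) (hb.trans (hle b)) :
        B ≤ C.i ⁻¹ᵁ ((C.U a ⊓ O) ⊓ (C.U b ⊓ O))))
      (congrArg (C.i.app ((C.U a ⊓ O) ⊓ (C.U b ⊓ O))).hom (hv a b _ inf_le_left inf_le_right))
    simp only [map_mul, app_rf] at e3
    erw [rf_mul, rf_rf, rf_rf, rf_rf] at e3
    rw [wi_eq C a b ha' hb'] at e1
    exact ratio_eq e3 e1 e2
  obtain ⟨μ, hμ⟩ := (bijective_py_app C V).2 r
  have hμu : IsUnit μ := by
    have hr' : IsUnit r := isUnit_of_cover (fun a => C.i ⁻¹ᵁ C.U a) (iSup_pre_i C _) fun a => by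
      rw [hr a _ inf_le_left inf_le_right, rf_self]
      exact (isUnit_rf _ ((hu a).map _)).mul (isUnit_rf _ (IsUnit.of_mul_eq_one _ (by rw [mul_comm]; exact hq a)))
    obtain ⟨r', hr''⟩ := hr'.exists_right_inv
    obtain ⟨μ', hμ'⟩ := (bijective_py_app C V).2 r'
    exact IsUnit.of_mul_eq_one μ' ((bijective_py_app C V).1 (by rw [map_mul, hμ, hμ', hr'', map_one]))
  obtain ⟨μ', hμ'⟩ := hμu.exists_right_inv
  refine ⟨fun a => rf inf_le_right ((C.pw.app V).hom μ') * v a, fun a => ?_, fun a b B ha hb => ?_,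
    fun a => ?_⟩
  · exact (isUnit_rf _ ((IsUnit.of_mul_eq_one μ (by rw [mul_comm]; exact hμ')).map _)).mul (hu a)
  · rw [rf_mul, rf_mul, rf_rf, rf_rf, hv a b B ha hb]
    ring
  · have hB : C.i ⁻¹ᵁ (C.U a ⊓ O) ≤ C.py ⁻¹ᵁ V ⊓ C.i ⁻¹ᵁ C.U a :=
      le_inf ((pre_mono C.i inf_le_right).trans hO.ge) (pre_mono C.i inf_le_left)
    have h := hr a _ (hB.trans inf_le_left) (hB.trans inf_le_right)
    rw [← hμ] at h
    simp only [s] at h
    erw [rf_mul, rf_rf, rf_rf, rf_self] at h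
    rw [map_mul, app_rf, app_i_pw, rf_rf]
    have e1 : rf (hB.trans inf_le_left) ((C.py.app V).hom μ) *
        rf (hB.trans inf_le_left) ((C.py.app V).hom μ') = 1 := by
      rw [← rf_mul, ← map_mul, hμ', map_one, rf_one]
    have e2 : rf (hB.trans inf_le_right) (wi C a) * rf (hB.trans inf_le_right) (q a) = 1 := by
      rw [← rf_mul, hq, rf_one]
    linear_combination (rf (hB.trans inf_le_right) (wi C a)) * e1 -
      (rf (hB.trans inf_le_left) ((C.py.app V).hom μ') * (rf (hB.trans inf_le_right) (wi C a))) * h -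
      ((C.i.app (C.U a ⊓ O)).hom (v a) * rf (hB.trans inf_le_left) ((C.py.app V).hom μ')) * e2

/-- Normalised trivialisations are unique. -/
theorem rigid_unique [Pushes C] (V : S.Opens)
    {v v' : ∀ a, Γ(C.W, C.U a ⊓ C.pw ⁻¹ᵁ V)} (hu : ∀ a, IsUnit (v a))
    (hv : IsSec C.c (C.pw ⁻¹ᵁ V) v) (hv' : IsSec C.c (C.pw ⁻¹ᵁ V) v')
    (hr : IsRigid C v) (hr' : IsRigid C v') : v' = v := by
  obtain ⟨r, h⟩ := exists_ratio C hu hv hv'
  obtain ⟨ν, rfl⟩ := (bijective_pw_app C V).2 r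
  have hν : ν = 1 := (bijective_py_app C V).1 (by
    rw [map_one]
    refine fun_ext (fun a => C.i ⁻¹ᵁ C.U a) (iSup_pre_i C _) fun a B hA hB => ?_
    have hVi : C.py ⁻¹ᵁ V ≤ C.i ⁻¹ᵁ C.pw ⁻¹ᵁ V := by rw [← Scheme.Hom.comp_preimage, Ctx.i_pw]
    have hle : B ≤ C.i ⁻¹ᵁ (C.U a ⊓ C.pw ⁻¹ᵁ V) := le_inf hB (hA.trans hVi)
    have e := congrArg (rf hle) (congrArg (C.i.app (C.U a ⊓ C.pw ⁻¹ᵁ V)).hom (h a))
    erw [map_mul, rf_mul, hr' a, hr a, app_rf, app_i_pw, rf_rf, rf_rf, rf_rf] at e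
    rw [rf_one]
    exact ((isUnit_rf _ (isUnit_wi C a)).mul_eq_right).1 e.symm)
  funext a
  rw [h, hν, map_one, rf_one, one_mul]

/-- Triviality over an open of the base is local on it. -/
theorem exists_sec_of_local [Pushes C] (T : S.Opens)
    (h : ∀ s ∈ T, ∃ V : S.Opens, s ∈ V ∧ ∃ v : ∀ a, Γ(C.W, C.U a ⊓ C.pw ⁻¹ᵁ V),
      (∀ a, IsUnit (v a)) ∧ IsSec C.c (C.pw ⁻¹ᵁ V) v) :
    ∃ v : ∀ a, Γ(C.W, C.U a ⊓ C.pw ⁻¹ᵁ T),
      (∀ a, IsUnit (v a)) ∧ IsSec C.c (C.pw ⁻¹ᵁ T) v := by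
  have h' : ∀ s : T, ∃ V : S.Opens, (s : S) ∈ V ∧ ∃ v : ∀ a, Γ(C.W, C.U a ⊓ C.pw ⁻¹ᵁ V),
      (∀ a, IsUnit (v a)) ∧ IsSec C.c (C.pw ⁻¹ᵁ V) v ∧ IsRigid C v := fun s => by
    obtain ⟨V, hs, v, hu, hv⟩ := h s s.2
    exact ⟨V, hs, exists_rigid C V hu hv⟩
  choose V hV v hu hv hr using h'
  have hcov : ∀ a, C.U a ⊓ C.pw ⁻¹ᵁ T ≤ iSup fun s => C.pw ⁻¹ᵁ V s := fun a w hw =>
    Opens.mem_iSup.2 ⟨⟨C.pw w, hw.2⟩, hV ⟨C.pw w, hw.2⟩⟩
  -- the trivialisations agree over intersections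
  have agree : ∀ s t a (B : C.W.Opens) (hs : B ≤ C.U a ⊓ C.pw ⁻¹ᵁ V s) (ht : B ≤ C.U a ⊓ C.pw ⁻¹ᵁ V t),
      rf hs (v s a) = rf ht (v t a) := by
    intro s t a B hs ht
    let O := C.pw ⁻¹ᵁ (V s ⊓ V t)
    have hl : ∀ b, C.U b ⊓ O ≤ C.U b ⊓ C.pw ⁻¹ᵁ V s := fun b =>
      inf_le_inf_left _ (pre_mono C.pw inf_le_left)
    have hr' : ∀ b, C.U b ⊓ O ≤ C.U b ⊓ C.pw ⁻¹ᵁ V t := fun b =>
      inf_le_inf_left _ (pre_mono C.pw inf_le_right)
    have sec : ∀ (x : T) (hl : ∀ b, C.U b ⊓ O ≤ C.U b ⊓ C.pw ⁻¹ᵁ V x),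
        IsSec C.c O (fun b => rf (hl b) (v x b)) ∧ IsRigid C (O := O) (fun b => rf (hl b) (v x b)) :=
      fun x hl => ⟨fun b d B hb hd => by
          rw [rf_rf, rf_rf]; exact hv x b d B _ _,
        fun b => by
          rw [app_rf, hr x b, rf_rf]⟩
    have e := congrFun (rigid_unique C (V s ⊓ V t) (v := fun b => rf (hl b) (v s b))
      (v' := fun b => rf (hr' b) (v t b)) (fun b => isUnit_rf _ (hu s b)) (sec s hl).1 (sec t hr').1
      (sec s hl).2 (sec t hr').2) a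
    have hB : B ≤ C.U a ⊓ O := le_inf (hs.trans inf_le_left)
      (le_inf (hs.trans inf_le_right) (ht.trans inf_le_right))
    have e' := congrArg (rf hB) e
    simp only [rf_rf] at e'
    exact e'.symm
  have glue : ∀ a, ∃ t : Γ(C.W, C.U a ⊓ C.pw ⁻¹ᵁ T), ∀ s (B : C.W.Opens)
      (hA : B ≤ C.U a ⊓ C.pw ⁻¹ᵁ T) (hs : B ≤ C.pw ⁻¹ᵁ V s),
      rf hA t = rf (le_inf (hA.trans inf_le_left) hs) (v s a) := fun a => by
    obtain ⟨t, ht⟩ := fun_glue (fun s => C.pw ⁻¹ᵁ V s) (hcov a)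
      (fun s => rf (inf_le_inf_right _ inf_le_left) (v s a)) fun s t B hs ht => by
        rw [rf_rf, rf_rf]; exact agree s t a B _ _
    exact ⟨t, fun s B hA hs => (ht s B hA hs).trans (rf_rf _ _ _)⟩
  choose t ht using glue
  refine ⟨t, fun a => ?_, fun a b B ha hb => ?_⟩
  · refine isUnit_of_cover (fun s => C.pw ⁻¹ᵁ V s) (hcov a) fun s => ?_
    rw [ht a s _ inf_le_left inf_le_right]
    exact isUnit_rf _ (hu s a)
  · refine fun_ext (fun s => C.pw ⁻¹ᵁ V s) (ha.trans (hcov a)) fun s B' hA hs => ?_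
    erw [rf_mul, rf_rf, rf_rf, rf_rf]
    erw [ht a s B' (hA.trans ha) hs, ht b s B' (hA.trans hb) hs]
    exact hv s a b B' _ _

/-- Triviality is local on the base. -/
theorem trivAlong_of_local [Pushes C]
    (h : ∀ s : S, ∃ V : S.Opens, s ∈ V ∧ ∃ v : ∀ a, Γ(C.W, C.U a ⊓ C.pw ⁻¹ᵁ V),
      (∀ a, IsUnit (v a)) ∧ IsSec C.c (C.pw ⁻¹ᵁ V) v) :
    TrivAlong C.c (𝟙 C.W) := by
  obtain ⟨v, hu, hv⟩ := exists_sec_of_local C ⊤ fun s _ => h s
  have hle : ∀ a, C.U a ≤ C.U a ⊓ C.pw ⁻¹ᵁ ⊤ := fun a => le_inf le_rfl fun _ _ => trivial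
  refine ⟨fun a => rf (hle a) (v a), fun a => isUnit_rf _ (hu a), fun a b => ?_⟩
  erw [rf_rf, rf_rf]
  refine (hv a b (C.U a ⊓ C.U b) _ _).trans (congrArg (· * _) ?_)
  exact rf_self _ _

end

end Groth.Agent.Lib.Cube.Rigid
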