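import Groth.Agent.Lib.Cube.Spread
import Groth.Agent.H46.DvrScheme
import Mathlib.AlgebraicGeometry.Morphisms.UniversallyOpen

/-!
# Specialisation in the theorem of the cube

Over a discrete valuation ring, with the first factor geometrically integral and the second
geometrically reduced with constant functions, triviality on the generic fibre gives triviality on
the special fibre.
-/

set_option autoImplicit false

universe u

open CategoryTheory CategoryTheory.Limits AlgebraicGeometry TopologicalSpace Opposite IsLocalRing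

namespace Groth.Agent.Lib.Cube.Special

open Groth.Agent.Lib.TensorMod.Dual (rf rf_rf rf_self)
open Groth.Agent.Lib.Cube.Triv Groth.Agent.Lib.Cube.Cech1 Groth.Agent.Lib.Cube.AffineBC
open Groth.Agent.Lib.Cube.Rigid (wi isUnit_wi wi_eq isUnit_rf)
open Groth.Agent.Lib.Cube.Dvr
open Groth.Agent.Lib.Cube.Descend (pull)
open Groth.Agent.H97.GlueLine (Cocycle)

noncomputable section

variable {W : Scheme.{u}} {ι : Type u} {U : ι → W.Opens}

/-- The inverse cocycle. -/
def invC (c : Cocycle U) : Cocycle U where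
  u a b := rf (inf_comm _ _).le (c.u b a)
  self a V h := by rw [rf_rf]; exact c.self a V _
  trans a b d V ha hb hd := by
    simp only [rf_rf]
    rw [mul_comm]
    exact c.trans d b a V hd hb ha

theorem tr_swap (c : Cocycle U) (a b : ι) {V : W.Opens} (ha : V ≤ U a) (hb : V ≤ U b) :
    rf (le_inf hb ha) (c.u b a) * rf (le_inf ha hb) (c.u a b) = 1 :=
  (c.trans b a b V hb ha hb).trans (c.self b V _)

theorem isRel_invC {c : Cocycle U} {y : ∀ a, Γ(W, U a)} (h : IsRelInv c y) : IsRel (invC c) y :=
  fun a b V ha hb => by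
    simp only [invC, rf_rf]
    rw [h a b V ha hb, ← mul_assoc, tr_swap c a b ha hb, one_mul]

theorem trivAlong_invC {c : Cocycle U} {P : Scheme.{u}} {f : P ⟶ W} (h : TrivAlong c f) :
    TrivAlong (invC c) f := by
  obtain ⟨v, hv, he⟩ := h
  choose w hw using fun a => (hv a).exists_right_inv
  refine ⟨w, fun a => IsUnit.of_mul_eq_one (v a) (by rw [mul_comm]; exact hw a), fun a b => ?_⟩
  have e1 : rf (pre_mono f (inf_le_left : U a ⊓ U b ≤ U a)) (v a) * rf (pre_mono f inf_le_left) (w a) = 1 := by
    rw [← rf_mul, hw, Rigid.rf_one]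
  have e2 : rf (pre_mono f (inf_le_right : U a ⊓ U b ≤ U b)) (v b) * rf (pre_mono f inf_le_right) (w b) = 1 := by
    rw [← rf_mul, hw, Rigid.rf_one]
  have hsw := congrArg (f.app (U a ⊓ U b)).hom (tr_swap c a b (inf_le_left : U a ⊓ U b ≤ U a) inf_le_right)
  rw [map_one, map_mul, rf_self] at hsw
  simp only [invC]
  rw [he a b] at e1
  have e3 : rf (pre_mono f (inf_le_right : U a ⊓ U b ≤ U b)) (w b) =
      f.app (U a ⊓ U b) (c.u a b) * rf (pre_mono f inf_le_left) (w a) := inv_rel e1 e2
  rw [e3, ← mul_assoc]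
  exact ((congrArg (· * _) hsw).trans (one_mul _)).symm

/-- Over a base with constant functions an invariant family is a constant times a trivialisation. -/
theorem exists_const_mul {K : CommRingCat.{u}} (q : W ⟶ Spec K)
    (hq : Function.Bijective q.appTop.hom) (hU : iSup U = ⊤) {c : Cocycle U}
    {v x : ∀ a, Γ(W, U a)} (hv : IsRel c v) (hu : ∀ a, IsUnit (v a)) (hx : IsRel c x) :
    ∃ l : K, ∀ a, x a = (str q (U a)).hom l * v a := by
  choose w hw using fun a => (hu a).exists_right_inv
  obtain ⟨r, hr⟩ := fun_glue U (hU.ge) (fun a => rf inf_le_right (x a * w a)) fun a b B ha hb => by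
    have ha' : B ≤ U a := ha.trans inf_le_right
    have hb' : B ≤ U b := hb.trans inf_le_right
    rw [rf_rf, rf_rf, rf_mul, rf_mul]
    have e1 : rf ha' (v a) * rf ha' (w a) = 1 := by rw [← rf_mul, hw, Rigid.rf_one]
    have e2 : rf hb' (v b) * rf hb' (w b) = 1 := by rw [← rf_mul, hw, Rigid.rf_one]
    rw [hv a b B ha' hb'] at e1
    exact Rigid.ratio_eq (hx a b B ha' hb') e1 e2
  obtain ⟨r', hr'⟩ := hq.2 r
  obtain ⟨l, rfl⟩ := (ConcreteCategory.bijective_of_isIso (Scheme.ΓSpecIso K).inv).2 r'
  refine ⟨l, fun a => ?_⟩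
  have h1 := hr a (U a) le_top le_rfl
  rw [rf_rf] at h1
  erw [rf_self] at h1
  have h2 : (str q (U a)).hom l = x a * w a := by
    refine Eq.trans ?_ h1
    rw [← hr']
    show _ = rf le_top ((q.app ⊤).hom ((Scheme.ΓSpecIso K).inv l))
    simp only [AffineBC.str, Scheme.Hom.appLE, CommRingCat.comp_apply]
    rfl
  rw [h2, mul_assoc, mul_comm (w a), hw, mul_one]

theorem isRel_of_triv {c : Cocycle U} {P : Scheme.{u}} {f : P ⟶ W} {v : ∀ a, Γ(P, f ⁻¹ᵁ U a)}
    (he : ∀ a b, rf (pre_mono f (inf_le_left : U a ⊓ U b ≤ U a)) (v a) =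
      f.app (U a ⊓ U b) (c.u a b) * rf (pre_mono f inf_le_right) (v b)) :
    IsRel (Triv.comap c f) v := fun a b _ ha hb => TrivAlong.eq he a b ha hb

/-- Triviality over a base change passes to the family of the first factor over a point of the second. -/
theorem trivAlong_lift {R : CommRingCat.{u}} (C : Ctx (Spec R)) (c : Cocycle C.U) {T T' T₁ : Scheme.{u}} (g' : T ⟶ C.Y) (γ : T' ⟶ T)
    (φ : T₁ ⟶ Spec R) (ρ : T' ⟶ T₁) (h : ρ ≫ φ = γ ≫ g' ≫ C.py) (hgen : TrivAlong c (C.bcMap φ)) :
    TrivAlong (Triv.comap c (pullback.fst C.fy g')) (pullback.fst (pullback.snd C.fy g') γ) := by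
  have hw : (pullback.fst (pullback.snd C.fy g') γ ≫ pullback.fst C.fy g') ≫ C.pw =
      (pullback.snd (pullback.snd C.fy g') γ ≫ ρ) ≫ φ := by
    rw [Category.assoc, Category.assoc, h, Ctx.pw_eq, ← Category.assoc (pullback.fst C.fy g'),
      pullback.condition, Category.assoc, pullback.condition_assoc]
  obtain ⟨v, hv, he⟩ := (hgen.comp (pullback.lift (f := C.pw) (g := φ) _ _ hw)).of_eq
    (pullback.lift_fst _ _ hw)
  exact ⟨v, hv, he⟩

/-- A morphism of the spectrum of a domain which keeps the generic point keeps the fraction fields. -/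
theorem exists_genPt_fac {R : CommRingCat.{u}} [IsDomain R] {A : Type u} [CommRing A] [IsDomain A] (k : Spec (CommRingCat.of A) ⟶ Spec R)
    (hk : k (genericPoint (Spec (CommRingCat.of A))) = (⟨⊥, Ideal.isPrime_bot⟩ : PrimeSpectrum R)) :
    ∃ ρ : Spec (CommRingCat.of (FractionRing A)) ⟶ Spec (CommRingCat.of (FractionRing R)),
      ρ ≫ genPt R = genPt (CommRingCat.of A) ≫ k := by
  obtain ⟨ψ, hψ⟩ : ∃ ψ : R ⟶ CommRingCat.of A, Spec.map ψ = k := ⟨_, Spec.map_preimage _⟩
  subst hψ
  have hg : genericPoint (Spec (CommRingCat.of A)) = (⟨⊥, Ideal.isPrime_bot⟩ : PrimeSpectrum A) :=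
    genericPoint_eq_bot_of_affine _
  rw [hg] at hk
  have hker : RingHom.ker ψ.hom = ⊥ := by
    rw [RingHom.ker_eq_comap_bot]
    exact congrArg PrimeSpectrum.asIdeal hk
  have hinj : Function.Injective ψ.hom := (RingHom.injective_iff_ker_eq_bot _).2 hker
  let f : R →+* FractionRing A := (algebraMap A (FractionRing A)).comp ψ.hom
  have hf : Function.Injective f := (IsFractionRing.injective A (FractionRing A)).comp hinj
  let L : FractionRing R →+* FractionRing A := IsFractionRing.lift hf
  have e0 : ∀ r : R, L (algebraMap R (FractionRing R) r) = f r := fun r => IsFractionRing.lift_algebraMap hf r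
  refine ⟨Spec.map (CommRingCat.ofHom L), ?_⟩
  have e : CommRingCat.ofHom (algebraMap R (FractionRing R)) ≫ CommRingCat.ofHom L =
      ψ ≫ CommRingCat.ofHom (algebraMap A (FractionRing A)) :=
    CommRingCat.hom_ext (RingHom.ext fun r => e0 r)
  exact ((Spec.map_comp _ _).symm.trans (congrArg Spec.map e)).trans (Spec.map_comp _ _)

variable {R : CommRingCat.{u}} [IsDomain R] [IsDiscreteValuationRing R] [IsNoetherianRing R]
  (C : Ctx (Spec R)) [Finite C.ι] [GeometricallyIntegral C.px]

omit [Finite C.ι] in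
theorem geometricallyIntegral_fy : GeometricallyIntegral C.fy :=
  MorphismProperty.of_isPullback C.H inferInstance

theorem closedPoint_ne_generic : (closedPoint R : Spec R) ≠ (⟨⊥, Ideal.isPrime_bot⟩ : PrimeSpectrum R) :=
  fun h => IsDiscreteValuationRing.not_a_field R (congrArg PrimeSpectrum.asIdeal h)

/-- An invariant family of a cocycle trivial on the generic fibre which vanishes on the special slice
vanishes on the special fibre. -/
theorem not_mem_basicOpen (c : Cocycle C.U) (hgen : TrivAlong c (C.bcMap (genPt R)))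
    {x : ∀ a, Γ(C.W, C.U a)} (hx : IsRel c x)
    (h0 : ∀ a (t : C.Y), C.py t = closedPoint R → C.i t ∈ C.U a → C.i t ∉ C.W.basicOpen (x a))
    (a : C.ι) (q : C.W) (hqU : q ∈ C.U a) (hq : C.pw q = closedPoint R) :
    q ∉ C.W.basicOpen (x a) := by
  let t₀ : C.Y := C.fy q
  have ht₀ : C.py t₀ = closedPoint R := by
    rw [← Scheme.Hom.comp_apply, ← Ctx.pw_eq]; exact hq
  -- a generisation over the generic point, and a valuation ring through both
  let η : Spec R := (⟨⊥, Ideal.isPrime_bot⟩ : PrimeSpectrum R)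
  have hspec : η ⤳ C.py t₀ := by
    rw [ht₀]
    exact (PrimeSpectrum.le_iff_specializes (⟨⊥, Ideal.isPrime_bot⟩ : PrimeSpectrum R) (closedPoint R)).1 bot_le
  obtain ⟨t', hspec', ht'⟩ := Flat.generalizingMap C.py hspec
  haveI : IsLocallyNoetherian C.Y := LocallyOfFiniteType.isLocallyNoetherian C.py
  obtain ⟨A, _, _, _, g', hgc, hgg⟩ := H46.DvrScheme.exists_dvr_of_specializes hspec'
    (fun e => closedPoint_ne_generic (R := R) (by rw [← ht₀, ← e]; exact ht'))
  let P := pullback C.fy g'
  let pP : P ⟶ Spec (CommRingCat.of A) := pullback.snd C.fy g'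
  let gP : P ⟶ C.W := pullback.fst C.fy g'
  haveI : C.Y.IsSeparated := ⟨by rw [← Limits.terminal.comp_from C.py]; infer_instance⟩
  haveI : IsAffineHom g' := by
    haveI : IsAffineHom (g' ≫ terminal.from C.Y) := by
      rw [terminal.comp_from]; infer_instance
    exact IsAffineHom.of_comp g' (terminal.from C.Y)
  haveI : IsAffineHom gP := MorphismProperty.pullback_fst _ _ inferInstance
  haveI := geometricallyIntegral_fy C
  haveI : GeometricallyIntegral pP := MorphismProperty.pullback_snd _ _ inferInstance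
  -- the generic fibre is trivial
  have hgenP : TrivAlong (Triv.comap c gP) (pullback.fst pP (genPt (CommRingCat.of A))) := by
    obtain ⟨ρ, hρ⟩ := exists_genPt_fac (R := R) (A := A) (g' ≫ C.py)
      (by rw [Scheme.Hom.comp_apply, hgg, ht'])
    exact trivAlong_lift C c g' (genPt (CommRingCat.of A)) (genPt R) ρ hρ hgen
  -- hence so is the special fibre
  have hU' : ∀ a, IsAffineOpen (gP ⁻¹ᵁ C.U a) := fun a => (C.hU a).preimage gP
  let Q := pullback pP (Small.res (CommRingCat.of A))
  let pQ : Q ⟶ Spec (CommRingCat.of (ResidueField A)) := pullback.snd pP (Small.res (CommRingCat.of A))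
  haveI : IsIntegral Q :=
    GeometricallyIntegral.geometrically_isIntegral (f := pP) (Small.res (CommRingCat.of A)) _ _
      (IsPullback.of_hasPullback _ _)
  obtain ⟨v, hv, he⟩ := trivAlong_special (p := pP) hU' (Triv.comap c gP) hgenP
    fun x' y' hx' _ h => eq_zero_or_eq_zero (hx'.comap (sp pP)) fun a => by
      rw [← map_mul]; exact h a
  -- invariant families are constant multiples
  haveI : Surjective pQ := ⟨fun z => by
    haveI : Subsingleton (Spec (CommRingCat.of (ResidueField A))) :=
      inferInstanceAs (Subsingleton (PrimeSpectrum (ResidueField A)))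
    exact ⟨Nonempty.some inferInstance, Subsingleton.elim _ _⟩⟩
  have hH0 : H2.Rigid.H0 pQ :=
    H2.Rigid.H0.pullback_snd pP (H2.Rigid.H0.pullback_snd C.fy (C.hx.of_isPullback C.H) g') _
  have hxQ : IsRel (Triv.comap (Triv.comap c gP) (sp pP))
      (fun a => ((sp pP).app (gP ⁻¹ᵁ C.U a)).hom ((gP.app (C.U a)).hom (x a))) :=
    (hx.comap gP).comap (sp pP)
  obtain ⟨l, hl⟩ := exists_const_mul pQ (H2.Rigid.appTop_bijective pQ hH0)
    (by rw [← Scheme.Hom.preimage_iSup, ← Scheme.Hom.preimage_iSup, C.hUc, Scheme.Hom.preimage_top,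
      Scheme.Hom.preimage_top]) (isRel_of_triv he) hv hxQ
  have hQ : ∀ (z : Q) a, z ∈ (sp pP) ⁻¹ᵁ gP ⁻¹ᵁ C.U a →
      (gP ((sp pP) z) ∈ C.W.basicOpen (x a) ↔ l ≠ 0) := fun z a hz => by
    have e : gP ((sp pP) z) ∈ C.W.basicOpen (x a) ↔ z ∈ Q.basicOpen
        (((sp pP).app (gP ⁻¹ᵁ C.U a)).hom ((gP.app (C.U a)).hom (x a))) := by
      show z ∈ (sp pP) ⁻¹ᵁ gP ⁻¹ᵁ C.W.basicOpen (x a) ↔ _
      rw [Scheme.preimage_basicOpen, Scheme.preimage_basicOpen]
    rw [e, hl a]
    constructor
    · intro h hl0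
      rw [hl0, map_zero, zero_mul, Scheme.basicOpen_zero] at h
      exact h
    · intro hl0
      rw [Scheme.basicOpen_of_isUnit _ (((isUnit_iff_ne_zero.2 hl0 : IsUnit (l : ResidueField A)).map _).mul (hv a))]
      exact hz
  -- the constant vanishes by looking at the slice
  let σ : Spec (CommRingCat.of A) ⟶ P := pullback.lift (g' ≫ C.i) (𝟙 _)
    (by rw [Category.assoc, C.hi₂, Category.comp_id, Category.id_comp])
  let σQ : Spec (CommRingCat.of (ResidueField A)) ⟶ Q := pullback.lift (Small.res (CommRingCat.of A) ≫ σ) (𝟙 _)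
    (by rw [Category.assoc, pullback.lift_snd, Category.comp_id, Category.id_comp])
  have hres : (Small.res (CommRingCat.of A)) (closedPoint (ResidueField A)) = closedPoint A :=
    PrimeSpectrum.ext (by
      show Ideal.comap (residue A) (maximalIdeal (ResidueField A)) = maximalIdeal A
      rw [IsLocalRing.maximalIdeal_eq_bot, ← RingHom.ker_eq_comap_bot]
      exact IsLocalRing.ker_residue)
  let z₀ : Q := σQ (closedPoint (ResidueField A))
  have hz₀ : gP ((sp pP) z₀) = C.i t₀ := by
    have e1 : (sp pP) z₀ = σ ((Small.res (CommRingCat.of A)) (closedPoint (ResidueField A))) := by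
      show (σQ ≫ pullback.fst pP (Small.res (CommRingCat.of A))) (closedPoint (ResidueField A)) = _
      rw [pullback.lift_fst]
      rfl
    rw [e1, hres]
    show (σ ≫ pullback.fst C.fy g') (closedPoint A) = _
    rw [pullback.lift_fst]
    exact congrArg C.i hgc
  obtain ⟨a₀, ha₀⟩ := Opens.mem_iSup.1 (show C.i t₀ ∈ iSup C.U by rw [C.hUc]; trivial)
  have hl0 : l = 0 := by
    by_contra hne
    have := (hQ z₀ a₀ (show gP ((sp pP) z₀) ∈ C.U a₀ from hz₀ ▸ ha₀)).2 hne
    rw [hz₀] at this
    exact h0 a₀ t₀ ht₀ ha₀ this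
  -- every point of the fibre is hit
  obtain ⟨z₁, hz₁, hz₁'⟩ := Scheme.Pullback.exists_preimage_pullback q (closedPoint A) (f := C.fy) (g := g') hgc.symm
  obtain ⟨z, hz, -⟩ := Scheme.Pullback.exists_preimage_pullback z₁ (closedPoint (ResidueField A))
    (f := pP) (g := Small.res (CommRingCat.of A)) (hz₁'.trans hres.symm)
  intro hmem
  have hzq : gP ((sp pP) z) = q := by
    show gP ((pullback.fst pP _) z) = q
    rw [hz]; exact hz₁
  exact (hQ z a (show gP ((sp pP) z) ∈ C.U a from hzq.symm ▸ hqU)).1 (hzq.symm ▸ hmem) hl0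

variable [GeometricallyReduced C.py]

omit [Finite C.ι] in
theorem isReduced_special : AlgebraicGeometry.IsReduced (C.bcW (Small.res R)) := by
  let C' := C.bc (Small.res R)
  haveI : GeometricallyIntegral C'.px := inferInstanceAs (GeometricallyIntegral (pullback.snd C.px _))
  haveI : AlgebraicGeometry.IsReduced C'.Y :=
    GeometricallyReduced.geometrically_isReduced (f := C.py) (Small.res R) _ _ (IsPullback.of_hasPullback _ _)
  haveI : IsLocallyNoetherian C'.Y := LocallyOfFiniteType.isLocallyNoetherian C'.py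
  haveI : GeometricallyIntegral C'.fy := MorphismProperty.of_isPullback C'.H inferInstance
  have hred : GeometricallyReduced C'.fy :=
    (GeometricallyIntegral.eq_geometricallyReduced_inf_geometricallyIrreducible.le _ _ _
      (show GeometricallyIntegral C'.fy by assumption)).1
  have hflat : Flat C'.fy := MorphismProperty.of_isPullback C'.H inferInstance
  exact @GeometricallyReduced.isReduced_of_flat_of_isLocallyNoetherian C'.W C'.Y C'.fy hred hflat
    ‹_› ‹_›

/-- Triviality specialises over a discrete valuation ring. -/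
theorem trivAlong_special_fibre (h : TrivAlong C.c (C.bcMap (genPt R))) :
    TrivAlong C.c (C.bcMap (Small.res R)) := by
  refine trivAlong_special (p := C.pw) C.hU C.c h fun x y hx hy hxy => ?_
  let C' := C.bc (Small.res R)
  haveI := isReduced_special C
  haveI : AlgebraicGeometry.IsReduced C'.W := isReduced_special C
  let g := sp C.pw
  have hig : C'.i ≫ g = pullback.fst C.py (Small.res R) ≫ C.i := pullback.lift_fst _ _ _
  -- constants on the slice
  have hbij : Function.Bijective C'.py.appTop.hom := Rigid.bijective_py_app C' ⊤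
  have hcov : iSup (fun a => C'.i ⁻¹ᵁ C'.U a) = ⊤ := by
    rw [← Scheme.Hom.preimage_iSup, C'.hUc, Scheme.Hom.preimage_top]
  have hw : IsRel (Triv.comap C'.c C'.i) (wi C') := fun a b _ ha hb => wi_eq C' a b ha hb
  obtain ⟨l, hl⟩ := exists_const_mul C'.py hbij hcov hw (isUnit_wi C')
    ((hx.comap g).comap C'.i)
  obtain ⟨wiv, hwiv, hwiv'⟩ := trivAlong_invC (c := C.c) (f := C'.i ≫ g) C'.hi
  have hwiv'' : IsRel (Triv.comap (Triv.comap (invC C.c) g) C'.i) wiv :=
    isRel_of_triv (c := Triv.comap (invC C.c) g) (f := C'.i) hwiv'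
  obtain ⟨m, hm⟩ := exists_const_mul C'.py hbij hcov hwiv'' hwiv
    (((isRel_invC hy).comap g).comap C'.i)
  -- one constant is zero
  have hlm : (l : ResidueField R) * m = 0 := by
    by_contra hne
    obtain ⟨t⟩ : Nonempty C'.Y := ⟨C'.y₀ (closedPoint (ResidueField R))⟩
    obtain ⟨a, ha⟩ := Opens.mem_iSup.1 (show t ∈ iSup (fun a => C'.i ⁻¹ᵁ C'.U a) by rw [hcov]; trivial)
    have e : (C'.i.app (C'.U a)).hom ((g.app (C.U a)).hom (x a)) *
        (C'.i.app (C'.U a)).hom ((g.app (C.U a)).hom (y a)) = 0 := by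
      refine (map_mul (C'.i.app (C'.U a)).hom _ _).symm.trans ?_
      refine (congrArg (C'.i.app (C'.U a)).hom ((map_mul _ _ _).symm.trans (hxy a))).trans ?_
      exact map_zero _
    erw [hl a, hm a] at e
    have hu : IsUnit ((str C'.py (C'.i ⁻¹ᵁ C'.U a)).hom (l * m) * (wi C' a * (show Γ(C'.Y, C'.i ⁻¹ᵁ C'.U a) from wiv a))) :=
      ((isUnit_iff_ne_zero.2 hne).map _).mul ((isUnit_wi C' a).mul (hwiv a))
    rw [map_mul, mul_mul_mul_comm, e] at hu
    have := (C'.Y.mem_basicOpen (0 : Γ(C'.Y, C'.i ⁻¹ᵁ C'.U a)) t ha).2 (hu.map _)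
    rw [Scheme.basicOpen_zero] at this
    exact this
  -- the corresponding family vanishes
  have vanish : ∀ (c : Cocycle C.U) (_ : TrivAlong c (C.bcMap (genPt R))) (z : ∀ a, Γ(C.W, C.U a)),
      IsRel c z → (∀ a, (C'.i.app (C'.U a)).hom ((g.app (C.U a)).hom (z a)) = 0) →
      ∀ a, (g.app (C.U a)).hom (z a) = 0 := by
    intro c hc z hz hz0 a
    refine eq_zero_of_forall fun q hq => ?_
    show q ∉ (C.bcW (Small.res R)).basicOpen _
    rw [← Scheme.preimage_basicOpen]
    have hcl : ∀ z' : C.bcW (Small.res R), C.pw (g z') = closedPoint R := fun z' => by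
      rw [← Scheme.Hom.comp_apply, pullback.condition, Scheme.Hom.comp_apply]
      haveI : Subsingleton (Spec (CommRingCat.of (ResidueField R))) :=
        inferInstanceAs (Subsingleton (PrimeSpectrum (ResidueField R)))
      rw [Subsingleton.elim ((pullback.snd C.pw (Small.res R)) z') (closedPoint (ResidueField R))]
      exact PrimeSpectrum.ext (by
        show Ideal.comap (residue R) (maximalIdeal (ResidueField R)) = maximalIdeal R
        rw [IsLocalRing.maximalIdeal_eq_bot, ← RingHom.ker_eq_comap_bot]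
        exact IsLocalRing.ker_residue)
    refine not_mem_basicOpen C c hc hz (fun b t ht htb hmem => ?_) a (g q) hq (hcl q)
    obtain ⟨t', ht', -⟩ := Scheme.Pullback.exists_preimage_pullback t (closedPoint (ResidueField R))
      (f := C.py) (g := Small.res R) (ht.trans (PrimeSpectrum.ext (by
        show maximalIdeal R = Ideal.comap (residue R) (maximalIdeal (ResidueField R))
        rw [IsLocalRing.maximalIdeal_eq_bot, ← RingHom.ker_eq_comap_bot]
        exact IsLocalRing.ker_residue.symm)))
    have hti : g (C'.i t') = C.i t := by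
      show (C'.i ≫ g) t' = _
      rw [hig]
      exact congrArg C.i ht'
    have : t' ∈ C'.i ⁻¹ᵁ g ⁻¹ᵁ C.W.basicOpen (z b) := show g (C'.i t') ∈ _ from hti.symm ▸ hmem
    erw [Scheme.preimage_basicOpen, Scheme.preimage_basicOpen] at this
    erw [hz0 b, Scheme.basicOpen_zero] at this
    exact this
  rcases mul_eq_zero.1 hlm with h0 | h0
  · refine Or.inl (vanish C.c h x hx fun a => ?_)
    refine (hl a).trans ?_
    rw [h0, map_zero, zero_mul]
  · refine Or.inr (vanish (invC C.c) (trivAlong_invC h) y (isRel_invC hy) fun a => ?_)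
    refine (hm a).trans ?_
    rw [h0, map_zero, zero_mul]

end

end Groth.Agent.Lib.Cube.Special
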