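import Groth.Agent.Lib.Cube.FamFibre
import Groth.Agent.Lib.Cube.Special
import Groth.Agent.Lib.Cube.Rigid

/-!
# The seesaw theorem

For a flat proper scheme over a Noetherian ring: if the fibres are integral with constant functions,
the points with trivial fibre form a closed set; if the ring is reduced and the cocycle is trivial
on every fibre, it is trivial locally on the base.
-/

set_option autoImplicit false
set_option linter.style.haveILetI false

universe u

open CategoryTheory CategoryTheory.Limits AlgebraicGeometry TopologicalSpace Opposite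
open scoped TensorProduct

namespace Groth.Agent.Lib.Cube.Seesaw

open Groth.Agent.Lib.TensorMod.Dual (rf rf_rf rf_self)
open Groth.Agent.H97.GlueLine (Cocycle)
open Groth.Agent.Lib.Cube.Triv Groth.Agent.Lib.Cube.Cech1 Groth.Agent.Lib.Cube.Dvr
open Groth.Agent.Lib.Cube.FamCx Groth.Agent.Lib.Cube.FamRep Groth.Agent.Lib.Cube.FamFibre
open Groth.Agent.Lib.Cube.AffineBC (str)
open Groth.Agent.Lib.Cube.Special (invC tr_swap exists_const_mul)
open Groth.Agent.Lib.Cube.Rigid (IsSec isUnit_rf rf_one)
open Groth.Agent.Lib.CechRes.Sec (rho)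

noncomputable section

attribute [local instance] algV

/-- Functions on an open of a scheme over a field which vanish on a cover are zero. -/
theorem eq_zero_of_str {K : CommRingCat.{u}} {P : Scheme.{u}} {q : P ⟶ Spec K}
    (hq : Function.Injective q.appTop.hom) {ι : Type u} {U : ι → P.Opens} (hUc : iSup U = ⊤) {k : K}
    (h : ∀ a, (str q (U a)).hom k = 0) : k = 0 := by
  apply (ConcreteCategory.bijective_of_isIso (Scheme.ΓSpecIso K).inv).1
  apply hq
  rw [map_zero]
  show q.appTop.hom ((Scheme.ΓSpecIso K).inv k) = q.appTop.hom 0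
  rw [map_zero]
  refine fun_ext U hUc.ge fun a V hV ha => ?_
  have h' := congrArg (rf ha) (h a)
  simp only [AffineBC.str, Scheme.Hom.appLE, CommRingCat.comp_apply] at h'
  erw [rf_rf] at h'
  erw [h']
  simp

/-- An invariant family and an inverse invariant one, both non-zero, make a trivialisation on an
integral scheme with constant functions over a field. -/
theorem isUnit_of_pair {K : Type u} [Field K] {P : Scheme.{u}} [IsIntegral P]
    (q : P ⟶ Spec (CommRingCat.of K)) (hq : Function.Bijective q.appTop.hom) {ι : Type u}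
    {U : ι → P.Opens} (hUc : iSup U = ⊤) {c : Cocycle U} {x y : ∀ a, Γ(P, U a)} (hx : IsRel c x)
    (hy : IsRel (invC c) y) (hx0 : x ≠ 0) (hy0 : y ≠ 0) : ∀ a, IsUnit (x a) := by
  let one' : Cocycle U :=
    { u := fun _ _ => 1
      self := fun _ _ _ => rf_one _
      trans := fun _ _ _ _ _ _ _ => by rw [rf_one, rf_one, rf_one, one_mul] }
  have hprod : IsRel one' fun a => x a * y a := fun a b V ha hb => by
    show rf ha (x a * y a) = rf _ (1 : Γ(P, U a ⊓ U b)) * rf hb (x b * y b)
    rw [rf_one, one_mul, rf_mul, rf_mul, hx a b V ha hb, hy a b V ha hb]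
    have e := tr_swap c a b ha hb
    simp only [invC, rf_rf]
    linear_combination (rf hb (x b) * rf hb (y b)) * e
  obtain ⟨l, hl⟩ := exists_const_mul q hq hUc (v := fun _ => (1 : _))
    (fun a b V ha hb => by
      show rf ha (1 : Γ(P, U a)) = rf _ (1 : Γ(P, U a ⊓ U b)) * rf hb (1 : Γ(P, U b))
      rw [rf_one, rf_one, rf_one, one_mul]) (fun _ => isUnit_one) hprod
  by_cases hl0 : l = 0
  · exfalso
    rcases eq_zero_or_eq_zero hx (y := y) fun a => by rw [hl a, hl0, map_zero, zero_mul] with h | h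
    · exact hx0 (funext h)
    · exact hy0 (funext h)
  · intro a
    refine isUnit_of_mul_isUnit_left (y := y a) ?_
    rw [hl a, mul_one]
    exact (isUnit_iff_ne_zero.2 hl0).map _

variable {A : Type u} [CommRing A] {W : Scheme.{u}} [W.Over (Spec (CommRingCat.of A))]
  {ι : Type u} {U : ι → W.Opens} (c : Cocycle U)

local notation "pW" => (W ↘ Spec (CommRingCat.of A))

/-- The inclusion of the fibre over a prime. -/
abbrev fibMap (x : PrimeSpectrum A) :=
  pullback.fst pW (Spec.map (CommRingCat.ofHom (algebraMap A x.asIdeal.ResidueField)))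

/-- The structure map of the fibre over a prime. -/
abbrev fibBase (x : PrimeSpectrum A) :=
  pullback.snd pW (Spec.map (CommRingCat.ofHom (algebraMap A x.asIdeal.ResidueField)))

section Fibre

variable [Finite ι] (hU : ∀ a, IsAffineOpen (U a)) (hU2 : ∀ a b, IsAffineOpen (U a ⊓ U b))
variable {K : Type u} [CommRing K] [Algebra A K] {P : Scheme.{u}} {g : P ⟶ W}
  {p' : P ⟶ Spec (CommRingCat.of K)}
  (H : IsPullback g p' (W ↘ Spec (CommRingCat.of A)) (Spec.map (CommRingCat.ofHom (algebraMap A K))))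

omit [Finite ι] in
theorem mu_smul {V : W.Opens} (hV : IsAffineOpen V) (r : A) (t : Γ(W, V) ⊗[A] K) :
    mu H hV (r • t) = (str p' (g ⁻¹ᵁ V)).hom (algebraMap A K r) * mu H hV t := by
  induction t using TensorProduct.induction_on with
  | zero => rw [smul_zero, map_zero, mul_zero]
  | add x y hx hy => rw [smul_add, map_add, map_add, hx, hy, mul_add]
  | tmul a k =>
    rw [← TensorProduct.tmul_smul]
    show (g.app V).hom a * (str p' (g ⁻¹ᵁ V)).hom (r • k) =
      (str p' (g ⁻¹ᵁ V)).hom (algebraMap A K r) * ((g.app V).hom a * (str p' (g ⁻¹ᵁ V)).hom k)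
    rw [Algebra.smul_def, map_mul]
    ring

omit [Finite ι] in
theorem mus_smul (r : A) (z : (∀ a, Γ(W, U a)) ⊗[A] K) (a : ι) :
    mus H hU (r • z) a = (str p' (g ⁻¹ᵁ U a)).hom (algebraMap A K r) * mus H hU z a := by
  rw [mus, map_smul, mu_smul]
  rfl

include hU hU2 H in
theorem subsingleton_fam_iff :
    Subsingleton (fam A c K) ↔ ∀ y, IsRel (Triv.comap c g) y → y = 0 := by
  constructor
  · intro h y hy
    obtain ⟨z, rfl⟩ := (mus_bijective H hU).2 y
    have := congrArg Subtype.val
      (Subsingleton.elim (⟨z, (mem_fam_iff H c hU hU2 z).2 hy⟩ : fam A c K) 0)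
    rw [show z = 0 from this, mus_zero]
  · intro h
    refine subsingleton_of_forall_eq 0 fun z => Subtype.ext ((mus_bijective H hU).1 ?_)
    rw [h _ ((mem_fam_iff H c hU hU2 z.1).1 z.2)]
    exact (mus_zero H hU).symm

include hU hU2 H in
theorem nonempty_lineEquiv (hq : Function.Bijective p'.appTop.hom) (hUc : iSup U = ⊤)
    (h : TrivAlong c g) : Nonempty (K ≃ₗ[A] fam A c K) := by
  obtain ⟨v, hv, he⟩ := h
  have hrel := Special.isRel_of_triv he
  let fk : K → ∀ a, Γ(P, g ⁻¹ᵁ U a) := fun k a => (str p' (g ⁻¹ᵁ U a)).hom k * v a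
  have hfk : ∀ k, IsRel (Triv.comap c g) (fk k) := fun k a b V ha hb => by
    show rf ha ((str p' (g ⁻¹ᵁ U a)).hom k * v a) = _ * rf hb ((str p' (g ⁻¹ᵁ U b)).hom k * v b)
    rw [Triv.rf_mul, Triv.rf_mul, hrel a b V ha hb]
    have e : rf ha ((str p' (g ⁻¹ᵁ U a)).hom k) = rf hb ((str p' (g ⁻¹ᵁ U b)).hom k) := by
      simp only [AffineBC.str, Scheme.Hom.appLE, CommRingCat.comp_apply]
      erw [rf_rf, rf_rf]
    rw [e]
    ring
  choose z hz using fun k => (mus_bijective H hU).2 (fk k)
  have hzm : ∀ k, z k ∈ fam A c K := fun k =>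
    (mem_fam_iff H c hU hU2 (z k)).2 (by rw [hz k]; exact hfk k)
  let f : K →ₗ[A] fam A c K :=
    { toFun := fun k => ⟨z k, hzm k⟩
      map_add' := fun k k' => Subtype.ext ((mus_bijective H hU).1 (by
        show mus H hU (z (k + k')) = mus H hU (z k + z k')
        rw [mus_add, hz, hz, hz]
        funext a
        show _ = fk k a + fk k' a
        simp only [fk, map_add, add_mul]))
      map_smul' := fun r k => Subtype.ext ((mus_bijective H hU).1 (funext fun a => by
        show mus H hU (z (r • k)) a = mus H hU (r • z k) a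
        rw [mus_smul, hz, hz]
        simp only [fk, Algebra.smul_def, map_mul, mul_assoc])) }
  have hUc' : iSup (fun a => g ⁻¹ᵁ U a) = ⊤ := by
    rw [← Scheme.Hom.preimage_iSup, hUc]; rfl
  refine ⟨LinearEquiv.ofBijective f ⟨fun k k' hk => ?_, fun w => ?_⟩⟩
  · have hk' : mus H hU (z k) = mus H hU (z k') := congrArg (fun t => mus H hU (Subtype.val t)) hk
    rw [hz, hz] at hk'
    rw [← sub_eq_zero]
    refine eq_zero_of_str hq.1 hUc' fun a => ?_
    rw [map_sub, sub_eq_zero]
    exact (hv a).mul_right_cancel (congrFun hk' a)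
  · obtain ⟨l, hl⟩ := exists_const_mul p' hq hUc' hrel hv ((mem_fam_iff H c hU hU2 w.1).1 w.2)
    exact ⟨l, Subtype.ext ((mus_bijective H hU).1 (funext fun a => by
      show mus H hU (z l) a = _
      rw [hz]
      exact (hl a).symm))⟩

end Fibre

variable (A) in
/-- Intersections of affine opens are affine over an affine base. -/
theorem isAffineOpen_inf [IsSeparated pW] (hU : ∀ a, IsAffineOpen (U a)) (a b : ι) :
    IsAffineOpen (U a ⊓ U b) := by
  haveI : W.IsSeparated := ⟨by rw [← Limits.terminal.comp_from pW]; infer_instance⟩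
  exact (hU a).inf (hU b)

variable [IsNoetherianRing A] [IsProper (W ↘ Spec (CommRingCat.of A))]
  [Flat (W ↘ Spec (CommRingCat.of A))] [Finite ι]
  (hU : ∀ a, IsAffineOpen (U a)) (hUc : iSup U = ⊤)

include hU hUc in
/-- The points without non-zero invariant family on the fibre form an open set. -/
theorem isOpen_noFam :
    IsOpen {x : PrimeSpectrum A | ∀ y, IsRel (Triv.comap c (fibMap x)) y → y = 0} := by
  obtain ⟨P, hP, he, -⟩ := exists_famRep (A := A) c hU hUc
  convert SemiCont.isOpen_subsingleton P hP 0 using 1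
  ext x
  rw [Set.mem_ofPred_eq, Set.mem_ofPred_eq,
    (he (ModuleCat.of A x.asIdeal.ResidueField)).some.toEquiv.subsingleton_congr]
  exact (subsingleton_fam_iff c hU (isAffineOpen_inf A hU) (IsPullback.of_hasPullback _ _)).symm

include hU hUc in
/-- The points with trivial fibre form a closed set. -/
theorem isClosed_trivial
    (hint : ∀ x : PrimeSpectrum A, IsIntegral (pullback pW
      (Spec.map (CommRingCat.ofHom (algebraMap A x.asIdeal.ResidueField)))))
    (hq : ∀ x : PrimeSpectrum A, Function.Bijective (fibBase (W := W) x).appTop.hom) :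
    IsClosed {x : PrimeSpectrum A | TrivAlong c (fibMap x)} := by
  rw [← isOpen_compl_iff]
  convert (isOpen_noFam (A := A) c hU hUc).union (isOpen_noFam (A := A) (invC c) hU hUc) using 1
  ext x
  haveI := hint x
  let g := fibMap (W := W) x
  have hUc' : iSup (fun a => g ⁻¹ᵁ U a) = ⊤ := by
    rw [← Scheme.Hom.preimage_iSup, hUc]; rfl
  have hinv : ∀ y : ∀ a, (Γ(pullback pW (Spec.map (CommRingCat.ofHom (algebraMap A x.asIdeal.ResidueField))), g ⁻¹ᵁ U a) : Type u),
      IsRel (Triv.comap (invC c) g) y ↔ IsRel (invC (Triv.comap c g)) y := fun y => by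
    have e : ∀ a b, (Triv.comap (invC c) g).u a b = (invC (Triv.comap c g)).u a b := fun a b => by
      show (g.app (U a ⊓ U b)).hom (rf _ (c.u b a)) = rf _ ((g.app (U b ⊓ U a)).hom (c.u b a))
      exact Triv.app_rf g _ _
    simp only [IsRel, e]
  rw [Set.mem_compl_iff, Set.mem_ofPred_eq, Set.mem_union, Set.mem_ofPred_eq, Set.mem_ofPred_eq]
  constructor
  · intro hn
    by_contra hcon
    push Not at hcon
    obtain ⟨⟨y, hy, hy0⟩, y', hy', hy0'⟩ := hcon
    have hu := isUnit_of_pair (fibBase (W := W) x) (hq x) hUc' hy ((hinv y').1 hy') hy0 hy0'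
    exact hn ⟨y, hu, fun a b => by
      have := hy a b (g ⁻¹ᵁ (U a ⊓ U b)) (pre_mono g inf_le_left) (pre_mono g inf_le_right)
      refine this.trans ?_
      congr 1
      exact rf_self _ _⟩
  · intro hh ht
    haveI : Nonempty (pullback pW (Spec.map (CommRingCat.ofHom (algebraMap A x.asIdeal.ResidueField))) :) :=
      inferInstance
    obtain ⟨z⟩ := this
    obtain ⟨a, hza⟩ : ∃ a, z ∈ g ⁻¹ᵁ U a := by
      have hz : z ∈ iSup (fun a => g ⁻¹ᵁ U a) := hUc' ▸ trivial
      exact Opens.mem_iSup.1 hz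
    haveI : Nonempty (g ⁻¹ᵁ U a : (pullback pW _).Opens) := ⟨⟨z, hza⟩⟩
    rcases hh with hh | hh
    · obtain ⟨v, hv, he⟩ := ht
      exact (hv a).ne_zero (congrFun (hh v (Special.isRel_of_triv he)) a)
    · obtain ⟨v, hv, he⟩ := Special.trivAlong_invC ht
      exact (hv a).ne_zero (congrFun (hh v (Special.isRel_of_triv he)) a)

include hU hUc in
/-- Seesaw over a reduced base: triviality on all fibres gives triviality locally on the base. -/
theorem exists_sec_of_fibres [IsReduced A]
    (hq : ∀ x : PrimeSpectrum A, Function.Bijective (fibBase (W := W) x).appTop.hom)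
    (ht : ∀ x : PrimeSpectrum A, TrivAlong c (fibMap x)) (x : PrimeSpectrum A) :
    ∃ V : (Spec (CommRingCat.of A)).Opens, x ∈ V ∧ ∃ v : ∀ a, Γ(W, U a ⊓ pW ⁻¹ᵁ V),
      (∀ a, IsUnit (v a)) ∧ IsSec c (pW ⁻¹ᵁ V) v := by
  obtain ⟨P, hP, he, hlift⟩ := exists_famRep (A := A) c hU hUc
  have hU2 := isAffineOpen_inf A hU
  have hepi := SemiCont.preservesEpi_of_fibres P hP 0 fun y =>
    ⟨(he _).some.trans (nonempty_lineEquiv c hU hU2 (IsPullback.of_hasPullback _ _) (hq y) hUc
      (ht y)).some.symm⟩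
  obtain ⟨m, hm, hxm⟩ := Ideal.exists_le_maximal x.asIdeal x.isPrime.ne_top
  haveI := hm
  let y : PrimeSpectrum A := ⟨m, hm.isPrime⟩
  let K := y.asIdeal.ResidueField
  let g := fibMap (W := W) y
  have H : IsPullback g (fibBase (W := W) y) pW (Spec.map (CommRingCat.ofHom (algebraMap A K))) :=
    IsPullback.of_hasPullback _ _
  obtain ⟨v, hv, hve⟩ := ht y
  obtain ⟨z, hz⟩ := (mus_bijective H hU).2 v
  have hzf : (dev (A := A) c).rTensor K z = 0 :=
    (mem_fam_iff H c hU hU2 z).2 (by rw [hz]; exact Special.isRel_of_triv hve)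
  obtain ⟨w, hw, hwz⟩ := hlift hepi (ModuleCat.ofHom (Algebra.linearMap A K))
    (Ideal.algebraMap_residueField_surjective m) z hzf
  obtain ⟨r, rfl⟩ : ∃ r : ∀ a, Γ(W, U a), r ⊗ₜ[A] (1 : A) = w :=
    ⟨TensorProduct.rid A _ w, (TensorProduct.rid A _).symm_apply_apply w⟩
  have hrel : IsRel c r := fun a b V ha hb => by
    have h1 : dev (A := A) c r = 0 := by
      apply (TensorProduct.rid A _).symm.injective
      rw [map_zero, TensorProduct.rid_symm_apply]
      exact hw
    have h2 : c.u a b * rf inf_le_right (r b) - rf inf_le_left (r a) = 0 := congrFun h1 (a, b)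
    have h3 := congrArg (rf (le_inf ha hb)) (sub_eq_zero.1 h2)
    rw [Triv.rf_mul, rf_rf, rf_rf] at h3
    exact h3.symm
  have hgr : ∀ a, (g.app (U a)).hom (r a) = v a := fun a => by
    rw [← hz, ← hwz]
    show _ = (g.app (U a)).hom (r a) * (str (fibBase (W := W) y) (g ⁻¹ᵁ U a)).hom (algebraMap A K 1)
    rw [map_one, map_one, mul_one]
  let O : W.Opens := ⨆ a, W.basicOpen (r a)
  have hOu : ∀ a, IsUnit (rf (inf_le_left : U a ⊓ O ≤ U a) (r a)) := fun a => by
    refine Rigid.isUnit_of_cover (fun b => W.basicOpen (r b)) inf_le_right fun b => ?_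
    have hb : U a ⊓ O ⊓ W.basicOpen (r b) ≤ U b := inf_le_right.trans (W.basicOpen_le _)
    have ha : U a ⊓ O ⊓ W.basicOpen (r b) ≤ U a := inf_le_left.trans inf_le_left
    rw [rf_rf, hrel a b _ ha hb]
    refine IsUnit.mul ?_ ?_
    · exact IsUnit.of_mul_eq_one _ ((mul_comm _ _).trans (tr_swap c a b ha hb))
    · rw [← rf_rf (W.basicOpen_le (r b)) inf_le_right]
      exact isUnit_rf _ (RingedSpace.isUnit_res_basicOpen _ (r b))
  have hcl : IsClosed (pW '' (O : Set W)ᶜ) :=
    (W ↘ Spec (CommRingCat.of A)).isClosedMap _ O.isOpen.isClosed_compl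
  have hy : y ∉ pW '' (O : Set W)ᶜ := by
    rintro ⟨q, hq', hqy⟩
    obtain ⟨q', hq'', -⟩ := Scheme.Pullback.exists_preimage_pullback q
      (IsLocalRing.closedPoint (CommRingCat.of K)) (f := pW)
      (g := Spec.map (CommRingCat.ofHom (algebraMap A K))) (by
        refine hqy.trans (PrimeSpectrum.ext ?_)
        show m = Ideal.comap (algebraMap A K) (IsLocalRing.maximalIdeal K)
        rw [IsLocalRing.maximalIdeal_eq_bot, ← RingHom.ker_eq_comap_bot]
        exact (Ideal.ker_algebraMap_residueField y.asIdeal).symm)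
    have hqU : q ∈ iSup U := hUc ▸ trivial
    obtain ⟨a, ha⟩ := Opens.mem_iSup.1 hqU
    have h1 : q' ∈ g ⁻¹ᵁ U a := by
      show g q' ∈ U a
      rw [hq'']; exact ha
    have h2 : q' ∈ (pullback pW (Spec.map (CommRingCat.ofHom (algebraMap A K)))).basicOpen
        ((g.app (U a)).hom (r a)) := by
      rw [hgr, Scheme.basicOpen_of_isUnit _ (hv a)]
      exact h1
    rw [← Scheme.preimage_basicOpen] at h2
    refine hq' (Opens.mem_iSup.2 ⟨a, ?_⟩)
    rw [← hq'']; exact h2
  let V : (Spec (CommRingCat.of A)).Opens := ⟨(pW '' (O : Set W)ᶜ)ᶜ, hcl.isOpen_compl⟩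
  have hVO : pW ⁻¹ᵁ V ≤ O := fun q hq' => by
    by_contra hqO
    exact hq' ⟨q, hqO, rfl⟩
  refine ⟨V, ((PrimeSpectrum.le_iff_specializes x y).1 hxm).mem_open V.isOpen hy,
    fun a => rf inf_le_left (r a), fun a => ?_, fun a b V' ha hb => ?_⟩
  · have := isUnit_rf (inf_le_inf_left (U a) hVO) (hOu a)
    rwa [rf_rf] at this
  · rw [rf_rf, rf_rf]
    exact hrel a b V' _ _

end

end Groth.Agent.Lib.Cube.Seesaw
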