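import Groth.Prelude.Def_Coh
import Mathlib.AlgebraicGeometry.Morphisms.Flat
import Mathlib.AlgebraicGeometry.Morphisms.Affine
import Mathlib.RingTheory.Localization.Basic

/-!
# Functions on an affine open after base change along a ring map

For `P = W ×_R R'` and an affine open `U` of `W`: if `R → R'` is surjective then so is
`O(U) → O(U_{R'})`, with kernel generated by that of `R → R'`; if `R'` is a localisation of `R`
then every function on `U_{R'}` has a denominator.
-/

set_option autoImplicit false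

universe u

open CategoryTheory CategoryTheory.Limits AlgebraicGeometry

namespace Groth.Agent.Lib.Cube.AffineBC

variable {R R' : CommRingCat.{u}} {φ : R ⟶ R'} {W P : Scheme.{u}} {g : P ⟶ W} {p' : P ⟶ Spec R'}
  {p : W ⟶ Spec R}

/-- The structure map of a ring into the functions on an open of a scheme over it. -/
noncomputable def str (p : W ⟶ Spec R) (U : W.Opens) : R ⟶ Γ(W, U) :=
  (Scheme.ΓSpecIso R).inv ≫ p.appLE ⊤ U le_top

variable (H : IsPullback g p' p (Spec.map φ))

include H in
theorem isAffineOpen_preimage {U : W.Opens} (hU : IsAffineOpen U) : IsAffineOpen (g ⁻¹ᵁ U) := by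
  haveI : IsAffineHom g :=
    MorphismProperty.of_isPullback (P := @IsAffineHom) H.flip (inferInstanceAs (IsAffineHom (Spec.map φ)))
  exact hU.preimage g

include H in
/-- Functions on the inverse image of an affine open form the pushout. -/
theorem isPushout {U : W.Opens} (hU : IsAffineOpen U) :
    IsPushout (str p U) φ (g.app U) (str p' (g ⁻¹ᵁ U)) := by
  have h := (isIso_pushoutSection_iff H.flip.flip (US := (⊤ : (Spec R).Opens))
    (UT := (⊤ : (Spec R').Opens)) (UX := U) (UY := g ⁻¹ᵁ U) le_top le_top (by simp)).1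
      (isIso_pushoutSection_of_isAffineOpen H.flip.flip le_top le_top (by simp)
        (isAffineOpen_top _) (isAffineOpen_top _) hU)
  refine h.of_iso (Scheme.ΓSpecIso R) (Iso.refl _) (Scheme.ΓSpecIso R') (Iso.refl _) ?_ ?_ ?_ ?_
  · simp [str]
  · rw [Scheme.Hom.appLE]
    exact (congrArg (fun t => t ≫ (Scheme.ΓSpecIso R').hom) (by simp)).trans
      (Scheme.ΓSpecIso_naturality φ)
  · simp [Scheme.Hom.app_eq_appLE]
  · simp [str]

include H in
theorem app_surjective {U : W.Opens} (hU : IsAffineOpen U) (hφ : Function.Surjective φ.hom) :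
    Function.Surjective (g.app U).hom ∧
      RingHom.ker (g.app U).hom = (RingHom.ker φ.hom).map (str p U).hom := by
  have hpo := isPushout H hU
  set J := RingHom.ker φ.hom
  set I := J.map (str p U).hom
  let ψ : (R' : Type u) →+* Γ(W, U) ⧸ I := φ.hom.liftOfRightInverse (Function.surjInv hφ) (Function.rightInverse_surjInv hφ)
    ⟨(Ideal.Quotient.mk I).comp (str p U).hom, fun r hr => by
      rw [RingHom.mem_ker, RingHom.comp_apply, Ideal.Quotient.eq_zero_iff_mem]
      exact Ideal.mem_map_of_mem _ hr⟩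
  have hψ : ∀ r, ψ (φ r) = Ideal.Quotient.mk I ((str p U).hom r) := fun r =>
    RingHom.liftOfRightInverse_comp_apply φ.hom _ (Function.rightInverse_surjInv hφ) _ r
  let d : Γ(P, g ⁻¹ᵁ U) ⟶ CommRingCat.of (Γ(W, U) ⧸ I) :=
    hpo.desc (CommRingCat.ofHom (Ideal.Quotient.mk I)) (CommRingCat.ofHom ψ)
      (CommRingCat.hom_ext (RingHom.ext fun r => (hψ r).symm))
  have hI : I ≤ RingHom.ker (g.app U).hom := Ideal.map_le_iff_le_comap.2 fun r hr => by
    rw [Ideal.mem_comap, RingHom.mem_ker]
    have h1 := ConcreteCategory.congr_hom hpo.w r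
    change (g.app U).hom ((str p U).hom r) = (str p' _).hom (φ.hom r) at h1
    rw [h1, RingHom.mem_ker.1 hr, map_zero]
  let e : CommRingCat.of (Γ(W, U) ⧸ I) ⟶ Γ(P, g ⁻¹ᵁ U) :=
    CommRingCat.ofHom (Ideal.Quotient.lift I (g.app U).hom fun a ha => hI ha)
  have hde : d ≫ e = 𝟙 _ := by
    apply hpo.hom_ext
    · rw [hpo.inl_desc_assoc, Category.comp_id]
      rfl
    · rw [hpo.inr_desc_assoc, Category.comp_id]
      refine CommRingCat.hom_ext (RingHom.ext fun r' => ?_)
      obtain ⟨r, rfl⟩ := hφ r'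
      show e.hom (ψ (φ.hom r)) = _
      exact (congrArg e.hom (hψ r)).trans (ConcreteCategory.congr_hom hpo.w r)
  refine ⟨fun x => ?_, le_antisymm (fun a ha => ?_) hI⟩
  · obtain ⟨a, ha⟩ := Ideal.Quotient.mk_surjective (d.hom x)
    exact ⟨a, (congrArg e.hom ha).trans (ConcreteCategory.congr_hom hde x)⟩
  · rw [← Ideal.Quotient.eq_zero_iff_mem]
    have h1 := ConcreteCategory.congr_hom (hpo.inl_desc (CommRingCat.ofHom (Ideal.Quotient.mk I))
      (CommRingCat.ofHom ψ) (CommRingCat.hom_ext (RingHom.ext fun r => (hψ r).symm))) a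
    refine h1.symm.trans ?_
    show d.hom ((g.app U).hom a) = 0
    rw [RingHom.mem_ker.1 ha, map_zero]

include H in
theorem exists_den {U : W.Opens} (hU : IsAffineOpen U) (S : Submonoid R)
    (hS : @IsLocalization R _ S R' _ φ.hom.toAlgebra) :
    (∀ x, ∃ s ∈ S, ∃ a, (str p' (g ⁻¹ᵁ U)).hom (φ s) * x = (g.app U).hom a) ∧
      ∀ a, (g.app U).hom a = 0 → ∃ s ∈ S, (str p U).hom s * a = 0 := by
  have hpo := isPushout H hU
  letI := φ.hom.toAlgebra
  haveI := hS
  letI : Algebra R Γ(W, U) := (str p U).hom.toAlgebra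
  let T := S.map (str p U).hom
  let L := Localization T
  let β : (R' : Type u) →+* L := IsLocalization.lift (M := S) (g := (algebraMap Γ(W, U) L).comp (str p U).hom)
    fun s => IsLocalization.map_units L ⟨(str p U).hom s, Submonoid.mem_map_of_mem _ s.2⟩ (M := T)
  have hβ : ∀ r, β (φ r) = algebraMap Γ(W, U) L ((str p U).hom r) := fun r =>
    IsLocalization.lift_eq _ r
  let d : Γ(P, g ⁻¹ᵁ U) ⟶ CommRingCat.of L :=
    hpo.desc (CommRingCat.ofHom (algebraMap Γ(W, U) L)) (CommRingCat.ofHom β)
      (CommRingCat.hom_ext (RingHom.ext fun r => (hβ r).symm))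
  have hu : ∀ t : T, IsUnit ((g.app U).hom t) := by
    rintro ⟨_, s, hs, rfl⟩
    have h1 : (g.app U).hom ((str p U).hom s) = (str p' _).hom (φ.hom s) :=
      ConcreteCategory.congr_hom hpo.w s
    rw [h1]
    exact (IsLocalization.map_units (R' : Type u) ⟨s, hs⟩).map _
  let e : CommRingCat.of L ⟶ Γ(P, g ⁻¹ᵁ U) := CommRingCat.ofHom (IsLocalization.lift hu)
  have hde : d ≫ e = 𝟙 _ := by
    apply hpo.hom_ext
    · rw [hpo.inl_desc_assoc, Category.comp_id]
      exact CommRingCat.hom_ext (RingHom.ext fun a => IsLocalization.lift_eq hu a)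
    · rw [hpo.inr_desc_assoc, Category.comp_id]
      refine CommRingCat.hom_ext (IsLocalization.ringHom_ext S (RingHom.ext fun r => ?_))
      show IsLocalization.lift hu (β (φ r)) = _
      rw [hβ, IsLocalization.lift_eq]
      exact ConcreteCategory.congr_hom hpo.w r
  refine ⟨fun x => ?_, fun a ha => ?_⟩
  · obtain ⟨⟨a, t⟩, hat⟩ := IsLocalization.surj T (d.hom x)
    obtain ⟨s, hs, hts⟩ := t.2
    refine ⟨s, hs, a, ?_⟩
    have h2 := congrArg e.hom hat
    rw [map_mul] at h2
    have h3 : e.hom (d.hom x) = x := ConcreteCategory.congr_hom hde x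
    have h4 : (g.app U).hom ((str p U).hom s) = (str p' _).hom (φ.hom s) :=
      ConcreteCategory.congr_hom hpo.w s
    rw [h3] at h2
    simp only [e, CommRingCat.hom_ofHom, IsLocalization.lift_eq] at h2
    rw [← hts, h4] at h2
    rw [mul_comm]
    exact h2
  · have h1 := ConcreteCategory.congr_hom (hpo.inl_desc (CommRingCat.ofHom (algebraMap Γ(W, U) L))
      (CommRingCat.ofHom β) (CommRingCat.hom_ext (RingHom.ext fun r => (hβ r).symm))) a
    have h0 : algebraMap Γ(W, U) L a = algebraMap Γ(W, U) L 0 := by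
      rw [map_zero]
      refine h1.symm.trans ?_
      show d.hom ((g.app U).hom a) = 0
      rw [ha, map_zero]
    obtain ⟨⟨_, s, hs, rfl⟩, hs'⟩ := (IsLocalization.eq_iff_exists T L).1 h0
    exact ⟨s, hs, hs'.trans (mul_zero _)⟩

end Groth.Agent.Lib.Cube.AffineBC
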