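import Groth.Agent.Lib.Cube.FamRank
import Mathlib.AlgebraicGeometry.AlgClosed.Basic

/-!
# Constant functions on integral fibres over a variety over an algebraically closed field
-/

set_option autoImplicit false

universe u

open CategoryTheory CategoryTheory.Limits AlgebraicGeometry TopologicalSpace

namespace Groth.Agent.Lib.Cube.AlgClosedBase

noncomputable section

variable {k : Type u} [Field k] [IsAlgClosed k] {X Y : Scheme.{u}}
  (g : Y ⟶ Spec (CommRingCat.of k)) [LocallyOfFiniteType g] (f : X ⟶ Y) [IsProper f]

include g in
/-- Integral proper fibres over closed points have only constant functions. -/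
theorem surjective_closed_fibre (y : Y) (hy : IsClosed ({y} : Set Y)) [IsIntegral (f.fiber y)] :
    Function.Surjective (f.fiberToSpecResidueField y).appTop.hom := by
  haveI : IsProper (f.fiberToSpecResidueField y) :=
    inferInstanceAs (IsProper (pullback.snd f (Y.fromSpecResidueField y)))
  let j := Spec.map (residueFieldIsoBase g y hy).inv
  let q := f.fiberToSpecResidueField y ≫ j
  haveI : IsIso j := inferInstanceAs (IsIso (Spec.map _))
  haveI : JacobsonSpace (f.fiber y) := LocallyOfFiniteType.jacobsonSpace q
  obtain ⟨x, -, hx⟩ := nonempty_inter_closedPoints (Z := (Set.univ : Set (f.fiber y)))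
    Set.univ_nonempty isClosed_univ.isLocallyClosed
  have hs := H2.Rigid.appTop_surjective_of_section q (pointOfClosedPoint q x hx)
    (pointOfClosedPoint_comp q x hx)
  exact FamRank.surjective_appTop_of_comp (𝟙 _) (inv j) _ q
    (by rw [Category.id_comp, Category.assoc, IsIso.hom_inv_id, Category.comp_id]) hs

include g in
/-- Integral proper flat fibres have only constant functions. -/
theorem h0 [Flat f] (hint : ∀ y : Y, IsIntegral (f.fiber y)) : H2.Rigid.H0 f ∧ Surjective f := by
  haveI : IsLocallyNoetherian Y := LocallyOfFiniteType.isLocallyNoetherian g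
  haveI : JacobsonSpace Y := LocallyOfFiniteType.jacobsonSpace g
  refine ⟨FamRank.h0_of_closed_fibres f (fun y => haveI := hint y; inferInstance)
    fun y hy => haveI := hint y; surjective_closed_fibre g f y hy, ⟨fun y => ?_⟩⟩
  haveI := hint y
  obtain ⟨z⟩ : Nonempty (f.fiber y) := inferInstance
  exact ⟨f.fiberι y z, (f.range_fiberι y ▸ Set.mem_range_self z : f.fiberι y z ∈ f ⁻¹' {y})⟩

end

end Groth.Agent.Lib.Cube.AlgClosedBase
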