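import Groth.Agent.Lib.Cube.Triv
import Groth.Agent.Lib.ProperFin.CechLeray
import Groth.Agent.Lib.ProperFin.LocalVanishing
import Groth.Agent.Lib.ZarCoh.Affine
import Groth.Agent.Lib.TensorMod.QCohInv

/-!
# Additive cocycles of functions in degree one
-/

set_option autoImplicit false

universe u

open CategoryTheory AlgebraicGeometry Opposite TopologicalSpace

namespace Groth.Agent.Lib.Cube.Cech1

open Groth.Agent.Lib.TensorMod Groth.Agent.Lib.TensorMod.Dual Groth.Agent.Lib.Cube.Triv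

variable {W P : Scheme.{u}} {ι : Type u} (U : ι → W.Opens)

/-- A degree-one cochain of functions. -/
abbrev C1 : Type u := ∀ a b, Γ(W, U a ⊓ U b)

variable {U}

/-- The cocycle condition. -/
def IsCoc (γ : C1 U) : Prop :=
  ∀ (a b d : ι) (V : W.Opens) (ha : V ≤ U a) (hb : V ≤ U b) (hd : V ≤ U d),
    rf (le_inf ha hb) (γ a b) + rf (le_inf hb hd) (γ b d) = rf (le_inf ha hd) (γ a d)

/-- The coboundary condition. -/
def IsCob (γ : C1 U) : Prop :=
  ∃ w : ∀ a, Γ(W, U a), ∀ a b, γ a b = rf inf_le_left (w a) - rf inf_le_right (w b)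

theorem rf_add {A B : W.Opens} (h : A ≤ B) (x y : Γ(W, B)) : rf h (x + y) = rf h x + rf h y :=
  map_add (W.presheaf.map (homOfLE h).op).hom x y

theorem rf_sub {A B : W.Opens} (h : A ≤ B) (x y : Γ(W, B)) : rf h (x - y) = rf h x - rf h y :=
  map_sub (W.presheaf.map (homOfLE h).op).hom x y

theorem IsCob.eq {γ : C1 U} {w : ∀ a, Γ(W, U a)}
    (h : ∀ a b, γ a b = rf inf_le_left (w a) - rf inf_le_right (w b)) (a b : ι) {V : W.Opens}
    (ha : V ≤ U a) (hb : V ≤ U b) : rf (le_inf ha hb) (γ a b) = rf ha (w a) - rf hb (w b) := by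
  rw [h, rf_sub, rf_rf, rf_rf]

/-- Functions are equal when they agree on a cover. -/
theorem fun_ext {A : W.Opens} {κ : Type u} (V : κ → W.Opens) (hV : A ≤ iSup V) {x y : Γ(W, A)}
    (h : ∀ k (B : W.Opens) (hA : B ≤ A), B ≤ V k → rf hA x = rf hA y) : x = y :=
  W.sheaf.eq_of_locally_eq' (fun k => A ⊓ V k) A (fun _ => homOfLE inf_le_left)
    (by rw [← inf_iSup_eq]; exact le_inf le_rfl hV) x y fun k => h k _ inf_le_left inf_le_right

/-- Functions glue along a cover. -/
theorem fun_glue {A : W.Opens} {κ : Type u} (V : κ → W.Opens) (hV : A ≤ iSup V)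
    (s : ∀ k, Γ(W, A ⊓ V k))
    (h : ∀ k l (B : W.Opens) (hk : B ≤ A ⊓ V k) (hl : B ≤ A ⊓ V l), rf hk (s k) = rf hl (s l)) :
    ∃ t : Γ(W, A), ∀ k (B : W.Opens) (hA : B ≤ A) (hk : B ≤ V k), rf hA t = rf (le_inf hA hk) (s k) := by
  obtain ⟨t, ht, -⟩ := W.sheaf.existsUnique_gluing' (fun k => A ⊓ V k) A (fun _ => homOfLE inf_le_left)
    (by rw [← inf_iSup_eq]; exact le_inf le_rfl hV) s fun k l => h k l _ inf_le_left inf_le_right
  refine ⟨t, fun k B hA hk => ?_⟩
  rw [← show rf (inf_le_left : A ⊓ V k ≤ A) t = s k from ht k, rf_rf]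

/-- The inverse image of a cochain. -/
noncomputable def comap (f : P ⟶ W) (γ : C1 U) : C1 fun a => f ⁻¹ᵁ U a :=
  fun a b => f.app (U a ⊓ U b) (γ a b)

theorem IsCob.comap {γ : C1 U} (h : IsCob γ) (f : P ⟶ W) : IsCob (Cech1.comap f γ) := by
  obtain ⟨w, hw⟩ := h
  refine ⟨fun a => f.app (U a) (w a), fun a b => ?_⟩
  rw [Cech1.comap, hw, map_sub, app_rf, app_rf]
  rfl

open Groth.Agent.Lib.Cech.Complex in
/-- A cocycle on affine opens with affine union is a coboundary. -/
theorem isCob_of_affine [W.IsSeparated] (hU : ∀ a, IsAffineOpen (U a)) {V : W.Opens} (hV : IsAffineOpen V)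
    (hUV : iSup U = V) {γ : C1 U} (hγ : IsCoc γ) : IsCob γ := by
  haveI : (Coh.structureModule W).IsQuasicoherent := QCohInv.isQCoh_structureModule W
  have hex := ProperFin.CechLeray.exactSucc_of_subsingleton_HU (X := W.carrier) U hUV 0
    (Coh.toAb (Coh.structureModule W))
    (fun q i n => ZarCoh.Affine.HU_subsingleton _ (show IsAffineOpen (⨅ a, U (i a)) from
      IsAffineOpen.iInf fun a => hU (i a)) n)
    (fun n => ZarCoh.Affine.HU_subsingleton _ hV n)
  have hle : ∀ (i : Fin (1 + 1) → ι), inter U i ≤ U (i 0) ⊓ U (i 1) := fun i =>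
    le_inf (inter_le U i 0) (inter_le U i 1)
  let c : Cochain U (Coh.toAb (Coh.structureModule W)).obj 1 := fun i => rf (hle i) (γ (i 0) (i 1))
  obtain ⟨b, hb⟩ := hex c (by
    funext i
    have h3 := hγ (i 0) (i 1) (i 2) (inter U i) (inter_le U i 0) (inter_le U i 1) (inter_le U i 2)
    rw [dC_apply, Fin.sum_univ_three]
    simp only [Fin.val_zero, Fin.val_one, Fin.val_two, pow_zero, pow_one, neg_one_sq, one_smul, neg_smul]
    show @HAdd.hAdd Γ(W, inter U i) Γ(W, inter U i) Γ(W, inter U i) instHAdd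
      (rf _ (rf _ (γ (i 1) (i 2))) + -rf _ (rf _ (γ (i 0) (i 2)))) (rf _ (rf _ (γ (i 0) (i 1)))) =
        (0 : Γ(W, inter U i))
    rw [rf_rf, rf_rf, rf_rf, ← h3]
    abel)
  let b' : ∀ j : Fin (0 + 1) → ι, Γ(W, inter U j) := b
  let const : ι → Fin (0 + 1) → ι := fun a _ => a
  have hc : ∀ a, U a ≤ inter U (const a) := fun a => le_iInf fun _ => le_rfl
  refine ⟨fun a => -rf (hc a) (b' (const a)), fun a d => ?_⟩
  let i : Fin (1 + 1) → ι := ![a, d]
  have hi : U a ⊓ U d ≤ inter U i := le_iInf fun k => by fin_cases k <;> simp [i]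
  have h1 := congrFun hb i
  rw [dC_apply, Fin.sum_univ_two] at h1
  simp only [Fin.val_zero, Fin.val_one, pow_zero, pow_one, one_smul, neg_smul] at h1
  have h2 : rf (inter_le_face U i 0) (b' (i ∘ Fin.succAbove 0)) +
      -rf (inter_le_face U i 1) (b' (i ∘ Fin.succAbove 1)) = rf (hle i) (γ a d) := h1
  have h4 := congrArg (rf hi) h2
  erw [rf_add, rf_rf, rf_rf] at h4
  have e0 : i ∘ Fin.succAbove 0 = const d := funext fun k => by fin_cases k; rfl
  have e1 : i ∘ Fin.succAbove 1 = const a := funext fun k => by fin_cases k; rfl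
  have key : ∀ (j j' : Fin (0 + 1) → ι) (_ : j = j') (A : W.Opens) (hj : A ≤ inter U j)
      (hj' : A ≤ inter U j'), rf hj (b' j) = rf hj' (b' j') := by
    rintro j _ rfl A hj hj'; rfl
  rw [key _ _ e0 _ _ (le_inf_iff.1 le_rfl |>.2.trans (hc d))] at h4
  have h5 : rf hi (-rf (inter_le_face U i 1) (b' (i ∘ Fin.succAbove 1))) =
      -rf ((le_inf_iff.1 le_rfl).1.trans (hc a)) (b' (const a)) := by
    simp only [rf, map_neg]
    exact congrArg Neg.neg ((rf_rf _ _ _).trans (key _ _ e1 _ _ _))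
  erw [h5, rf_self] at h4
  simp only [rf, map_neg]
  rw [← sub_eq_add_neg] at h4
  rw [sub_neg_eq_add, neg_add_eq_sub]
  refine h4.symm.trans (congrArg₂ (· - ·) ?_ ?_) <;> exact (rf_rf _ _ _).symm

variable {κ : Type u} {V : κ → W.Opens}

/-- A cocycle on `U` which splits over each member of another cover gives a cocycle on that cover,
which is a coboundary iff the original one is, also after any inverse image. -/
theorem exists_refine (hU : iSup U = ⊤) (hV : iSup V = ⊤) (γ : C1 U)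
    (hloc : ∀ k, IsCob (U := fun a => V k ⊓ U a)
      fun a b => rf (inf_le_inf inf_le_right inf_le_right) (γ a b)) :
    ∃ η : C1 V, IsCoc η ∧ (IsCob η → IsCob γ) ∧
      ∀ (P : Scheme.{u}) (f : P ⟶ W), IsCob (Cech1.comap f γ) → IsCob (Cech1.comap f η) := by
  choose w hw using hloc
  have hw' : ∀ k a b (B : W.Opens) (hk : B ≤ V k) (ha : B ≤ U a) (hb : B ≤ U b),
      rf (le_inf ha hb) (γ a b) = rf (le_inf hk ha) (w k a) - rf (le_inf hk hb) (w k b) := by
    intro k a b B hk ha hb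
    have e := congrArg (rf (X := W) (le_inf (le_inf hk ha) (le_inf hk hb))) (hw k a b)
    rw [rf_rf, rf_sub, rf_rf, rf_rf] at e
    exact e
  have hη : ∀ k l, ∃ t : Γ(W, V k ⊓ V l), ∀ a (B : W.Opens) (hB : B ≤ V k ⊓ V l) (ha : B ≤ U a),
      rf hB t = rf (le_inf (hB.trans inf_le_left) ha) (w k a) - rf (le_inf (hB.trans inf_le_right) ha) (w l a) := by
    intro k l
    obtain ⟨t, ht⟩ := fun_glue U (A := V k ⊓ V l) (by rw [hU]; exact le_top)
      (fun a => rf (inf_le_inf_right _ inf_le_left) (w k a) - rf (inf_le_inf_right _ inf_le_right) (w l a))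
      fun a b B ha hb => by
        rw [rf_sub, rf_sub, rf_rf, rf_rf, rf_rf, rf_rf, sub_eq_sub_iff_sub_eq_sub]
        have h1 := hw' k a b B (ha.trans (inf_le_left.trans inf_le_left)) (ha.trans inf_le_right) (hb.trans inf_le_right)
        have h2 := hw' l a b B (ha.trans (inf_le_left.trans inf_le_right)) (ha.trans inf_le_right) (hb.trans inf_le_right)
        exact h1.symm.trans h2
    refine ⟨t, fun a B hB ha => ?_⟩
    rw [ht a B hB ha, rf_sub, rf_rf, rf_rf]
  choose η hη using hη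
  refine ⟨η, fun k l m B hk hl hm => ?_, ?_, ?_⟩
  · refine fun_ext U (by rw [hU]; exact le_top) fun a B' hB ha => ?_
    rw [rf_add, rf_rf, rf_rf, rf_rf, hη k l a B' _ ha, hη l m a B' _ ha, hη k m a B' _ ha]
    abel
  · rintro ⟨z, hz⟩
    have hg : ∀ a, ∃ t : Γ(W, U a), ∀ k (B : W.Opens) (ha : B ≤ U a) (hk : B ≤ V k),
        rf ha t = rf (le_inf hk ha) (w k a) - rf hk (z k) := by
      intro a
      obtain ⟨t, ht⟩ := fun_glue V (A := U a) (by rw [hV]; exact le_top)
        (fun k => rf (le_inf inf_le_right inf_le_left) (w k a) - rf inf_le_right (z k))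
        fun k l B hk hl => by
          have hkl : B ≤ V k ⊓ V l := le_inf (hk.trans inf_le_right) (hl.trans inf_le_right)
          have h1 := hη k l a B hkl (hk.trans inf_le_left)
          rw [IsCob.eq hz k l (hk.trans inf_le_right) (hl.trans inf_le_right)] at h1
          rw [rf_sub, rf_sub, rf_rf, rf_rf, rf_rf, rf_rf, sub_eq_sub_iff_sub_eq_sub]
          exact h1.symm
      refine ⟨t, fun k B ha hk => ?_⟩
      rw [ht k B ha hk, rf_sub, rf_rf, rf_rf]
    choose t ht using hg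
    refine ⟨t, fun a b => fun_ext V (by rw [hV]; exact le_top) fun k B hB hk => ?_⟩
    rw [rf_sub, rf_rf, rf_rf, ht a k B (hB.trans inf_le_left) hk, ht b k B (hB.trans inf_le_right) hk,
      sub_sub_sub_cancel_right]
    exact hw' k a b B hk (hB.trans inf_le_left) (hB.trans inf_le_right)
  · rintro P f ⟨ω, hω⟩
    have hcov : (⊤ : P.Opens) ≤ iSup fun a => f ⁻¹ᵁ U a := by
      rw [← Scheme.Hom.preimage_iSup, hU, Scheme.Hom.preimage_top]
    have hg : ∀ k, ∃ t : Γ(P, f ⁻¹ᵁ V k), ∀ a (B : P.Opens) (hk : B ≤ f ⁻¹ᵁ V k) (ha : B ≤ f ⁻¹ᵁ U a),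
        rf hk t = rf (le_inf hk ha : B ≤ f ⁻¹ᵁ (V k ⊓ U a)) (f.app _ (w k a)) - rf ha (ω a) := by
      intro k
      obtain ⟨t, ht⟩ := fun_glue (fun a => f ⁻¹ᵁ U a) (A := f ⁻¹ᵁ V k) (le_top.trans hcov)
        (fun a => rf (le_rfl : f ⁻¹ᵁ V k ⊓ f ⁻¹ᵁ U a ≤ f ⁻¹ᵁ (V k ⊓ U a)) (f.app _ (w k a)) -
          rf inf_le_right (ω a))
        fun a b B ha hb => by
          have hk' : B ≤ f ⁻¹ᵁ V k := ha.trans inf_le_left
          have hab : B ≤ f ⁻¹ᵁ (U a ⊓ U b) := le_inf (ha.trans inf_le_right) (hb.trans inf_le_right)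
          have e := congrArg (fun s => f.app _ s) (hw' k a b (V k ⊓ U a ⊓ U b) (inf_le_left.trans inf_le_left)
            (inf_le_left.trans inf_le_right) inf_le_right)
          simp only [map_sub, app_rf] at e
          have e' := congrArg (rf (X := P) (le_inf ha (hb.trans inf_le_right) : B ≤ f ⁻¹ᵁ (V k ⊓ U a ⊓ U b))) e
          erw [rf_sub, rf_rf, rf_rf, rf_rf] at e'
          have h2 := IsCob.eq hω a b (ha.trans inf_le_right) (hb.trans inf_le_right)
          rw [rf_sub, rf_sub, rf_rf, rf_rf, rf_rf, rf_rf, sub_eq_sub_iff_sub_eq_sub]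
          exact e'.symm.trans h2
      refine ⟨t, fun a B hk ha => ?_⟩
      rw [ht a B hk ha, rf_sub, rf_rf, rf_rf]
    choose t ht using hg
    refine ⟨t, fun k l => fun_ext (fun a => f ⁻¹ᵁ U a) (le_top.trans hcov) fun a B hB ha => ?_⟩
    rw [rf_sub, rf_rf, rf_rf, ht k a B (hB.trans (pre_mono f inf_le_left)) ha,
      ht l a B (hB.trans (pre_mono f inf_le_right)) ha, sub_sub_sub_cancel_right]
    have e := congrArg (fun s => f.app _ s) (hη k l a (V k ⊓ V l ⊓ U a) inf_le_left inf_le_right)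
    simp only [map_sub, app_rf] at e
    have e' := congrArg (rf (X := P) (le_inf hB ha : B ≤ f ⁻¹ᵁ (V k ⊓ V l ⊓ U a))) e
    erw [rf_sub, rf_rf, rf_rf, rf_rf] at e'
    exact e'

end Groth.Agent.Lib.Cube.Cech1
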