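import Groth.Agent.Lib.Cube.Cech1
import Groth.Agent.H2.Rigid.Push

/-!
# The data of the theorem of the cube, and their base change
-/

set_option autoImplicit false

universe u

open CategoryTheory CategoryTheory.Limits AlgebraicGeometry TopologicalSpace

namespace Groth.Agent.Lib.Cube

open Groth.Agent.H97.GlueLine (Cocycle)
open Groth.Agent.Lib.Cube.Triv

/-- A fibre product of two proper flat schemes with sections, and a cocycle on it which is trivial
on both slices. -/
structure Ctx (S : Scheme.{u}) where
  /-- first factor -/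
  X : Scheme.{u}
  /-- second factor -/
  Y : Scheme.{u}
  /-- the product -/
  W : Scheme.{u}
  /-- structure map -/
  px : X ⟶ S
  /-- structure map -/
  py : Y ⟶ S
  /-- projection -/
  fx : W ⟶ X
  /-- projection -/
  fy : W ⟶ Y
  H : IsPullback fx fy px py
  isProper_px : IsProper px
  flat_px : Flat px
  isProper_py : IsProper py
  flat_py : Flat py
  hx : H2.Rigid.H0 px
  hy : H2.Rigid.H0 py
  /-- section -/
  x₀ : S ⟶ X
  hx₀ : x₀ ≫ px = 𝟙 S
  /-- section -/
  y₀ : S ⟶ Y
  hy₀ : y₀ ≫ py = 𝟙 S
  /-- slice -/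
  i : Y ⟶ W
  hi₁ : i ≫ fx = py ≫ x₀
  hi₂ : i ≫ fy = 𝟙 Y
  /-- slice -/
  j : X ⟶ W
  hj₁ : j ≫ fx = 𝟙 X
  hj₂ : j ≫ fy = px ≫ y₀
  /-- index of the cover -/
  ι : Type u
  /-- affine cover -/
  U : ι → W.Opens
  hU : ∀ a, IsAffineOpen (U a)
  hUc : iSup U = ⊤
  /-- the cocycle -/
  c : Cocycle U
  hi : TrivAlong c i
  hj : TrivAlong c j

namespace Ctx

variable {S : Scheme.{u}} (C : Ctx S)

attribute [instance] Ctx.isProper_px Ctx.flat_px Ctx.isProper_py Ctx.flat_py

/-- The structure map of the product. -/
abbrev pw : C.W ⟶ S := C.fx ≫ C.px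

theorem pw_eq : C.pw = C.fy ≫ C.py := C.H.w

instance : IsProper C.fx := MorphismProperty.of_isPullback C.H.flip inferInstance

instance : Flat C.fx := MorphismProperty.of_isPullback C.H.flip inferInstance

instance : IsProper C.fy := MorphismProperty.of_isPullback C.H inferInstance

instance : Flat C.fy := MorphismProperty.of_isPullback C.H inferInstance

instance : IsProper C.pw := inferInstanceAs (IsProper (C.fx ≫ C.px))

instance : Flat C.pw := inferInstanceAs (Flat (C.fx ≫ C.px))

theorem i_pw : C.i ≫ C.pw = C.py := by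
  rw [pw_eq, ← Category.assoc, C.hi₂, Category.id_comp]

theorem j_pw : C.j ≫ C.pw = C.px := by
  rw [pw, ← Category.assoc, C.hj₁, Category.id_comp]

instance : IsClosedImmersion C.i := by
  haveI : IsClosedImmersion (C.i ≫ C.fy) := by rw [C.hi₂]; infer_instance
  exact IsClosedImmersion.of_comp C.i C.fy

instance : IsClosedImmersion C.j := by
  haveI : IsClosedImmersion (C.j ≫ C.fx) := by rw [C.hj₁]; infer_instance
  exact IsClosedImmersion.of_comp C.j C.fx

theorem isSeparated [S.IsSeparated] : C.W.IsSeparated :=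
  ⟨by rw [← Limits.terminal.comp_from C.pw]; infer_instance⟩

variable {S' : Scheme.{u}} (φ : S' ⟶ S)

/-- The base change of the product. -/
noncomputable abbrev bcW : Scheme.{u} := pullback C.pw φ

/-- The projection to the original product. -/
noncomputable abbrev bcMap : C.bcW φ ⟶ C.W := pullback.fst C.pw φ

/-- The structure map after base change. -/
noncomputable abbrev bcBase : C.bcW φ ⟶ S' := pullback.snd C.pw φ

variable [IsAffineHom φ]

/-- Base change of the data. -/
noncomputable def bc : Ctx S' where
  X := pullback C.px φ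
  Y := pullback C.py φ
  W := C.bcW φ
  px := pullback.snd C.px φ
  py := pullback.snd C.py φ
  fx := pullback.lift (pullback.fst C.pw φ ≫ C.fx) (pullback.snd C.pw φ)
    (by rw [Category.assoc, pullback.condition])
  fy := pullback.lift (pullback.fst C.pw φ ≫ C.fy) (pullback.snd C.pw φ)
    (by rw [Category.assoc, ← pw_eq, pullback.condition])
  H := by
    have hX := IsPullback.of_hasPullback C.px φ
    have hY := IsPullback.of_hasPullback C.py φ
    have hW := IsPullback.of_hasPullback C.pw φ
    have h1 : IsPullback (pullback.fst C.pw φ) (pullback.lift (pullback.fst C.pw φ ≫ C.fx) (pullback.snd C.pw φ)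
        (by rw [Category.assoc, pullback.condition])) C.fx (pullback.fst C.px φ) :=
      IsPullback.of_bot (by rw [pullback.lift_snd]; exact hW) (by rw [pullback.lift_fst]) hX
    -- paste to obtain the square over `Y`
    have h2 := h1.flip.paste_vert C.H
    refine IsPullback.of_bot ?_ (by rw [pullback.lift_snd, pullback.lift_snd]) hY.flip
    rw [pullback.lift_fst]
    have h3 : pullback.fst C.px φ ≫ C.px = pullback.snd C.px φ ≫ φ := pullback.condition
    rw [← h3]
    exact h2
  isProper_px := inferInstanceAs (IsProper (pullback.snd C.px φ))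
  flat_px := inferInstanceAs (Flat (pullback.snd C.px φ))
  isProper_py := inferInstanceAs (IsProper (pullback.snd C.py φ))
  flat_py := inferInstanceAs (Flat (pullback.snd C.py φ))
  hx := C.hx.pullback_snd C.px φ
  hy := C.hy.pullback_snd C.py φ
  x₀ := pullback.lift (φ ≫ C.x₀) (𝟙 S') (by rw [Category.assoc, C.hx₀, Category.comp_id, Category.id_comp])
  hx₀ := pullback.lift_snd _ _ _
  y₀ := pullback.lift (φ ≫ C.y₀) (𝟙 S') (by rw [Category.assoc, C.hy₀, Category.comp_id, Category.id_comp])
  hy₀ := pullback.lift_snd _ _ _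
  i := pullback.lift (pullback.fst C.py φ ≫ C.i) (pullback.snd C.py φ)
    (by rw [Category.assoc, i_pw, pullback.condition])
  hi₁ := by
    apply pullback.hom_ext
    · simp only [Category.assoc, pullback.lift_fst, pullback.lift_fst_assoc, C.hi₁]
      rw [pullback.condition_assoc]
    · simp only [Category.assoc, pullback.lift_snd, Category.comp_id]
  hi₂ := by
    apply pullback.hom_ext
    · simp only [Category.assoc, pullback.lift_fst, pullback.lift_fst_assoc, C.hi₂]
      simp
    · simp only [Category.assoc, pullback.lift_snd, Category.comp_id, Category.id_comp]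
  j := pullback.lift (pullback.fst C.px φ ≫ C.j) (pullback.snd C.px φ)
    (by rw [Category.assoc, j_pw, pullback.condition])
  hj₁ := by
    apply pullback.hom_ext
    · simp only [Category.assoc, pullback.lift_fst, pullback.lift_fst_assoc, C.hj₁]
      simp
    · simp only [Category.assoc, pullback.lift_snd, Category.comp_id, Category.id_comp]
  hj₂ := by
    apply pullback.hom_ext
    · simp only [Category.assoc, pullback.lift_fst, pullback.lift_fst_assoc, C.hj₂]
      rw [pullback.condition_assoc]
    · simp only [Category.assoc, pullback.lift_snd, Category.comp_id]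
  ι := C.ι
  U := fun a => C.bcMap φ ⁻¹ᵁ C.U a
  hU := fun a => by
    haveI : IsAffineHom (pullback.fst C.pw φ) := MorphismProperty.pullback_fst _ _ inferInstance
    exact (C.hU a).preimage (pullback.fst C.pw φ)
  hUc := by rw [← Scheme.Hom.preimage_iSup, C.hUc, Scheme.Hom.preimage_top]
  c := Triv.comap C.c (C.bcMap φ)
  hi := by
    obtain ⟨v, hv, he⟩ := (C.hi.comp (pullback.fst C.py φ)).of_eq
      (show pullback.fst C.py φ ≫ C.i = pullback.lift (pullback.fst C.py φ ≫ C.i) (pullback.snd C.py φ)
        (by rw [Category.assoc, i_pw, pullback.condition]) ≫ C.bcMap φ from (pullback.lift_fst _ _ _).symm)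
    exact ⟨v, hv, he⟩
  hj := by
    obtain ⟨v, hv, he⟩ := (C.hj.comp (pullback.fst C.px φ)).of_eq
      (show pullback.fst C.px φ ≫ C.j = pullback.lift (pullback.fst C.px φ ≫ C.j) (pullback.snd C.px φ)
        (by rw [Category.assoc, j_pw, pullback.condition]) ≫ C.bcMap φ from (pullback.lift_fst _ _ _).symm)
    exact ⟨v, hv, he⟩

/-- Triviality of the base change along a morphism is triviality along the composite. -/
theorem trivAlong_bc_iff {P : Scheme.{u}} (f : P ⟶ C.bcW φ) :
    TrivAlong (C.bc φ).c f ↔ TrivAlong C.c (f ≫ C.bcMap φ) := Iff.rfl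

/-- Triviality transfers along base changes of base changes. -/
theorem trivAlong_bcMap_comp {S'' : Scheme.{u}} (ψ : S'' ⟶ S') {χ : S'' ⟶ S} (h : ψ ≫ φ = χ)
    (hT : TrivAlong C.c (C.bcMap χ)) : TrivAlong (C.bc φ).c ((C.bc φ).bcMap ψ) := by
  rw [trivAlong_bc_iff]
  have hw : ((C.bc φ).bcMap ψ ≫ C.bcMap φ) ≫ C.pw = (C.bc φ).bcBase ψ ≫ χ := by
    have e : (C.bc φ).pw = pullback.snd C.pw φ := pullback.lift_snd _ _ _
    refine (Category.assoc _ _ _).trans ?_
    refine (congrArg ((C.bc φ).bcMap ψ ≫ ·) ((pullback.condition).trans (congrArg (· ≫ φ) e.symm))).trans ?_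
    refine (Category.assoc _ _ _).symm.trans ?_
    refine (congrArg (· ≫ φ) pullback.condition).trans ?_
    exact (Category.assoc _ _ _).trans (congrArg (_ ≫ ·) h)
  have e2 := pullback.lift_fst (f := C.pw) (g := χ) ((C.bc φ).bcMap ψ ≫ C.bcMap φ) ((C.bc φ).bcBase ψ) hw
  exact (hT.comp (pullback.lift _ _ hw)).of_eq e2

end Ctx

end Groth.Agent.Lib.Cube
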