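import Groth.Agent.Lib.Cube.Rigid

/-!
# Triviality descends along extensions of the base field

A linear form on the extension field retracts functions on affine opens; applied to a trivialisation
it gives one over the ground field.
-/

set_option autoImplicit false

universe u

open CategoryTheory CategoryTheory.Limits AlgebraicGeometry TopologicalSpace Opposite
open scoped TensorProduct

namespace Groth.Agent.Lib.Cube.Descend

open Groth.Agent.Lib.TensorMod.Dual (rf rf_rf rf_self)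
open Groth.Agent.Lib.Cube.Triv Groth.Agent.Lib.Cube.Cech1 Groth.Agent.Lib.Cube.AffineBC
open Groth.Agent.Lib.Cube.Small (app_congr str_app str_rf)
open Groth.Agent.Lib.Cube.Rigid

noncomputable section

/-- Equal composites give equal inverse images. -/
theorem app_comp_congr {P A B Q : Scheme.{u}} {a : P ⟶ A} {b : A ⟶ Q} {c : P ⟶ B} {d : B ⟶ Q}
    (e : a ≫ b = c ≫ d) {V : Q.Opens} (x : Γ(Q, V)) {D : P.Opens} (h : D ≤ a ⁻¹ᵁ b ⁻¹ᵁ V)
    (h' : D ≤ c ⁻¹ᵁ d ⁻¹ᵁ V) :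
    rf h ((a.app (b ⁻¹ᵁ V)).hom ((b.app V).hom x)) = rf h' ((c.app (d ⁻¹ᵁ V)).hom ((d.app V).hom x)) := by
  show rf (show D ≤ (a ≫ b) ⁻¹ᵁ V from h) (((a ≫ b).app V).hom x) =
    rf (show D ≤ (c ≫ d) ⁻¹ᵁ V from h') (((c ≫ d).app V).hom x)
  rw [app_congr e V x, rf_rf]

/-- Relations pull back. -/
theorem pull {P Q : Scheme.{u}} (f : Q ⟶ P) {A A' A'' : P.Opens} {x : Γ(P, A)} {c : Γ(P, A'')}
    {y : Γ(P, A')}
    (e : ∀ (V : P.Opens) (ha : V ≤ A) (hc : V ≤ A'') (hb : V ≤ A'), rf ha x = rf hc c * rf hb y)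
    {B : Q.Opens} (ha : B ≤ f ⁻¹ᵁ A) (hc : B ≤ f ⁻¹ᵁ A'') (hb : B ≤ f ⁻¹ᵁ A') :
    rf ha ((f.app A).hom x) = rf hc ((f.app A'').hom c) * rf hb ((f.app A').hom y) := by
  have h := congrArg (rf (le_inf (le_inf ha hc) hb : B ≤ f ⁻¹ᵁ (A ⊓ A'' ⊓ A')))
    (congrArg (f.app (A ⊓ A'' ⊓ A')).hom
      (e _ (inf_le_left.trans inf_le_left) (inf_le_left.trans inf_le_right) inf_le_right))
  erw [map_mul, rf_mul, app_rf, app_rf, app_rf, rf_rf, rf_rf, rf_rf] at h
  exact h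

variable {R R' : CommRingCat.{u}} {φ : R ⟶ R'} {W P : Scheme.{u}} {g : P ⟶ W} {p' : P ⟶ Spec R'}
  {p : W ⟶ Spec R} (H : IsPullback g p' p (Spec.map φ))

include H in
/-- Functions on the inverse image of an affine open are sums of elementary products. -/
theorem induction {U : W.Opens} (hU : IsAffineOpen U) {motive : Γ(P, g ⁻¹ᵁ U) → Prop}
    (add : ∀ x y, motive x → motive y → motive (x + y))
    (pure : ∀ a l, motive ((g.app U).hom a * (str p' (g ⁻¹ᵁ U)).hom l)) (x : Γ(P, g ⁻¹ᵁ U)) :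
    motive x := by
  have hpo := isPushout H hU
  letI := φ.hom.toAlgebra
  letI : Algebra R Γ(W, U) := (str p U).hom.toAlgebra
  let I := (CommRingCat.isPushout_tensorProduct R Γ(W, U) R').isoIsPushout _ _ hpo
  obtain ⟨t, rfl⟩ : ∃ t, I.hom.hom t = x := (ConcreteCategory.bijective_of_isIso I.hom).2 x
  have hp : ∀ (a : Γ(W, U)) (l : (R' : Type u)), I.hom.hom (a ⊗ₜ[R] l) =
      (g.app U).hom a * (str p' (g ⁻¹ᵁ U)).hom l := fun a l => by
    have h1 := ConcreteCategory.congr_hom (IsPushout.inl_isoIsPushout_hom _ _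
      (CommRingCat.isPushout_tensorProduct R Γ(W, U) R') hpo) a
    have h2 := ConcreteCategory.congr_hom (IsPushout.inr_isoIsPushout_hom _ _
      (CommRingCat.isPushout_tensorProduct R Γ(W, U) R') hpo) l
    rw [show a ⊗ₜ[R] l = (a ⊗ₜ[R] (1 : R')) * ((1 : Γ(W, U)) ⊗ₜ[R] l) by
      rw [Algebra.TensorProduct.tmul_mul_tmul, mul_one, one_mul], map_mul]
    exact congrArg₂ (· * ·) h1 h2
  induction t using TensorProduct.induction_on with
  | zero =>
    have := pure 0 0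
    rwa [map_zero, zero_mul, ← map_zero I.hom.hom] at this
  | tmul a l => rw [hp]; exact pure a l
  | add x y hx hy => rw [map_add]; exact add _ _ hx hy

include H in
/-- A linear form on the extension retracts functions. -/
theorem exists_retract {U : W.Opens} (hU : IsAffineOpen U) (π : (R' : Type u) →+ R)
    (hπ : ∀ r l, π (φ.hom r * l) = r * π l) :
    ∃ ρ : Γ(P, g ⁻¹ᵁ U) →+ Γ(W, U),
      ∀ a l, ρ ((g.app U).hom a * (str p' (g ⁻¹ᵁ U)).hom l) = a * (str p U).hom (π l) := by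
  have hpo := isPushout H hU
  letI := φ.hom.toAlgebra
  letI : Algebra R Γ(W, U) := (str p U).hom.toAlgebra
  let I := (CommRingCat.isPushout_tensorProduct R Γ(W, U) R').isoIsPushout _ _ hpo
  let f : Γ(W, U) →+ (R' : Type u) →+ Γ(W, U) :=
    { toFun := fun a =>
        { toFun := fun l => a * (str p U).hom (π l)
          map_zero' := by simp
          map_add' := fun x y => by rw [map_add, map_add, mul_add] }
      map_zero' := by ext; simp
      map_add' := fun x y => by ext; simp [add_mul] }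
  let L := TensorProduct.liftAddHom (R := R) f fun r a l => by
    show (r • a) * (str p U).hom (π l) = a * (str p U).hom (π (r • l))
    rw [Algebra.smul_def, Algebra.smul_def, RingHom.algebraMap_toAlgebra,
      RingHom.algebraMap_toAlgebra, hπ, map_mul]
    ring
  refine ⟨L.comp I.inv.hom.toAddMonoidHom, fun a l => ?_⟩
  have h1 := ConcreteCategory.congr_hom (IsPushout.inl_isoIsPushout_inv _ _
    (CommRingCat.isPushout_tensorProduct R Γ(W, U) R') hpo) a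
  have h2 := ConcreteCategory.congr_hom (IsPushout.inr_isoIsPushout_inv _ _
    (CommRingCat.isPushout_tensorProduct R Γ(W, U) R') hpo) l
  show L (I.inv.hom ((g.app U).hom a * (str p' (g ⁻¹ᵁ U)).hom l)) = _
  rw [map_mul]
  erw [h1, h2]
  show L ((a ⊗ₜ[R] (1 : R')) * ((1 : Γ(W, U)) ⊗ₜ[R] l)) = _
  rw [Algebra.TensorProduct.tmul_mul_tmul, mul_one, one_mul]
  exact TensorProduct.liftAddHom_tmul _ _ _ _

variable {U : W.Opens} {π : (R' : Type u) →+ R} {ρ : Γ(P, g ⁻¹ᵁ U) →+ Γ(W, U)}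
  (hρ : ∀ a l, ρ ((g.app U).hom a * (str p' (g ⁻¹ᵁ U)).hom l) = a * (str p U).hom (π l))

include H hρ in
theorem retract_mul (hU : IsAffineOpen U) (c : Γ(W, U)) (x : Γ(P, g ⁻¹ᵁ U)) :
    ρ ((g.app U).hom c * x) = c * ρ x := by
  induction x using induction H hU with
  | add x y hx hy => rw [mul_add, map_add, map_add, hx, hy, mul_add]
  | pure a l => rw [← mul_assoc, ← map_mul, hρ, hρ, mul_assoc]

include H hρ in
/-- The retractions commute with inverse images. -/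
theorem retract_natural (hU : IsAffineOpen U) {Q Q' : Scheme.{u}} {g₂ : Q' ⟶ Q} {q : Q ⟶ Spec R}
    {q' : Q' ⟶ Spec R'} (f : Q ⟶ W) (f' : Q' ⟶ P) (hw : f' ≫ g = g₂ ≫ f) (hf : f ≫ p = q)
    (hf' : f' ≫ p' = q') {V : Q.Opens} (e : V ≤ f ⁻¹ᵁ U) {ρ₂ : Γ(Q', g₂ ⁻¹ᵁ V) →+ Γ(Q, V)}
    (hρ₂ : ∀ a l, ρ₂ ((g₂.app V).hom a * (str q' (g₂ ⁻¹ᵁ V)).hom l) = a * (str q V).hom (π l))
    (e' : g₂ ⁻¹ᵁ V ≤ f' ⁻¹ᵁ g ⁻¹ᵁ U) (x : Γ(P, g ⁻¹ᵁ U)) :
    ρ₂ (rf e' ((f'.app (g ⁻¹ᵁ U)).hom x)) = rf e ((f.app U).hom (ρ x)) := by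
  induction x using induction H hU with
  | add x y hx hy => rw [map_add, rf_add, map_add, hx, hy, map_add, map_add, rf_add]
  | pure a l =>
    rw [hρ, map_mul, map_mul, rf_mul, rf_mul, str_app p' f' hf', str_rf, str_app p f hf, str_rf]
    have h1 : rf e' ((f'.app (g ⁻¹ᵁ U)).hom ((g.app U).hom a)) =
        (g₂.app V).hom (rf e ((f.app U).hom a)) := by
      refine (app_comp_congr hw a e' (pre_mono g₂ e)).trans ?_
      exact (app_rf g₂ e _).symm
    rw [h1, hρ₂]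

end

noncomputable section

variable {κ K : Type u} [Field κ] [Field K] (φ : κ →+* K) (C : Ctx (Spec (CommRingCat.of κ)))

/-- Triviality descends along extensions of the base field. -/
theorem trivAlong_descend (h : TrivAlong C.c (C.bcMap (Spec.map (CommRingCat.ofHom φ)))) :
    TrivAlong C.c (𝟙 C.W) := by
  obtain ⟨v, hv, he⟩ := h
  haveI := C.isSeparated
  let S' := Spec (CommRingCat.of K)
  let ψ : S' ⟶ Spec (CommRingCat.of κ) := Spec.map (CommRingCat.ofHom φ)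
  let C' := C.bc ψ
  let g := C.bcMap ψ
  let gY : C'.Y ⟶ C.Y := pullback.fst C.py ψ
  let HW : IsPullback g (C.bcBase ψ) C.pw ψ := IsPullback.of_hasPullback C.pw ψ
  let HY : IsPullback gY C'.py C.py ψ := IsPullback.of_hasPullback C.py ψ
  have hig : C'.i ≫ g = gY ≫ C.i := pullback.lift_fst _ _ _
  have hib : C'.i ≫ C.bcBase ψ = C'.py := pullback.lift_snd _ _ _
  have hpw' : C'.pw = C.bcBase ψ := pullback.lift_snd _ _ _
  have hcovY : (⊤ : C'.Y.Opens) ≤ iSup fun a => gY ⁻¹ᵁ C.i ⁻¹ᵁ C.U a := by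
    rw [← Scheme.Hom.preimage_iSup, ← Scheme.Hom.preimage_iSup, C.hUc, Scheme.Hom.preimage_top,
      Scheme.Hom.preimage_top]
  have hcovW : (⊤ : (C.bcW ψ).Opens) ≤ iSup fun a => g ⁻¹ᵁ C.U a := by
    rw [← Scheme.Hom.preimage_iSup, C.hUc, Scheme.Hom.preimage_top]
  have hUY : ∀ a, gY ⁻¹ᵁ C.i ⁻¹ᵁ C.U a ≤ C'.i ⁻¹ᵁ g ⁻¹ᵁ C.U a := fun a => by
    rw [← Scheme.Hom.comp_preimage, ← Scheme.Hom.comp_preimage, hig]
  -- on the slice the trivialisation is a constant multiple of the given one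
  let vY : ∀ a, Γ(C'.Y, gY ⁻¹ᵁ C.i ⁻¹ᵁ C.U a) := fun a =>
    rf (hUY a) ((C'.i.app (g ⁻¹ᵁ C.U a)).hom (v a))
  let wY : ∀ a, Γ(C'.Y, gY ⁻¹ᵁ C.i ⁻¹ᵁ C.U a) := fun a => (gY.app (C.i ⁻¹ᵁ C.U a)).hom (wi C a)
  choose q hq using fun a => ((isUnit_wi C a).map (gY.app (C.i ⁻¹ᵁ C.U a)).hom).exists_right_inv
  obtain ⟨r, hr⟩ := fun_glue (fun a => gY ⁻¹ᵁ C.i ⁻¹ᵁ C.U a) hcovY
    (fun a => rf inf_le_right (vY a * q a)) fun a b B ha hb => by
      have ha' : B ≤ gY ⁻¹ᵁ C.i ⁻¹ᵁ C.U a := ha.trans inf_le_right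
      have hb' : B ≤ gY ⁻¹ᵁ C.i ⁻¹ᵁ C.U b := hb.trans inf_le_right
      rw [rf_rf, rf_rf, rf_mul, rf_mul]
      have e1 : rf ha' (wY a) * rf ha' (q a) = 1 := by rw [← rf_mul, hq, Rigid.rf_one]
      have e2 : rf hb' (wY b) * rf hb' (q b) = 1 := by rw [← rf_mul, hq, Rigid.rf_one]
      have hab : B ≤ gY ⁻¹ᵁ C.i ⁻¹ᵁ (C.U a ⊓ C.U b) := le_inf ha' hb'
      have e3 : rf ha' (wY a) = rf hab ((gY.app (C.i ⁻¹ᵁ (C.U a ⊓ C.U b))).hom
          ((C.i.app (C.U a ⊓ C.U b)).hom (C.c.u a b))) * rf hb' (wY b) :=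
        pull gY (fun V h₁ h₂ h₃ => wi_eq C a b h₁ h₃) ha' hab hb'
      have hab' : B ≤ C'.i ⁻¹ᵁ (g ⁻¹ᵁ (C.U a ⊓ C.U b)) := le_inf (ha'.trans (hUY a)) (hb'.trans (hUY b))
      have e4 := pull C'.i (fun V h₁ h₂ h₃ => TrivAlong.eq he a b h₁ h₃) (ha'.trans (hUY a)) hab'
        (hb'.trans (hUY b))
      rw [e3] at e1
      simp only [vY, rf_rf]
      refine ratio_eq (e4.trans ?_) e1 e2
      refine congrArg (fun t => t * rf (hb'.trans (hUY b)) ((C'.i.app (g ⁻¹ᵁ C.U b)).hom (v b))) ?_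
      exact app_comp_congr hig (C.c.u a b) hab' hab
  obtain ⟨l', hl'⟩ := (bijective_py_app C' ⊤).2 r
  obtain ⟨l, rfl⟩ := (ConcreteCategory.bijective_of_isIso (Scheme.ΓSpecIso (CommRingCat.of K)).inv).2 l'
  have hvY : ∀ a, vY a = wY a * (str C'.py _).hom l := fun a => by
    have h1 := hr a (gY ⁻¹ᵁ C.i ⁻¹ᵁ C.U a) le_top le_rfl
    simp only [rf_rf] at h1
    erw [rf_self] at h1
    rw [← hl'] at h1
    have h2 : (str C'.py (gY ⁻¹ᵁ C.i ⁻¹ᵁ C.U a)).hom l = vY a * q a := by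
      refine Eq.trans ?_ h1
      show _ = rf le_top ((C'.py.app ⊤).hom ((Scheme.ΓSpecIso (CommRingCat.of K)).inv l))
      simp only [AffineBC.str, Scheme.Hom.appLE, CommRingCat.comp_apply]
      rfl
    rw [h2, mul_comm (vY a), ← mul_assoc, hq, one_mul]
  by_cases hne : ∃ a, Nonempty (gY ⁻¹ᵁ C.i ⁻¹ᵁ C.U a : C'.Y.Opens)
  swap
  · exfalso
    obtain ⟨y⟩ : Nonempty C'.Y := ⟨C'.y₀ (IsLocalRing.closedPoint K)⟩
    obtain ⟨a, ha⟩ := Opens.mem_iSup.1 (hcovY (Opens.mem_top y))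
    exact hne ⟨a, ⟨⟨y, ha⟩⟩⟩
  obtain ⟨a₀, ⟨⟨y₀, hy₀⟩⟩⟩ := hne
  have hl : l ≠ 0 := by
    rintro rfl
    have hu : IsUnit (vY a₀) := isUnit_rf _ ((hv a₀).map _)
    rw [hvY, map_zero, mul_zero] at hu
    have := (C'.Y.mem_basicOpen (0 : Γ(C'.Y, gY ⁻¹ᵁ C.i ⁻¹ᵁ C.U a₀)) y₀ hy₀).2 (hu.map _)
    rw [Scheme.basicOpen_zero] at this
    exact this
  -- retract
  letI := φ.toAlgebra
  obtain ⟨π₀, hπ₀⟩ := (LinearMap.toSpanSingleton κ K l).exists_leftInverse_of_injective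
    (LinearMap.ker_toSpanSingleton κ (M := K) hl)
  let π : ((CommRingCat.of K : CommRingCat.{u}) : Type u) →+ (CommRingCat.of κ : CommRingCat.{u}) :=
    π₀.toAddMonoidHom
  have hπ : ∀ r x, π ((CommRingCat.ofHom φ).hom r * x) = r * π x := fun r x => π₀.map_smul r x
  have hπl : π l = 1 := by
    have := LinearMap.congr_fun hπ₀ 1
    show π₀ l = 1
    simpa using this
  choose ρ hρ using fun (A : C.W.affineOpens) => exists_retract HW A.2 π hπ
  have hUab : ∀ a b, IsAffineOpen (C.U a ⊓ C.U b) := fun a b => (C.hU a).inf (C.hU b)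
  let A : C.ι → C.W.affineOpens := fun a => ⟨C.U a, C.hU a⟩
  let x : ∀ a, Γ(C.W, C.U a) := fun a => ρ (A a) (v a)
  have hres : ∀ (B B' : C.W.affineOpens) (hBB : (B : C.W.Opens) ≤ B') (z : Γ(C.bcW ψ, g ⁻¹ᵁ B')),
      ρ B (rf (pre_mono g hBB) z) = rf hBB (ρ B' z) := fun B B' hBB z => by
    have := retract_natural HW (hρ B') B'.2 (𝟙 C.W) (𝟙 (C.bcW ψ))
      (by rw [Category.id_comp, Category.comp_id]) (Category.id_comp _) (Category.id_comp _)
      (V := B) hBB (ρ₂ := ρ B) (hρ B) (pre_mono g hBB) z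
    exact this
  have hsec : ∀ a b, rf (inf_le_left : C.U a ⊓ C.U b ≤ C.U a) (x a) =
      C.c.u a b * rf inf_le_right (x b) := fun a b => by
    let B : C.W.affineOpens := ⟨C.U a ⊓ C.U b, hUab a b⟩
    rw [← hres B (A a) inf_le_left (v a), ← hres B (A b) inf_le_right (v b)]
    exact (congrArg (ρ B) (he a b)).trans (retract_mul HW (hρ B) B.2 _ _)
  have hslice : ∀ a, (C.i.app (C.U a)).hom (x a) = wi C a := fun a => by
    obtain ⟨ρ₂, hρ₂⟩ := exists_retract HY ((C.hU a).preimage C.i) π hπ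
    have h1 := retract_natural HW (hρ (A a)) (A a).2 C.i C'.i hig (Ctx.i_pw C) hib
      (V := C.i ⁻¹ᵁ C.U a) le_rfl hρ₂ (hUY a) (v a)
    rw [rf_self] at h1
    refine h1.symm.trans ?_
    show ρ₂ (vY a) = _
    rw [hvY, hρ₂, hπl, map_one, mul_one]
  -- the retraction is again a trivialisation
  choose p hp using fun a => (hv a).exists_right_inv
  obtain ⟨s, hs⟩ := fun_glue (fun a => g ⁻¹ᵁ C.U a) hcovW
    (fun a => rf inf_le_right ((g.app (C.U a)).hom (x a) * p a)) fun a b B ha hb => by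
      have ha' : B ≤ g ⁻¹ᵁ C.U a := ha.trans inf_le_right
      have hb' : B ≤ g ⁻¹ᵁ C.U b := hb.trans inf_le_right
      rw [rf_rf, rf_rf, rf_mul, rf_mul]
      have e1 : rf ha' (v a) * rf ha' (p a) = 1 := by rw [← rf_mul, hp, Rigid.rf_one]
      have e2 : rf hb' (v b) * rf hb' (p b) = 1 := by rw [← rf_mul, hp, Rigid.rf_one]
      have hab : B ≤ g ⁻¹ᵁ (C.U a ⊓ C.U b) := le_inf ha' hb'
      have e4 := pull g (c := C.c.u a b) (fun V h₁ h₂ h₃ => by
        have := congrArg (rf (le_inf h₁ h₃ : V ≤ C.U a ⊓ C.U b)) (hsec a b)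
        rw [rf_mul, rf_rf, rf_rf] at this
        exact this) ha' hab hb'
      rw [TrivAlong.eq he a b ha' hb'] at e1
      exact ratio_eq e4 e1 e2
  obtain ⟨ν', hν'⟩ := (bijective_pw_app C' ⊤).2 s
  obtain ⟨ν, rfl⟩ := (ConcreteCategory.bijective_of_isIso (Scheme.ΓSpecIso (CommRingCat.of K)).inv).2 ν'
  have hgx : ∀ a, (g.app (C.U a)).hom (x a) = (str (C.bcBase ψ) _).hom ν * v a := fun a => by
    have h1 := hs a (g ⁻¹ᵁ C.U a) le_top le_rfl
    simp only [rf_rf] at h1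
    erw [rf_self] at h1
    rw [← hν'] at h1
    have h2 : (str (C.bcBase ψ) (g ⁻¹ᵁ C.U a)).hom ν = (g.app (C.U a)).hom (x a) * p a := by
      refine Eq.trans ?_ h1
      rw [← hpw']
      show _ = rf le_top ((C'.pw.app ⊤).hom ((Scheme.ΓSpecIso (CommRingCat.of K)).inv ν))
      simp only [AffineBC.str, Scheme.Hom.appLE, CommRingCat.comp_apply]
      rfl
    rw [h2, mul_assoc, mul_comm (p a), hp, mul_one]
  have hν : ν ≠ 0 := by
    rintro rfl
    have hu : IsUnit (wY a₀) := (isUnit_wi C a₀).map _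
    have h0 : wY a₀ = 0 := by
      have := congrArg (rf (hUY a₀)) (congrArg (C'.i.app (g ⁻¹ᵁ C.U a₀)).hom (hgx a₀))
      rw [show rf (hUY a₀) ((C'.i.app (g ⁻¹ᵁ C.U a₀)).hom ((g.app (C.U a₀)).hom (x a₀))) = _ from
        app_comp_congr hig (x a₀) (hUY a₀) le_rfl, hslice, rf_self] at this
      refine this.trans ?_
      erw [map_zero, zero_mul, map_zero]
      exact map_zero _
    rw [h0] at hu
    have := (C'.Y.mem_basicOpen (0 : Γ(C'.Y, gY ⁻¹ᵁ C.i ⁻¹ᵁ C.U a₀)) y₀ hy₀).2 (hu.map _)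
    rw [Scheme.basicOpen_zero] at this
    exact this
  haveI : Surjective g := MorphismProperty.of_isPullback HW.flip (by
    haveI : Subsingleton (Spec (CommRingCat.of κ)) := inferInstanceAs (Subsingleton (PrimeSpectrum κ))
    exact ⟨fun z => ⟨IsLocalRing.closedPoint K, Subsingleton.elim _ _⟩⟩)
  refine ⟨x, fun a => ?_, fun a b => ?_⟩
  · refine RingedSpace.isUnit_of_isUnit_germ C.W.toRingedSpace (U := C.U a) (x a) fun z hz => ?_
    refine (C.W.mem_basicOpen (x a) z hz).1 ?_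
    obtain ⟨z', rfl⟩ := g.surjective z
    show z' ∈ g ⁻¹ᵁ C.W.basicOpen (x a)
    rw [Scheme.preimage_basicOpen]
    have hu : IsUnit ((g.app (C.U a)).hom (x a)) := by
      rw [hgx]
      exact ((isUnit_iff_ne_zero.2 hν : IsUnit (ν : K)).map _).mul (hv a)
    rw [Scheme.basicOpen_of_isUnit _ hu]
    exact hz
  · exact hsec a b

end

end Groth.Agent.Lib.Cube.Descend
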