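import Groth.Agent.Lib.Cube.FamRep
import Mathlib.Algebra.Category.Ring.Constructions

/-!
# Invariant families with coefficients in an algebra are those on the base change
-/

set_option autoImplicit false
set_option linter.style.haveILetI false

universe u

open CategoryTheory CategoryTheory.Limits AlgebraicGeometry TopologicalSpace Opposite
open scoped TensorProduct

namespace Groth.Agent.Lib.Cube.FamFibre

open Groth.Agent.Lib.TensorMod.Dual (rf rf_rf rf_self)
open Groth.Agent.H97.GlueLine (Cocycle)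
open Groth.Agent.Lib.Cube.Triv Groth.Agent.Lib.Cube.Dvr Groth.Agent.Lib.Cube.FamCx
open Groth.Agent.Lib.Cube.AffineBC (str)
open Groth.Agent.Lib.CechRes.Sec (rho)

noncomputable section

attribute [local instance] algV

variable {A : Type u} [CommRing A] {W : Scheme.{u}} [W.Over (Spec (CommRingCat.of A))]
  {K : Type u} [CommRing K] [Algebra A K] {P : Scheme.{u}} {g : P ⟶ W}
  {p' : P ⟶ Spec (CommRingCat.of K)}
  (H : IsPullback g p' (W ↘ Spec (CommRingCat.of A))
    (Spec.map (CommRingCat.ofHom (algebraMap A K))))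

local notation "pW" => (W ↘ Spec (CommRingCat.of A))

include H in
theorem app_rho {V : W.Opens} (hV : IsAffineOpen V) (r : A) :
    (g.app V).hom (rho pW V r) = (str p' (g ⁻¹ᵁ V)).hom (algebraMap A K r) :=
  ConcreteCategory.congr_hom (AffineBC.isPushout H hV).w r

/-- The comparison map on one open. -/
def mu {V : W.Opens} (hV : IsAffineOpen V) : Γ(W, V) ⊗[A] K →+ Γ(P, g ⁻¹ᵁ V) :=
  TensorProduct.liftAddHom
    (AddMonoidHom.mk' (fun a => AddMonoidHom.mk'
        (fun k => (g.app V).hom a * (str p' (g ⁻¹ᵁ V)).hom k) fun k k' => by rw [map_add, mul_add])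
      fun a a' => AddMonoidHom.ext fun k => by
        show (g.app V).hom (a + a') * _ = (g.app V).hom a * _ + (g.app V).hom a' * _
        rw [map_add, add_mul])
    fun r a k => by
      show (g.app V).hom (rho pW V r * a) * (str p' (g ⁻¹ᵁ V)).hom k =
        (g.app V).hom a * (str p' (g ⁻¹ᵁ V)).hom (r • k)
      rw [map_mul, app_rho H hV, Algebra.smul_def, map_mul]
      ring

theorem mu_bijective {V : W.Opens} (hV : IsAffineOpen V) : Function.Bijective (mu H hV) := by
  letI : Algebra Γ(W, V) Γ(P, g ⁻¹ᵁ V) := (g.app V).hom.toAlgebra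
  letI : Algebra K Γ(P, g ⁻¹ᵁ V) := (str p' (g ⁻¹ᵁ V)).hom.toAlgebra
  letI : Algebra A Γ(P, g ⁻¹ᵁ V) := ((g.app V).hom.comp (rho pW V)).toAlgebra
  haveI : IsScalarTower A Γ(W, V) Γ(P, g ⁻¹ᵁ V) := IsScalarTower.of_algebraMap_eq fun _ => rfl
  haveI : IsScalarTower A K Γ(P, g ⁻¹ᵁ V) := IsScalarTower.of_algebraMap_eq fun r => app_rho H hV r
  haveI hp : Algebra.IsPushout A Γ(W, V) K Γ(P, g ⁻¹ᵁ V) :=
    CommRingCat.isPushout_iff_isPushout.1 (AffineBC.isPushout H hV)
  let e := Algebra.IsPushout.equiv A Γ(W, V) K Γ(P, g ⁻¹ᵁ V)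
  have h : ∀ z, mu H hV z = e z := fun z => by
    induction z using TensorProduct.induction_on with
    | zero => rw [map_zero, map_zero]
    | add x y hx hy => rw [map_add, map_add, hx, hy]
    | tmul a k =>
      rw [Algebra.IsPushout.equiv_tmul]
      rfl
  rw [show ⇑(mu H hV) = ⇑e from funext h]
  exact e.bijective

variable {ι : Type u} {U : ι → W.Opens} (c : Cocycle U) [Finite ι]
  (hU : ∀ a, IsAffineOpen (U a))

/-- The family on the base change. -/
def mus (z : (∀ a, Γ(W, U a)) ⊗[A] K) (a : ι) : Γ(P, g ⁻¹ᵁ U a) :=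
  mu H (hU a) ((LinearMap.proj (R := A) (φ := fun a => (Γ(W, U a) : Type u)) a).rTensor K z)

theorem mus_zero : mus H hU 0 = 0 := funext fun a => by
  rw [mus, map_zero, map_zero]
  rfl

theorem mus_add (z z' : (∀ a, Γ(W, U a)) ⊗[A] K) : mus H hU (z + z') = mus H hU z + mus H hU z' :=
  funext fun a => by
    rw [mus, map_add, map_add]
    rfl

theorem mus_tmul (x : ∀ a, Γ(W, U a)) (k : K) (a : ι) :
    mus H hU (x ⊗ₜ k) a = (g.app (U a)).hom (x a) * (str p' (g ⁻¹ᵁ U a)).hom k := rfl

theorem mus_bijective : Function.Bijective (mus H hU) := by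
  classical
  haveI := Fintype.ofFinite ι
  let e := TensorProduct.piLeft A K (fun a => (Γ(W, U a) : Type u))
  have h : ∀ z a, (LinearMap.proj (R := A) (φ := fun a => (Γ(W, U a) : Type u)) a).rTensor K z = e z a :=
    fun z a => by
      induction z using TensorProduct.induction_on with
      | zero => rw [map_zero, map_zero]; rfl
      | add x y hx hy => rw [map_add, map_add, hx, hy]; rfl
      | tmul x k => rfl
  have h' : mus H hU = fun z a => mu H (hU a) (e z a) := funext fun z => funext fun a => by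
    rw [mus, h]
  rw [h']
  exact (Function.Bijective.piMap fun a => mu_bijective H (hU a)).comp e.bijective

theorem str_res {V V' : W.Opens} (h : V' ≤ V) (k : K) :
    rf (pre_mono g h) ((str p' (g ⁻¹ᵁ V)).hom k) = (str p' (g ⁻¹ᵁ V')).hom k :=
  ConcreteCategory.congr_hom (Scheme.Hom.appLE_map p' (V := g ⁻¹ᵁ V) (V' := g ⁻¹ᵁ V') le_top
    (homOfLE (pre_mono g h)).op) ((Scheme.ΓSpecIso (CommRingCat.of K)).inv k)

variable (hU2 : ∀ a b, IsAffineOpen (U a ⊓ U b))

/-- The deviation on the base change. -/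
theorem dev_mus (z : (∀ a, Γ(W, U a)) ⊗[A] K) (a b : ι) :
    mu H (hU2 a b) ((LinearMap.proj (R := A) (φ := fun ab : ι × ι => (Γ(W, U ab.1 ⊓ U ab.2) : Type u))
        (a, b)).rTensor K ((dev (A := A) c).rTensor K z)) =
      (g.app (U a ⊓ U b)).hom (c.u a b) *
          rf (pre_mono g inf_le_right) (mus H hU z b) -
        rf (pre_mono g inf_le_left) (mus H hU z a) := by
  induction z using TensorProduct.induction_on with
  | zero => simp [mus]
  | add x y hx hy =>
    rw [map_add, map_add, map_add, hx, hy, mus_add]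
    simp only [Pi.add_apply, Cech1.rf_add]
    ring
  | tmul x k =>
    show (g.app (U a ⊓ U b)).hom (c.u a b * rf inf_le_right (x b) - rf inf_le_left (x a)) *
      (str p' (g ⁻¹ᵁ (U a ⊓ U b))).hom k = _
    rw [mus_tmul, mus_tmul, Triv.rf_mul, Triv.rf_mul, ← Triv.app_rf g (inf_le_left : U a ⊓ U b ≤ U a) (x a),
      ← Triv.app_rf g (inf_le_right : U a ⊓ U b ≤ U b) (x b),
      str_res (p' := p') (inf_le_left : U a ⊓ U b ≤ U a) k, str_res (p' := p') (inf_le_right : U a ⊓ U b ≤ U b) k,
      map_sub, map_mul]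
    ring

include hU2 in
theorem mem_fam_iff (z : (∀ a, Γ(W, U a)) ⊗[A] K) :
    (dev (A := A) c).rTensor K z = 0 ↔ IsRel (Triv.comap c g) (mus H hU z) := by
  classical
  haveI := Fintype.ofFinite ι
  constructor
  · intro hz a b V ha hb
    have h := dev_mus H c hU hU2 z a b
    rw [hz, map_zero, map_zero, eq_comm, sub_eq_zero] at h
    have hV : V ≤ g ⁻¹ᵁ (U a ⊓ U b) := le_inf ha hb
    have h' := congrArg (rf hV) h.symm
    rw [Triv.rf_mul, rf_rf, rf_rf] at h'
    exact h'
  · intro hr
    apply (TensorProduct.piLeft A K (fun ab : ι × ι => (Γ(W, U ab.1 ⊓ U ab.2) : Type u))).injective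
    rw [map_zero]
    funext ⟨a, b⟩
    have e : TensorProduct.piLeft A K (fun ab : ι × ι => (Γ(W, U ab.1 ⊓ U ab.2) : Type u))
        ((dev (A := A) c).rTensor K z) (a, b) =
        (LinearMap.proj (R := A) (φ := fun ab : ι × ι => (Γ(W, U ab.1 ⊓ U ab.2) : Type u))
          (a, b)).rTensor K ((dev (A := A) c).rTensor K z) := by
      generalize (dev (A := A) c).rTensor K z = w
      induction w using TensorProduct.induction_on with
      | zero => rw [map_zero, map_zero]; rfl
      | add x y hx hy => rw [map_add, map_add, ← hx, ← hy]; rfl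
      | tmul x k => rfl
    rw [e]
    apply (mu_bijective H (hU2 a b)).1
    show mu H (hU2 a b) _ = mu H (hU2 a b) 0
    rw [map_zero, dev_mus H c hU hU2 z a b, sub_eq_zero]
    have h := hr a b (g ⁻¹ᵁ (U a ⊓ U b)) (pre_mono g inf_le_left) (pre_mono g inf_le_right)
    refine Eq.trans ?_ h.symm
    congr 1
    exact (rf_self _ _).symm

end

end Groth.Agent.Lib.Cube.FamFibre
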