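import Groth.Agent.Lib.Cube.SeesawGlobal
import Mathlib.Topology.JacobsonSpace

/-!
# Constant functions on the fibres from constant functions on the closed fibres
-/

set_option autoImplicit false
set_option linter.style.haveILetI false

universe u

open CategoryTheory CategoryTheory.Limits AlgebraicGeometry TopologicalSpace Opposite
open scoped TensorProduct

namespace Groth.Agent.Lib.Cube.FamRank

open Groth.Agent.Lib.TensorMod.Dual (rf rf_rf rf_self)
open Groth.Agent.H97.GlueLine (Cocycle)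
open Groth.Agent.Lib.Cube.Triv Groth.Agent.Lib.Cube.Cech1 Groth.Agent.Lib.Cube.Dvr
open Groth.Agent.Lib.Cube.FamCx Groth.Agent.Lib.Cube.FamRep Groth.Agent.Lib.Cube.FamFibre
open Groth.Agent.Lib.Cube.AffineBC (str)
open Groth.Agent.Lib.Cube.Rigid (rf_one)
open Groth.Agent.Lib.FlatCx.Basic Groth.Agent.Lib.FlatCx.HKer Groth.Agent.Lib.FlatCx.BaseChange

noncomputable section

attribute [local instance] algV

variable {A : Type u} [CommRing A]

/-- Homology of fibre rank at most one is made of proportional classes. -/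
theorem exists_dep (P : ChainComplex (ModuleCat.{u} A) ℤ) (hP : ∀ i, Module.Finite A (P.X i)) (p : ℤ)
    (x : PrimeSpectrum A) (h : CohIII.dRank P p x ≤ 1)
    (v₁ v₂ : CohIII.T P p (ModuleCat.of A x.asIdeal.ResidueField)) :
    ∃ r₁ r₂ : A, (algebraMap A x.asIdeal.ResidueField r₁ ≠ 0 ∨
      algebraMap A x.asIdeal.ResidueField r₂ ≠ 0) ∧ r₁ • v₁ + r₂ • v₂ = 0 := by
  haveI := hP p
  haveI : Module.Finite A (Q P p) := Module.Finite.quotient _ _
  let V := LinearMap.ker ((Dbar P p (p - 1)).baseChange x.asIdeal.ResidueField)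
  haveI : Module.Finite x.asIdeal.ResidueField V := FiniteDimensional.finiteDimensional_submodule _
  have hr : Module.finrank x.asIdeal.ResidueField V ≤ 1 := by
    rw [← SemiCont.dRank_eq P p (p - 1) (by omega) x]; exact h
  let e := SemiCont.bcEquiv P p (p - 1) (by omega) x
  letI : AddCommGroup V := V.addCommGroup
  haveI : Module.Free x.asIdeal.ResidueField V :=
    Module.Free.of_divisionRing (K := x.asIdeal.ResidueField) (V := ↥V)
  obtain ⟨v, hv⟩ := (finrank_le_one_iff (K := x.asIdeal.ResidueField) (V := ↥V)).1 hr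
  obtain ⟨c₁, hc₁⟩ := hv (e.symm v₁)
  obtain ⟨c₂, hc₂⟩ := hv (e.symm v₂)
  suffices h' : ∃ r₁ r₂ : A, (algebraMap A x.asIdeal.ResidueField r₁ ≠ 0 ∨
      algebraMap A x.asIdeal.ResidueField r₂ ≠ 0) ∧ r₁ • e.symm v₁ + r₂ • e.symm v₂ = 0 by
    obtain ⟨r₁, r₂, hne, he⟩ := h'
    exact ⟨r₁, r₂, hne, e.symm.injective (by rw [map_add, map_smul, map_smul, he, map_zero])⟩
  by_cases hz : c₁ = 0
  · refine ⟨1, 0, Or.inl (by rw [map_one]; exact one_ne_zero), ?_⟩
    rw [← hc₁, hz, zero_smul, smul_zero, zero_smul, zero_add]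
  · obtain ⟨a₁, s₁, hs₁, e₁⟩ := IsFractionRing.div_surjective (A ⧸ x.asIdeal) c₁
    obtain ⟨a₂, s₂, hs₂, e₂⟩ := IsFractionRing.div_surjective (A ⧸ x.asIdeal) c₂
    obtain ⟨a₁, rfl⟩ := Ideal.Quotient.mk_surjective a₁
    obtain ⟨s₁, rfl⟩ := Ideal.Quotient.mk_surjective s₁
    obtain ⟨a₂, rfl⟩ := Ideal.Quotient.mk_surjective a₂
    obtain ⟨s₂, rfl⟩ := Ideal.Quotient.mk_surjective s₂
    let ρ := algebraMap A x.asIdeal.ResidueField
    have key : ∀ r : A, algebraMap (A ⧸ x.asIdeal) x.asIdeal.ResidueField (Ideal.Quotient.mk _ r) = ρ r :=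
      fun r => rfl
    have hns : ∀ s : A, Ideal.Quotient.mk x.asIdeal s ∈ nonZeroDivisors (A ⧸ x.asIdeal) → ρ s ≠ 0 :=
      fun s hs => by
        rw [← key]
        exact (map_ne_zero_iff _ (IsFractionRing.injective (A ⧸ x.asIdeal) _)).2
          (nonZeroDivisors.ne_zero hs)
    rw [key, key] at e₁ e₂
    have f₁ := (div_eq_iff (hns _ hs₁)).1 e₁
    have f₂ := (div_eq_iff (hns _ hs₂)).1 e₂
    refine ⟨a₂ * s₁, -(a₁ * s₂), Or.inr ?_, ?_⟩
    · rw [map_neg, neg_ne_zero, map_mul]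
      refine mul_ne_zero ?_ (hns _ hs₂)
      rw [show algebraMap A x.asIdeal.ResidueField a₁ = ρ a₁ from rfl, f₁]
      exact mul_ne_zero hz (hns _ hs₁)
    · rw [← hc₁, ← hc₂, ← algebraMap_smul x.asIdeal.ResidueField (a₂ * s₁),
        ← algebraMap_smul x.asIdeal.ResidueField (-(a₁ * s₂)), smul_smul, smul_smul, ← add_smul]
      convert zero_smul x.asIdeal.ResidueField v
      show ρ (a₂ * s₁) * c₁ + ρ (-(a₁ * s₂)) * c₂ = 0
      rw [map_neg, map_mul, map_mul, f₁, f₂]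
      ring

/-- The trivial cocycle. -/
def oneC {W : Scheme.{u}} {ι : Type u} (U : ι → W.Opens) : Cocycle U where
  u _ _ := 1
  self _ _ _ := rf_one _
  trans _ _ _ _ _ _ _ := by rw [rf_one, rf_one, rf_one, one_mul]

theorem isRel_res {W P : Scheme.{u}} {ι : Type u} {U : ι → W.Opens} (g : P ⟶ W) (w : Γ(P, ⊤)) :
    IsRel (Triv.comap (oneC U) g) fun a => rf (le_top : g ⁻¹ᵁ U a ≤ ⊤) w := fun a b V ha hb => by
  show rf ha (rf le_top w) = rf _ ((g.app (U a ⊓ U b)).hom 1) * rf hb (rf le_top w)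
  rw [map_one, rf_one, one_mul, rf_rf, rf_rf]

variable {W : Scheme.{u}} [W.Over (Spec (CommRingCat.of A))] {ι : Type u} {U : ι → W.Opens}
  [Finite ι] (hU : ∀ a, IsAffineOpen (U a)) (hU2 : ∀ a b, IsAffineOpen (U a ⊓ U b))
  (hUc : iSup U = ⊤)
variable {K : Type u} [Field K] [Algebra A K] {P : Scheme.{u}} {g : P ⟶ W}
  {p' : P ⟶ Spec (CommRingCat.of K)}
  (H : IsPullback g p' (W ↘ Spec (CommRingCat.of A)) (Spec.map (CommRingCat.ofHom (algebraMap A K))))

include hU hU2 hUc H in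
/-- Proportional invariant families of the trivial cocycle mean constant functions. -/
theorem surjective_of_dep [Nonempty P]
    (h : ∀ z₁ z₂ : fam A (oneC U) K, ∃ r₁ r₂ : A,
      (algebraMap A K r₁ ≠ 0 ∨ algebraMap A K r₂ ≠ 0) ∧ r₁ • z₁ + r₂ • z₂ = 0) :
    Function.Surjective p'.appTop.hom := by
  intro w
  obtain ⟨z₁, hz₁⟩ := (mus_bijective H hU).2 fun a => rf (le_top : g ⁻¹ᵁ U a ≤ ⊤) w
  obtain ⟨z₂, hz₂⟩ := (mus_bijective H hU).2 fun a => rf (le_top : g ⁻¹ᵁ U a ≤ ⊤) (1 : Γ(P, ⊤))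
  have m₁ : z₁ ∈ fam A (oneC U) K :=
    (mem_fam_iff H (oneC U) hU hU2 z₁).2 (by rw [hz₁]; exact isRel_res g w)
  have m₂ : z₂ ∈ fam A (oneC U) K :=
    (mem_fam_iff H (oneC U) hU hU2 z₂).2 (by rw [hz₂]; exact isRel_res g 1)
  obtain ⟨r₁, r₂, hne, heq⟩ := h ⟨z₁, m₁⟩ ⟨z₂, m₂⟩
  let k : Γ(P, ⊤) → K → Γ(P, ⊤) := fun t l => p'.appTop.hom ((Scheme.ΓSpecIso (CommRingCat.of K)).inv l) * t
  have hstr : ∀ (a : ι) (l : K), (str p' (g ⁻¹ᵁ U a)).hom l =
      rf le_top (p'.appTop.hom ((Scheme.ΓSpecIso (CommRingCat.of K)).inv l)) := fun a l => by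
    simp only [AffineBC.str, Scheme.Hom.appLE, CommRingCat.comp_apply]
    rfl
  have hglob : k w (algebraMap A K r₁) + k 1 (algebraMap A K r₂) = 0 := by
    have hUc' : iSup (fun a => g ⁻¹ᵁ U a) = ⊤ := by
      rw [← Scheme.Hom.preimage_iSup, hUc]; rfl
    refine fun_ext (fun a => g ⁻¹ᵁ U a) hUc'.ge fun a B hB ha => ?_
    have h0 : mus H hU (r₁ • z₁ + r₂ • z₂) a = 0 := by
      rw [show r₁ • z₁ + r₂ • z₂ = 0 from congrArg Subtype.val heq, mus_zero]
      rfl
    rw [mus_add, Pi.add_apply, Seesaw.mus_smul, Seesaw.mus_smul, hz₁, hz₂] at h0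
    have h1 := congrArg (rf ha) h0
    simp only [hstr, Cech1.rf_add, Triv.rf_mul, rf_rf] at h1
    simp only [k, Cech1.rf_add, Triv.rf_mul]
    refine (h1.trans ?_).trans (map_zero _).symm
    exact map_zero _
  have hbij : Function.Injective fun l : K => p'.appTop.hom ((Scheme.ΓSpecIso (CommRingCat.of K)).inv l) := by
    haveI : Nonempty ((⊤ : P.Opens) : Set P) := ⟨⟨Classical.arbitrary P, trivial⟩⟩
    exact (p'.appTop.hom.comp (Scheme.ΓSpecIso (CommRingCat.of K)).inv.hom).injective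
  simp only [k, mul_one] at hglob
  by_cases h1 : algebraMap A K r₁ = 0
  · exfalso
    rw [h1, map_zero, map_zero, zero_mul, zero_add] at hglob
    exact (hne.resolve_left (by simp [h1])) (hbij (hglob.trans (by simp)))
  · refine ⟨(Scheme.ΓSpecIso (CommRingCat.of K)).inv (-(algebraMap A K r₂) / algebraMap A K r₁), ?_⟩
    set F := p'.appTop.hom.comp (Scheme.ΓSpecIso (CommRingCat.of K)).inv.hom
    show F (-(algebraMap A K r₂) / algebraMap A K r₁) = w
    change F (algebraMap A K r₁) * w + F (algebraMap A K r₂) = 0 at hglob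
    have h2 : F (algebraMap A K r₁)⁻¹ * F (algebraMap A K r₁) = 1 := by
      rw [← map_mul, inv_mul_cancel₀ h1, map_one]
    rw [div_eq_mul_inv, map_mul, map_neg]
    linear_combination -(F (algebraMap A K r₁)⁻¹) * hglob + w * h2

omit [Finite ι]

/-- Surjectivity on global functions transported along isomorphisms. -/
theorem surjective_appTop_of_comp {P Q T T' : Scheme.{u}} (t : P ⟶ Q) [IsIso t] (j : T ⟶ T') [IsIso j]
    (q : Q ⟶ T') (p : P ⟶ T) (h : t ≫ q = p ≫ j) (hp : Function.Surjective p.appTop.hom) :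
    Function.Surjective q.appTop.hom := by
  have e : q = inv t ≫ p ≫ j := by rw [← h, IsIso.inv_hom_id_assoc]
  rw [e, Scheme.Hom.comp_appTop, Scheme.Hom.comp_appTop]
  haveI : IsIso j.appTop := inferInstanceAs (IsIso (Scheme.Γ.map j.op))
  haveI : IsIso (inv t).appTop := inferInstanceAs (IsIso (Scheme.Γ.map (inv t).op))
  exact ((ConcreteCategory.bijective_of_isIso (inv t).appTop).2.comp hp).comp
    (ConcreteCategory.bijective_of_isIso j.appTop).2

/-- The points whose fibre has only constant functions form an open set. -/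
theorem isOpen_surjective_fibre {X Y : Scheme.{u}} (f : X ⟶ Y) [IsProper f] [Flat f]
    [IsLocallyNoetherian Y] (hne : ∀ y : Y, Nonempty (f.fiber y)) :
    IsOpen {y : Y | Function.Surjective (f.fiberToSpecResidueField y).appTop.hom} := by
  rw [isOpen_iff_forall_mem_open]
  intro y hy
  obtain ⟨_, ⟨V₀, hV₀, rfl⟩, hyV₀, -⟩ := Y.isBasis_affineOpens.exists_subset_of_mem_open
    (Set.mem_univ y) isOpen_univ
  let φ : Spec (CommRingCat.of Γ(Y, V₀)) ⟶ Y := hV₀.fromSpec
  haveI : IsOpenImmersion φ := hV₀.isOpenImmersion_fromSpec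
  haveI : IsNoetherianRing Γ(Y, V₀) := IsLocallyNoetherian.component_noetherian ⟨V₀, hV₀⟩
  haveI : IsProper (pullback f φ ↘ Spec (CommRingCat.of Γ(Y, V₀))) :=
    inferInstanceAs (IsProper (pullback.snd f φ))
  haveI : Flat (pullback f φ ↘ Spec (CommRingCat.of Γ(Y, V₀))) :=
    inferInstanceAs (Flat (pullback.snd f φ))
  obtain ⟨ι', _, -, U', hU', hUc', -⟩ := SeesawGlobal.exists_finite_cover f φ (U := fun _ : PUnit.{u + 1} => (⊤ : X.Opens))
    (top_unique fun z _ => Opens.mem_iSup.2 ⟨⟨⟩, trivial⟩)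
  have hU2 := Seesaw.isAffineOpen_inf Γ(Y, V₀) hU'
  obtain ⟨Q, hQ, he, -⟩ := exists_famRep (A := Γ(Y, V₀)) (oneC U') hU' hUc'
  have hbase : ∀ x : PrimeSpectrum Γ(Y, V₀), Nonempty (pullback (pullback f φ ↘ Spec (CommRingCat.of Γ(Y, V₀)))
      (Spec.map (CommRingCat.ofHom (algebraMap Γ(Y, V₀) x.asIdeal.ResidueField))) :) := fun x =>
    ⟨inv (SeesawGlobal.toFiber f φ x) (hne (φ x)).some⟩
  refine ⟨φ '' {x | CohIII.dRank Q 0 x < 2}, ?_, φ.isOpenEmbedding.isOpenMap _
    ((FlatCx.DRank.upperSemicontinuous_dRank Q hQ 0).isOpen_preimage 2), ?_⟩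
  · rintro _ ⟨x, hx, rfl⟩
    haveI := hbase x
    have hs := surjective_of_dep (A := Γ(Y, V₀)) hU' hU2 hUc'
      (K := x.asIdeal.ResidueField) (IsPullback.of_hasPullback _ _) fun z₁ z₂ => by
        obtain ⟨e⟩ := he (ModuleCat.of Γ(Y, V₀) x.asIdeal.ResidueField)
        obtain ⟨r₁, r₂, hne', hsum⟩ := exists_dep Q (fun i => (hQ i).1) 0 x
          (Nat.lt_succ_iff.1 hx) (e.symm z₁) (e.symm z₂)
        exact ⟨r₁, r₂, hne', e.symm.injective (by rw [map_add, map_smul, map_smul, hsum, map_zero])⟩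
    exact surjective_appTop_of_comp (SeesawGlobal.toFiber f φ x) (SeesawGlobal.jHom φ x) _ _
      (SeesawGlobal.toFiber_toSpec f φ x) hs
  · obtain ⟨x, rfl⟩ : y ∈ Set.range φ := by
      show y ∈ Set.range hV₀.fromSpec
      rw [hV₀.range_fromSpec]
      exact hyV₀
    refine ⟨x, ?_, rfl⟩
    obtain ⟨e⟩ := he (ModuleCat.of Γ(Y, V₀) x.asIdeal.ResidueField)
    haveI := hne (φ x)
    obtain ⟨l⟩ := Seesaw.nonempty_lineEquiv (oneC U') hU' hU2 (IsPullback.of_hasPullback _ _)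
      (SeesawGlobal.bijective_fibBase f φ x (SeesawGlobal.bijective_appTop_of_surjective _ hy)) hUc'
      ⟨fun _ => 1, fun _ => isUnit_one, fun a b => by
        simp only [oneC, map_one, rf_one, one_mul]
        ⟩
    show CohIII.dRank Q 0 x < 2
    rw [SemiCont.dRank_eq_one Q 0 x (e.trans l.symm)]
    exact one_lt_two

/-- Constant functions on closed fibres give constant functions on all fibres over a Jacobson base. -/
theorem h0_of_closed_fibres {X Y : Scheme.{u}} (f : X ⟶ Y) [IsProper f] [Flat f]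
    [IsLocallyNoetherian Y] [JacobsonSpace Y] (hne : ∀ y : Y, Nonempty (f.fiber y))
    (hcl : ∀ y : Y, IsClosed ({y} : Set Y) →
      Function.Surjective (f.fiberToSpecResidueField y).appTop.hom) :
    H2.Rigid.H0 f := by
  intro y
  by_contra hy
  obtain ⟨z, hz, hzc⟩ := nonempty_inter_closedPoints (Z := {y : Y | Function.Surjective (f.fiberToSpecResidueField y).appTop.hom}ᶜ)
    ⟨y, hy⟩ (isOpen_surjective_fibre f hne).isClosed_compl.isLocallyClosed
  exact hz (hcl z hzc)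

end

end Groth.Agent.Lib.Cube.FamRank
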