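import Groth.Agent.Lib.Cube.FamCx

/-!
# A complex of finite free modules computing invariant families
-/

set_option autoImplicit false
set_option linter.style.haveILetI false

universe u

open CategoryTheory CategoryTheory.Limits AlgebraicGeometry TopologicalSpace Opposite
open scoped TensorProduct

namespace Groth.Agent.Lib.Cube.FamRep

open Groth.Agent.H97.GlueLine
open Groth.Agent.Lib.Cube.FamCx
open _root_.ZarCoh.Exchange.Complex _root_.ZarCoh.Exchange.Compare _root_.ZarCoh.Exchange.Sections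
open Groth.Agent.Lib.Cech.Complex (inter)

noncomputable section

attribute [local instance] algV

variable {A : Type u} [CommRing A] {W : Scheme.{u}} [W.Over (Spec (CommRingCat.of A))]
  {ι : Type u} {U : ι → W.Opens} (c : Cocycle U)

local notation "pW" => (W ↘ Spec (CommRingCat.of A))

variable (A) in
/-- Invariant families with coefficients. -/
abbrev fam (M : Type u) [AddCommGroup M] [Module A M] : Submodule A ((∀ a, Γ(W, U a)) ⊗[A] M) :=
  LinearMap.ker ((dev (A := A) c).rTensor M)

/-- Cochains and families with coefficients. -/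
def eC (M : Type u) [AddCommGroup M] [Module A M] :
    (∀ a, Γ(W, U a)) ⊗[A] M ≃ₗ[A] CM A U (glue c) 0 ⊗[A] M :=
  (LinearEquiv.ofBijective _ (toC0_bijective (A := A) c)).rTensor M

/-- The class of an invariant family. -/
def famToT (M : ModuleCat.{u} A) :
    fam A c M →ₗ[A] CohIII.T (C A U (glue c)) ((0 : ℕ) : ℤ) M :=
  FlatCx.Elem.cls (K := K A U (glue c) M) (next_eq 0) ∘ₗ
    LinearMap.codRestrict _ ((eC c M).toLinearMap ∘ₗ (fam A c M).subtype) fun z => by
      show ((K A U (glue c) M).d ((0 : ℕ) : ℤ) ((0 + 1 : ℕ) : ℤ)).hom (eC c M z.1) = 0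
      rw [K_d]
      exact (ker_dev_iff (A := A) c z.1).2 z.2

theorem famToT_bijective (M : ModuleCat.{u} A) : Function.Bijective (famToT c M) := by
  constructor
  · rw [injective_iff_map_eq_zero]
    intro z hz
    have h := (FlatCx.Elem.cls_eq_zero_iff (K := K A U (glue c) M) prev_zero (next_eq 0) _).1 hz
    obtain ⟨y, hy⟩ := h
    haveI : Subsingleton ((K A U (glue c) M).X (Int.negSucc 0)) :=
      ModuleCat.subsingleton_of_isZero ((MonoidalCategory.tensorRight M).map_isZero
        (isZero_C A U (glue c) _ (Int.negSucc_lt_zero 0)))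
    rw [Subsingleton.elim y 0, map_zero] at hy
    exact Subtype.ext ((eC c M).injective (hy.symm.trans (map_zero _).symm))
  · intro x
    obtain ⟨w, rfl⟩ := FlatCx.Elem.cls_surjective (K := K A U (glue c) M) (next_eq 0) x
    have hw : (dA A U (glue c) 0).rTensor M w.1 = 0 := (K_d A U (glue c) M 0 w.1).symm.trans w.2
    have he : eC c M ((eC c M).symm w.1) = w.1 := (eC c M).apply_symm_apply w.1
    refine ⟨⟨(eC c M).symm w.1, (ker_dev_iff (A := A) c _).1 ?_⟩, ?_⟩
    · show (dA A U (glue c) 0).rTensor M (eC c M ((eC c M).symm w.1)) = 0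
      rw [he, hw]
    · exact congrArg (FlatCx.Elem.cls (K := K A U (glue c) M) (next_eq 0)) (Subtype.ext he)

theorem eC_lTensor {M N : ModuleCat.{u} A} (g : M ⟶ N) (z : (∀ a, Γ(W, U a)) ⊗[A] M) :
    (g.hom.lTensor _) (eC c M z) = eC c N (g.hom.lTensor _ z) := by
  show (g.hom.lTensor _ ∘ₗ (toC0 (A := A) c).rTensor M) z =
    ((toC0 (A := A) c).rTensor N ∘ₗ g.hom.lTensor _) z
  rw [LinearMap.lTensor_comp_rTensor, LinearMap.rTensor_comp_lTensor]

theorem exists_lift {M N : ModuleCat.{u} A} (g : M ⟶ N)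
    (hg : Function.Surjective ((CohIII.TFun (C A U (glue c)) ((0 : ℕ) : ℤ)).map g).hom)
    (z : (∀ a, Γ(W, U a)) ⊗[A] N) (hz : (dev (A := A) c).rTensor N z = 0) :
    ∃ w, (dev (A := A) c).rTensor M w = 0 ∧ g.hom.lTensor _ w = z := by
  obtain ⟨t, ht⟩ := hg (famToT c N ⟨z, hz⟩)
  obtain ⟨w, rfl⟩ := (famToT_bijective c M).2 t
  have hw : (dev (A := A) c).rTensor N (g.hom.lTensor _ w.1) = 0 := by
    rw [← LinearMap.comp_apply, LinearMap.rTensor_comp_lTensor, ← LinearMap.lTensor_comp_rTensor,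
      LinearMap.comp_apply, show (dev (A := A) c).rTensor M w.1 = 0 from w.2, map_zero]
  have h : (CohIII.TFun (C A U (glue c)) ((0 : ℕ) : ℤ)).map g (famToT c M w) =
      famToT c N ⟨g.hom.lTensor _ w.1, hw⟩ := by
    refine FlatCx.Elem.homologyMap_cls (CohIII.tensorMap (C A U (glue c)) g) (next_eq 0) _ _ ?_
    exact eC_lTensor c g w.1
  exact ⟨w.1, w.2, congrArg Subtype.val ((famToT_bijective c N).1 (h.symm.trans ht))⟩

/-- Invariant families are the degree zero homology of a complex of finite free modules. -/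
theorem exists_famRep [IsNoetherianRing A] [IsProper pW] [Flat pW] [Finite ι]
    (hU : ∀ a, IsAffineOpen (U a)) (hUc : iSup U = ⊤) :
    ∃ P : ChainComplex (ModuleCat.{u} A) ℤ, (∀ i, Module.Finite A (P.X i) ∧ Module.Flat A (P.X i)) ∧
      (∀ M : ModuleCat.{u} A, Nonempty (CohIII.T P 0 M ≃ₗ[A] fam A c M)) ∧
      ((CohIII.TFun P 0).PreservesEpimorphisms → ∀ {M N : ModuleCat.{u} A} (g : M ⟶ N),
        Function.Surjective g.hom → ∀ z : (∀ a, Γ(W, U a)) ⊗[A] N,
          (dev (A := A) c).rTensor N z = 0 →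
            ∃ w, (dev (A := A) c).rTensor M w = 0 ∧ g.hom.lTensor _ w = z) := by
  have hcoh : Coh.IsCoh (glue c) :=
    haveI : IsLocallyNoetherian W := LocallyOfFiniteType.isLocallyNoetherian pW
    Ample.GG.isCoh_of_isInvertible (isInvertible_glue c hUc)
  haveI : (glue c).IsQuasicoherent := hcoh.1
  have hfl : FlatMod.IsFlatOver pW (glue c) := isFlatOver_of_isInvertible pW (isInvertible_glue c hUc)
  have hrep := _root_.ZarCoh.Exchange.Proper.exists_rep A (glue c) hcoh hfl
  obtain ⟨b, P, -, hPf, hPF, -, hP⟩ := hrep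
  haveI : W.IsSeparated := ⟨by rw [← terminal.comp_from pW]; infer_instance⟩
  have hUi : ∀ {q : ℕ} (i : Fin (q + 1) → ι), IsAffineOpen (inter U i) := fun i =>
    IsAffineOpen.iInf fun a => hU (i a)
  obtain ⟨eP⟩ := hP 0
  obtain ⟨eC'⟩ := nonempty_natIso A U (glue c) hUi hUc 0
  refine ⟨P, fun i => ⟨hPf i, haveI := hPF i; inferInstance⟩, fun M => ⟨?_⟩, fun hT {M N} g hg z hz => ?_⟩
  · exact ((_root_.ZarCoh.Exchange.Main.linearEquivApp A (glue c) eP M).trans
      (_root_.ZarCoh.Exchange.Main.linearEquivApp A (glue c) eC' M).symm).trans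
        (LinearEquiv.ofBijective _ (famToT_bijective c M)).symm
  · haveI := hT
    haveI : Epi g := (ModuleCat.epi_iff_surjective g).2 hg
    have h1 : Function.Surjective ((CohIII.TFun P (-((0 : ℕ) : ℤ))).map g).hom :=
      (ModuleCat.epi_iff_surjective _).1 ((CohIII.TFun P 0).map_epi g)
    exact exists_lift c g ((_root_.ZarCoh.Exchange.Proper.surjective_map_iff eC' g).1
      ((_root_.ZarCoh.Exchange.Proper.surjective_map_iff eP g).2 h1)) z hz

end

end Groth.Agent.Lib.Cube.FamRep
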