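import Groth.Agent.Lib.Cube.AffineBC
import Mathlib.Algebra.Category.Ring.Constructions
import Mathlib.RingTheory.TensorProduct.Maps
import Mathlib.LinearAlgebra.TensorProduct.Pi

/-!
# Functions on a product over a field as tensor products
-/

set_option autoImplicit false

universe u

open CategoryTheory CategoryTheory.Limits AlgebraicGeometry TopologicalSpace
open scoped TensorProduct

namespace Groth.Agent.Lib.Cube.Tensor

open Groth.Agent.Lib.Cube.AffineBC (str)

noncomputable section

variable {k : Type u} [Field k] {X Y W : Scheme.{u}}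

/-- Functions on an open of a scheme over `k`, as a `k`-algebra. -/
def Fn (_p : X ⟶ Spec (CommRingCat.of k)) (A : X.Opens) : Type u := Γ(X, A)

instance (p : X ⟶ Spec (CommRingCat.of k)) (A : X.Opens) : CommRing (Fn p A) :=
  inferInstanceAs (CommRing Γ(X, A))

instance (p : X ⟶ Spec (CommRingCat.of k)) (A : X.Opens) : Algebra k (Fn p A) :=
  (show k →+* Fn p A from (str p A).hom).toAlgebra

theorem algebraMap_eq (p : X ⟶ Spec (CommRingCat.of k)) (A : X.Opens) (r : k) :
    algebraMap k (Fn p A) r = (str p A).hom r := rfl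

/-- Inverse image of functions, as an algebra map. -/
def pullA {p : X ⟶ Spec (CommRingCat.of k)} {q : W ⟶ Spec (CommRingCat.of k)} (f : W ⟶ X)
    (hq : f ≫ p = q) {A : X.Opens} {P : W.Opens} (h : P ≤ f ⁻¹ᵁ A) : Fn p A →ₐ[k] Fn q P :=
  { (show Fn p A →+* Fn q P from (f.appLE A P h).hom) with
    commutes' := fun r => by
      have e : str p A ≫ f.appLE A P h = str q P := by
        simp only [AffineBC.str, Category.assoc, Scheme.Hom.appLE_comp_appLE, hq]
      exact ConcreteCategory.congr_hom e r }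

theorem pullA_apply {p : X ⟶ Spec (CommRingCat.of k)} {q : W ⟶ Spec (CommRingCat.of k)} (f : W ⟶ X)
    (hq : f ≫ p = q) {A : X.Opens} {P : W.Opens} (h : P ≤ f ⁻¹ᵁ A) (a : Γ(X, A)) :
    pullA f hq h (show Fn p A from a) = (f.appLE A P h).hom a := rfl

/-- Restriction of functions. -/
def resA (p : X ⟶ Spec (CommRingCat.of k)) {A B : X.Opens} (h : B ≤ A) : Fn p A →ₐ[k] Fn p B :=
  { (show Fn p A →+* Fn p B from (X.presheaf.map (homOfLE h).op).hom) with
    commutes' := fun r => by
      have e : str p A ≫ X.presheaf.map (homOfLE h).op = str p B := by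
        simp only [AffineBC.str, Category.assoc, Scheme.Hom.appLE_map]
      exact ConcreteCategory.congr_hom e r }

theorem resA_apply (p : X ⟶ Spec (CommRingCat.of k)) {A B : X.Opens} (h : B ≤ A) (a : Γ(X, A)) :
    resA p h (show Fn p A from a) = (X.presheaf.map (homOfLE h).op).hom a := rfl

variable {px : X ⟶ Spec (CommRingCat.of k)} {py : Y ⟶ Spec (CommRingCat.of k)} {fx : W ⟶ X} {fy : W ⟶ Y}

/-- `a ⊗ b ↦ a b` on a product. -/
def mul (H : IsPullback fx fy px py) {A : X.Opens} {B : Y.Opens} {P : W.Opens}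
    (hA : P ≤ fx ⁻¹ᵁ A) (hB : P ≤ fy ⁻¹ᵁ B) : Fn px A ⊗[k] Fn py B →ₐ[k] Fn (fx ≫ px) P :=
  Algebra.TensorProduct.productMap (pullA fx rfl hA) (pullA fy H.w.symm hB)

variable (H : IsPullback fx fy px py)

theorem mul_tmul {A : X.Opens} {B : Y.Opens} {P : W.Opens} (hA : P ≤ fx ⁻¹ᵁ A) (hB : P ≤ fy ⁻¹ᵁ B)
    (a : Fn px A) (b : Fn py B) :
    mul H hA hB (a ⊗ₜ b) = pullA fx rfl hA a * pullA fy H.w.symm hB b :=
  Algebra.TensorProduct.productMap_apply_tmul ..

theorem res_mul {A A' : X.Opens} {B B' : Y.Opens} {P P' : W.Opens} (hA : P ≤ fx ⁻¹ᵁ A)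
    (hB : P ≤ fy ⁻¹ᵁ B) (hA' : P' ≤ fx ⁻¹ᵁ A') (hB' : P' ≤ fy ⁻¹ᵁ B') (hP : P' ≤ P) (a : A' ≤ A)
    (b : B' ≤ B) (t : Fn px A ⊗[k] Fn py B) :
    resA (fx ≫ px) hP (mul H hA hB t) =
      mul H hA' hB' (TensorProduct.map (resA px a).toLinearMap (resA py b).toLinearMap t) := by
  induction t using TensorProduct.induction_on with
  | zero => simp
  | add s t hs ht => simp [hs, ht]
  | tmul s t =>
    rw [TensorProduct.map_tmul, mul_tmul, mul_tmul, map_mul]
    have ex : fx.appLE A P hA ≫ W.presheaf.map (homOfLE hP).op =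
        X.presheaf.map (homOfLE a).op ≫ fx.appLE A' P' hA' := by
      rw [Scheme.Hom.appLE_map, Scheme.Hom.map_appLE]
    have ey : fy.appLE B P hB ≫ W.presheaf.map (homOfLE hP).op =
        Y.presheaf.map (homOfLE b).op ≫ fy.appLE B' P' hB' := by
      rw [Scheme.Hom.appLE_map, Scheme.Hom.map_appLE]
    exact congrArg₂ (· * ·) (ConcreteCategory.congr_hom ex s) (ConcreteCategory.congr_hom ey t)

include H in
theorem isAffineOpen_prod {A : X.Opens} (hA : IsAffineOpen A) {B : Y.Opens} (hB : IsAffineOpen B) :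
    IsAffineOpen (fx ⁻¹ᵁ A ⊓ fy ⁻¹ᵁ B) := by
  have : IsAffine _ := hA
  have : IsAffine _ := hB
  have : IsAffine _ := isAffineOpen_top (Spec (CommRingCat.of k))
  exact .of_isIso (Scheme.Hom.isPullback_resLE H (US := ⊤) (UT := B) (UX := A) le_top le_top
    (UY := fx ⁻¹ᵁ A ⊓ fy ⁻¹ᵁ B) rfl).isoPullback.hom

/-- Functions on a product of affine opens are the tensor product. -/
theorem mul_bijective {A : X.Opens} (hA : IsAffineOpen A) {B : Y.Opens} (hB : IsAffineOpen B)
    {P : W.Opens} (hP : P = fx ⁻¹ᵁ A ⊓ fy ⁻¹ᵁ B) :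
    Function.Bijective (mul H (hP.trans_le inf_le_left) (hP.trans_le inf_le_right) :
      Fn px A ⊗[k] Fn py B → Fn (fx ≫ px) P) := by
  have h := (isIso_pushoutSection_iff H (US := (⊤ : (Spec (CommRingCat.of k)).Opens)) (UT := B)
    (UX := A) (UY := P) le_top le_top hP).1
      (isIso_pushoutSection_of_isAffineOpen H le_top le_top hP (isAffineOpen_top _) hB hA)
  have h' : IsPushout (str px A) (str py B) (fx.appLE A P (hP.trans_le inf_le_left))
      (fy.appLE B P (hP.trans_le inf_le_right)) :=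
    h.of_iso (Scheme.ΓSpecIso _) (Iso.refl _) (Iso.refl _) (Iso.refl _) (by simp [AffineBC.str])
      (by simp [AffineBC.str]) (by simp) (by simp)
  have hT := CommRingCat.isPushout_tensorProduct k (Fn px A) (Fn py B)
  let e := hT.isoIsPushout _ _ h'
  have he : ∀ t, e.hom.hom t = mul H (hP.trans_le inf_le_left) (hP.trans_le inf_le_right) t := by
    intro t
    induction t using TensorProduct.induction_on with
    | zero => exact (map_zero e.hom.hom).trans (map_zero (mul H _ _)).symm
    | add s t hs ht =>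
      exact (map_add e.hom.hom s t).trans ((congrArg₂ (· + ·) hs ht).trans (map_add (mul H _ _) s t).symm)
    | tmul a b =>
      rw [mul_tmul]
      have e1 : (a ⊗ₜ b : Fn px A ⊗[k] Fn py B) = (a ⊗ₜ 1) * (1 ⊗ₜ b) := by simp
      rw [e1, map_mul]
      exact congrArg₂ (· * ·) (ConcreteCategory.congr_hom (hT.inl_isoIsPushout_hom _ _ h') a)
        (ConcreteCategory.congr_hom (hT.inr_isoIsPushout_hom _ _ h') b)
  have hb : Function.Bijective e.hom.hom := ConcreteCategory.bijective_of_isIso e.hom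
  exact (funext he : (fun t => e.hom.hom t) = _) ▸ hb

end

end Groth.Agent.Lib.Cube.Tensor
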