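import Groth.Agent.Lib.Cube.Cech1
import Groth.Agent.Lib.Cube.Tensor
import Groth.Agent.H2.Rigid.Push
import Mathlib.LinearAlgebra.Projection

/-!
# First cohomology of a product over a field

A class in `H¹(X ×_k Y, O)` vanishing on `X × y₀` and on `x₀ × Y` is zero, when `X` and `Y` are
proper with only constant functions: stated for cocycles.
-/

set_option autoImplicit false

universe u

open CategoryTheory CategoryTheory.Limits AlgebraicGeometry TopologicalSpace
open scoped TensorProduct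

namespace Groth.Agent.Lib.Cube.H1Prod

open Groth.Agent.Lib.Cube.Tensor Groth.Agent.Lib.Cube.Cech1 Groth.Agent.Lib.TensorMod.Dual
open Groth.Agent.Lib.Cube.Triv (app_rf pre_mono)

noncomputable section

section Linear

variable {k : Type u} [Field k] {X : Scheme.{u}} (px : X ⟶ Spec (CommRingCat.of k)) {α : Type u}
  (A : α → X.Opens)

/-- Zero-cochains on the first factor. -/
abbrev K0 : Type u := ∀ a, Fn px (A a)

/-- One-cochains on the first factor. -/
abbrev K1 : Type u := ∀ q : α × α, Fn px (A q.1 ⊓ A q.2)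

/-- The differential. -/
def dK : K0 px A →ₗ[k] K1 px A :=
  LinearMap.pi fun q => (resA px inf_le_left).toLinearMap ∘ₗ LinearMap.proj q.1 -
    (resA px inf_le_right).toLinearMap ∘ₗ LinearMap.proj q.2

/-- A quasi-inverse of a linear map between vector spaces. -/
theorem exists_quasiInverse {M N : Type u} [AddCommGroup M] [AddCommGroup N] [Module k M] [Module k N]
    (d : M →ₗ[k] N) : ∃ θ : N →ₗ[k] M, d ∘ₗ θ ∘ₗ d = d := by
  obtain ⟨s, hs⟩ := LinearMap.exists_rightInverse_of_surjective d.rangeRestrict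
    d.range_rangeRestrict
  obtain ⟨π, hπ⟩ := LinearMap.exists_extend (LinearMap.id : LinearMap.range d →ₗ[k] LinearMap.range d)
  refine ⟨s ∘ₗ π, LinearMap.ext fun m => ?_⟩
  have h1 : π (d m) = d.rangeRestrict m := LinearMap.congr_fun hπ (d.rangeRestrict m)
  have h2 := congrArg Subtype.val (LinearMap.congr_fun hs (d.rangeRestrict m))
  simpa [h1] using h2

variable {M : Type u} [AddCommGroup M] [Module k M]

/-- A component of a tensor of one-cochains. -/
def comp1 (q : α × α) : K1 px A ⊗[k] M →ₗ[k] Fn px (A q.1 ⊓ A q.2) ⊗[k] M :=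
  TensorProduct.map (LinearMap.proj q) LinearMap.id

/-- A component of a tensor of zero-cochains. -/
def comp0 (a : α) : K0 px A ⊗[k] M →ₗ[k] Fn px (A a) ⊗[k] M :=
  TensorProduct.map (LinearMap.proj a) LinearMap.id

theorem exists_comp1 [_root_.Finite α] (g : ∀ q : α × α, Fn px (A q.1 ⊓ A q.2) ⊗[k] M) :
    ∃ t, ∀ q, comp1 px A q t = g q := by
  classical
  have := Fintype.ofFinite α
  refine ⟨∑ q, TensorProduct.map (LinearMap.single k _ q) LinearMap.id (g q), fun q => ?_⟩
  rw [map_sum, Finset.sum_eq_single q]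
  · rw [comp1, ← LinearMap.comp_apply, ← TensorProduct.map_comp, LinearMap.proj_comp_single_same,
      LinearMap.id_comp, TensorProduct.map_id, LinearMap.id_apply]
  · intro b _ hb
    rw [comp1, ← LinearMap.comp_apply, ← TensorProduct.map_comp, LinearMap.proj_comp_single_ne k _ _ _ (Ne.symm hb),
      TensorProduct.map_zero_left, LinearMap.zero_apply]
  · simp

theorem exists_comp0 [_root_.Finite α] (g : ∀ a : α, Fn px (A a) ⊗[k] M) :
    ∃ t, ∀ a, comp0 px A a t = g a := by
  classical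
  have := Fintype.ofFinite α
  refine ⟨∑ q, TensorProduct.map (LinearMap.single k _ q) LinearMap.id (g q), fun q => ?_⟩
  rw [map_sum, Finset.sum_eq_single q]
  · rw [comp0, ← LinearMap.comp_apply, ← TensorProduct.map_comp, LinearMap.proj_comp_single_same,
      LinearMap.id_comp, TensorProduct.map_id, LinearMap.id_apply]
  · intro b _ hb
    rw [comp0, ← LinearMap.comp_apply, ← TensorProduct.map_comp, LinearMap.proj_comp_single_ne k _ _ _ (Ne.symm hb),
      TensorProduct.map_zero_left, LinearMap.zero_apply]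
  · simp

theorem ext_comp1 [_root_.Finite α] {s t : K1 px A ⊗[k] M}
    (h : ∀ q, comp1 px A q s = comp1 px A q t) : s = t := by
  classical
  have := Fintype.ofFinite α
  have key : ∀ z : K1 px A ⊗[k] M,
      z = ∑ q, TensorProduct.map (LinearMap.single k _ q) LinearMap.id (comp1 px A q z) := fun z => by
    induction z using TensorProduct.induction_on with
    | zero => simp
    | add a b ha hb => simp only [map_add, Finset.sum_add_distrib, ← ha, ← hb]
    | tmul a b =>
      simp only [comp1, TensorProduct.map_tmul, LinearMap.proj_apply, LinearMap.id_apply,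
        ← TensorProduct.sum_tmul]
      exact congrArg (· ⊗ₜ b) (Finset.univ_sum_single a).symm
  rw [key s, key t]
  exact Finset.sum_congr rfl fun q _ => by rw [h q]

theorem comp1_dK (q : α × α) (t : K0 px A ⊗[k] M) :
    comp1 px A q (TensorProduct.map (dK px A) LinearMap.id t) =
      TensorProduct.map (resA px inf_le_left).toLinearMap LinearMap.id (comp0 px A q.1 t) -
        TensorProduct.map (resA px inf_le_right).toLinearMap LinearMap.id (comp0 px A q.2 t) := by
  induction t using TensorProduct.induction_on with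
  | zero => simp
  | add a b ha hb => simp only [map_add, ha, hb]; abel
  | tmul a b => simp [comp1, comp0, dK, TensorProduct.sub_tmul]

end Linear

variable {k : Type u} [Field k] {X Y W : Scheme.{u}} {px : X ⟶ Spec (CommRingCat.of k)}
  {py : Y ⟶ Spec (CommRingCat.of k)} {fx : W ⟶ X} {fy : W ⟶ Y} (H : IsPullback fx fy px py)

theorem appLE_of_eq {Z : Scheme.{u}} {f : Z ⟶ Z} (hf : f = 𝟙 Z) {A : Z.Opens} (h : A ≤ f ⁻¹ᵁ A) :
    f.appLE A A h = 𝟙 _ := by
  subst hf
  rw [Scheme.Hom.appLE]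
  exact (Category.id_comp _).trans (Z.presheaf.map_id _)

/-- Evaluation at a rational point lying in the open. -/
def ev (y₀ : Spec (CommRingCat.of k) ⟶ Y) (hy : y₀ ≫ py = 𝟙 _) {B : Y.Opens} (hB : (⊤ : (Spec (CommRingCat.of k)).Opens) ≤ y₀ ⁻¹ᵁ B) :
    Fn py B →ₗ[k] k :=
  AlgHom.toLinearMap
  { (show Fn py B →+* k from (y₀.appLE B ⊤ hB ≫ (Scheme.ΓSpecIso _).hom).hom) with
    commutes' := fun r => by
      have e : AffineBC.str py B ≫ y₀.appLE B ⊤ hB ≫ (Scheme.ΓSpecIso _).hom = 𝟙 _ := by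
        simp only [AffineBC.str, Category.assoc, Scheme.Hom.appLE_comp_appLE_assoc]
        rw [appLE_of_eq hy]
        exact (congrArg (_ ≫ ·) (Category.id_comp _)).trans (Iso.inv_hom_id _)
      exact ConcreteCategory.congr_hom e r }

theorem slice_mul (y₀ : Spec (CommRingCat.of k) ⟶ Y) (hy : y₀ ≫ py = 𝟙 _) (j : X ⟶ W)
    (hj₁ : j ≫ fx = 𝟙 X) (hj₂ : j ≫ fy = px ≫ y₀) {A : X.Opens} {B : Y.Opens}
    (hB : (⊤ : (Spec (CommRingCat.of k)).Opens) ≤ y₀ ⁻¹ᵁ B) {P : W.Opens} (hA : P ≤ fx ⁻¹ᵁ A)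
    (hPB : P ≤ fy ⁻¹ᵁ B) (hAP : A ≤ j ⁻¹ᵁ P) (t : Fn px A ⊗[k] Fn py B) :
    pullA j (by rw [← Category.assoc, hj₁, Category.id_comp]) hAP (mul H hA hPB t) =
      TensorProduct.rid k (Fn px A) (TensorProduct.map LinearMap.id (ev y₀ hy hB) t) := by
  induction t using TensorProduct.induction_on with
  | zero => simp
  | add s t hs ht => simp only [map_add, hs, ht]
  | tmul a b =>
    rw [mul_tmul, map_mul, TensorProduct.map_tmul, LinearMap.id_apply, TensorProduct.rid_tmul,
      Algebra.smul_def, mul_comm]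
    refine congrArg₂ (· * ·) ?_ ?_
    · have e : fy.appLE B P hPB ≫ j.appLE P A hAP =
          (y₀.appLE B ⊤ hB ≫ (Scheme.ΓSpecIso _).hom) ≫ AffineBC.str px A := by
        simp only [AffineBC.str, Category.assoc, Iso.hom_inv_id_assoc, Scheme.Hom.appLE_comp_appLE, hj₂]
      exact ConcreteCategory.congr_hom e b
    · have e : fx.appLE A P hA ≫ j.appLE P A hAP = 𝟙 _ := by
        rw [Scheme.Hom.appLE_comp_appLE, appLE_of_eq hj₁]
      exact ConcreteCategory.congr_hom e a

variable [IsProper px] [Flat px] [IsProper py] [Flat py]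

include H in
/-- A cocycle on a product cover which splits on both slices splits. -/
theorem isCob_product (hx : H2.Rigid.H0 px) (hy' : H2.Rigid.H0 py)
    (x₀ : Spec (CommRingCat.of k) ⟶ X) (hx₀ : x₀ ≫ px = 𝟙 _) (y₀ : Spec (CommRingCat.of k) ⟶ Y)
    (hy : y₀ ≫ py = 𝟙 _) (i : Y ⟶ W) (hi₁ : i ≫ fx = py ≫ x₀) (hi₂ : i ≫ fy = 𝟙 Y)
    (j : X ⟶ W) (hj₁ : j ≫ fx = 𝟙 X) (hj₂ : j ≫ fy = px ≫ y₀)
    {α β : Type u} [_root_.Finite α] (A : α → X.Opens) (B : β → Y.Opens)
    (hA : ∀ a, IsAffineOpen (A a)) (hAc : iSup A = ⊤) (hB : ∀ m, IsAffineOpen (B m)) (hBc : iSup B = ⊤)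
    (η : C1 fun q : α × β => fx ⁻¹ᵁ A q.1 ⊓ fy ⁻¹ᵁ B q.2) (hη : IsCoc η)
    (hηi : IsCob (Cech1.comap i η)) (hηj : IsCob (Cech1.comap j η)) : IsCob η := by
  haveI : X.IsSeparated := ⟨by rw [← Limits.terminal.comp_from px]; infer_instance⟩
  haveI : Y.IsSeparated := ⟨by rw [← Limits.terminal.comp_from py]; infer_instance⟩
  haveI : IsLocallyNoetherian X := LocallyOfFiniteType.isLocallyNoetherian px
  haveI : IsLocallyNoetherian Y := LocallyOfFiniteType.isLocallyNoetherian py
  haveI : IsProper fx := MorphismProperty.of_isPullback H.flip inferInstance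
  haveI : Flat fx := MorphismProperty.of_isPullback H.flip inferInstance
  haveI : IsProper fy := MorphismProperty.of_isPullback H inferInstance
  haveI : Flat fy := MorphismProperty.of_isPullback H inferInstance
  haveI : Surjective fx := ⟨fun x => ⟨j x, by rw [← Scheme.Hom.comp_apply, hj₁]; rfl⟩⟩
  haveI : Surjective fy := ⟨fun y => ⟨i y, by rw [← Scheme.Hom.comp_apply, hi₂]; rfl⟩⟩
  have hpx : H2.Rigid.Push fx := H2.Rigid.push_of_flat fx (hy'.of_isPullback H.flip)
  have hpy : H2.Rigid.Push fy := H2.Rigid.push_of_flat fy (hx.of_isPullback H)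
  let A₂ : α × α → X.Opens := fun q => A q.1 ⊓ A q.2
  have hA₂ : ∀ q, IsAffineOpen (A₂ q) := fun q => (hA q.1).inf (hA q.2)
  let P : α × β → W.Opens := fun q => fx ⁻¹ᵁ A q.1 ⊓ fy ⁻¹ᵁ B q.2
  have hinf : ∀ (q : α × α) (m : β), fx ⁻¹ᵁ A₂ q ⊓ fy ⁻¹ᵁ B m ≤ P (q.1, m) ⊓ P (q.2, m) :=
    fun q m => le_inf (inf_le_inf_right _ (pre_mono fx inf_le_left))
      (inf_le_inf_right _ (pre_mono fx inf_le_right))
  -- the tensors representing the cocycle on each `X × B m`
  have hg : ∀ m, ∃ t : K1 px A ⊗[k] Fn py (B m), ∀ q,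
      mul H (P := fx ⁻¹ᵁ A₂ q ⊓ fy ⁻¹ᵁ B m) inf_le_left inf_le_right (comp1 px A q t) =
        rf (hinf q m) (η (q.1, m) (q.2, m)) := by
    intro m
    choose g hg using fun q : α × α =>
      (mul_bijective H (hA₂ q) (hB m) rfl).2 (rf (hinf q m) (η (q.1, m) (q.2, m)))
    obtain ⟨t, ht⟩ := exists_comp1 px A g
    exact ⟨t, fun q => by rw [ht]; exact hg q⟩
  choose γ hγ using hg
  obtain ⟨θ, hθ⟩ := exists_quasiInverse (dK px A)
  let e : K1 px A →ₗ[k] K1 px A := LinearMap.id - dK px A ∘ₗ θ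
  have hed : e ∘ₗ dK px A = 0 := by
    show (LinearMap.id - dK px A ∘ₗ θ) ∘ₗ dK px A = 0
    rw [LinearMap.sub_comp, LinearMap.id_comp, LinearMap.comp_assoc, hθ, sub_self]
  let κ : ∀ m, K1 px A ⊗[k] Fn py (B m) := fun m => TensorProduct.map e LinearMap.id (γ m)
  -- the classes `κ` agree on overlaps
  have hκ : ∀ (q : α × α) (m l : β),
      rf (inf_le_inf_left _ (pre_mono fy inf_le_left))
          (show Γ(W, fx ⁻¹ᵁ A₂ q ⊓ fy ⁻¹ᵁ B m) from mul H inf_le_left inf_le_right (comp1 px A q (κ m))) =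
        rf (inf_le_inf_left (fx ⁻¹ᵁ A₂ q) (pre_mono fy (inf_le_right : B m ⊓ B l ≤ B l)))
          (show Γ(W, fx ⁻¹ᵁ A₂ q ⊓ fy ⁻¹ᵁ B l) from mul H inf_le_left inf_le_right (comp1 px A q (κ l))) := by
    intro q m l
    let Bml := B m ⊓ B l
    have hBml : IsAffineOpen Bml := (hB m).inf (hB l)
    choose δg hδg using fun a : α =>
      (mul_bijective H (hA a) hBml rfl).2
        (rf (le_inf (inf_le_inf_left _ (pre_mono fy inf_le_left))
          (inf_le_inf_left _ (pre_mono fy inf_le_right)) :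
            fx ⁻¹ᵁ A a ⊓ fy ⁻¹ᵁ Bml ≤ P (a, m) ⊓ P (a, l)) (η (a, m) (a, l)))
    obtain ⟨δ, hδ⟩ := exists_comp0 px A δg
    let rm : Fn py (B m) →ₗ[k] Fn py Bml := (resA py inf_le_left).toLinearMap
    let rl : Fn py (B l) →ₗ[k] Fn py Bml := (resA py inf_le_right).toLinearMap
    have hdiff : TensorProduct.map LinearMap.id rm (γ m) - TensorProduct.map LinearMap.id rl (γ l) =
        TensorProduct.map (dK px A) LinearMap.id δ := by
      refine ext_comp1 px A fun p => (mul_bijective H (hA₂ p) hBml rfl).1 ?_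
      rw [map_sub, map_sub, comp1_dK, map_sub, hδ, hδ]
      have n1 : ∀ (n : β) (r : Fn py (B n) →ₗ[k] Fn py Bml) (hn : Bml ≤ B n),
          r = (resA py hn).toLinearMap →
          mul H (P := fx ⁻¹ᵁ A₂ p ⊓ fy ⁻¹ᵁ Bml) inf_le_left inf_le_right
              (comp1 px A p (TensorProduct.map LinearMap.id r (γ n))) =
            rf ((inf_le_inf_left _ (pre_mono fy hn)).trans (hinf p n)) (η (p.1, n) (p.2, n)) := by
        intro n r hn hr
        subst hr
        have h1 : comp1 px A p (TensorProduct.map LinearMap.id (resA py hn).toLinearMap (γ n)) =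
            TensorProduct.map (resA px (le_refl (A₂ p))).toLinearMap (resA py hn).toLinearMap
              (comp1 px A p (γ n)) := by
          have hid : (resA px (le_refl (A₂ p))).toLinearMap = LinearMap.id :=
            LinearMap.ext fun a => rf_self (X := X) le_rfl a
          rw [hid, comp1, comp1, ← LinearMap.comp_apply, ← LinearMap.comp_apply, ← TensorProduct.map_comp,
            ← TensorProduct.map_comp]
          rfl
        rw [h1, ← res_mul H inf_le_left inf_le_right _ _ (inf_le_inf_left _ (pre_mono fy hn)), hγ]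
        exact rf_rf _ _ _
      have n2 : ∀ (a : α) (ha : A₂ p ≤ A a),
          mul H (P := fx ⁻¹ᵁ A₂ p ⊓ fy ⁻¹ᵁ Bml) inf_le_left inf_le_right
              (TensorProduct.map (resA px ha).toLinearMap LinearMap.id (δg a)) =
            rf (le_inf (inf_le_inf (pre_mono fx ha) (pre_mono fy inf_le_left))
              (inf_le_inf (pre_mono fx ha) (pre_mono fy inf_le_right)) :
                fx ⁻¹ᵁ A₂ p ⊓ fy ⁻¹ᵁ Bml ≤ P (a, m) ⊓ P (a, l)) (η (a, m) (a, l)) := by
        intro a ha
        have hid : (resA py (le_refl Bml)).toLinearMap = LinearMap.id :=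
          LinearMap.ext fun b => rf_self (X := Y) le_rfl b
        rw [← hid, ← res_mul H inf_le_left inf_le_right _ _ (inf_le_inf_right _ (pre_mono fx ha)), hδg]
        exact rf_rf _ _ _
      rw [n1 m rm inf_le_left rfl, n1 l rl inf_le_right rfl, n2 p.1 inf_le_left, n2 p.2 inf_le_right]
      let Q := fx ⁻¹ᵁ A₂ p ⊓ fy ⁻¹ᵁ Bml
      have q1m : Q ≤ P (p.1, m) := inf_le_inf (pre_mono fx inf_le_left) (pre_mono fy inf_le_left)
      have q2m : Q ≤ P (p.2, m) := inf_le_inf (pre_mono fx inf_le_right) (pre_mono fy inf_le_left)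
      have q1l : Q ≤ P (p.1, l) := inf_le_inf (pre_mono fx inf_le_left) (pre_mono fy inf_le_right)
      have q2l : Q ≤ P (p.2, l) := inf_le_inf (pre_mono fx inf_le_right) (pre_mono fy inf_le_right)
      have t1 := hη (p.1, m) (p.1, l) (p.2, l) Q q1m q1l q2l
      have t2 := hη (p.1, m) (p.2, m) (p.2, l) Q q1m q2m q2l
      rw [sub_eq_sub_iff_add_eq_add]
      exact (t2.trans t1.symm)
    have hk : TensorProduct.map LinearMap.id rm (κ m) = TensorProduct.map LinearMap.id rl (κ l) := by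
      rw [← sub_eq_zero]
      have h1 : TensorProduct.map e LinearMap.id
          (TensorProduct.map LinearMap.id rm (γ m) - TensorProduct.map LinearMap.id rl (γ l)) = 0 := by
        rw [hdiff, ← LinearMap.comp_apply, ← TensorProduct.map_comp, hed, TensorProduct.map_zero_left,
          LinearMap.zero_apply]
      rw [map_sub] at h1
      simp only [κ, ← LinearMap.comp_apply, ← TensorProduct.map_comp, LinearMap.comp_id,
        LinearMap.id_comp] at h1 ⊢
      exact h1
    have n3 : ∀ (n : β) (hn : Bml ≤ B n) (z : K1 px A ⊗[k] Fn py (B n)),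
        rf (inf_le_inf_left _ (pre_mono fy hn))
            (show Γ(W, fx ⁻¹ᵁ A₂ q ⊓ fy ⁻¹ᵁ B n) from mul H inf_le_left inf_le_right (comp1 px A q z)) =
          mul H (P := fx ⁻¹ᵁ A₂ q ⊓ fy ⁻¹ᵁ Bml) inf_le_left inf_le_right
            (comp1 px A q (TensorProduct.map LinearMap.id (resA py hn).toLinearMap z)) := by
      intro n hn z
      refine (res_mul H inf_le_left inf_le_right inf_le_left inf_le_right
        (inf_le_inf_left _ (pre_mono fy hn)) le_rfl hn _).trans ?_
      congr 1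
      have hid : (resA px (le_refl (A₂ q))).toLinearMap = LinearMap.id :=
        LinearMap.ext fun a => rf_self (X := X) le_rfl a
      rw [hid, comp1, comp1, ← LinearMap.comp_apply, ← LinearMap.comp_apply, ← TensorProduct.map_comp,
        ← TensorProduct.map_comp]
      rfl
    rw [n3 m inf_le_left, n3 l inf_le_right]
    exact congrArg (fun z => mul H inf_le_left inf_le_right (comp1 px A q z)) hk
  -- they come from `X`, and vanish on the slice through `y₀`
  obtain ⟨m₀, hm₀⟩ : ∃ m₀, (⊤ : (Spec (CommRingCat.of k)).Opens) ≤ y₀ ⁻¹ᵁ B m₀ := by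
    obtain ⟨pt⟩ := (inferInstance : Nonempty (Spec (CommRingCat.of k)))
    obtain ⟨m₀, hm⟩ := Opens.mem_iSup.1 (show y₀ pt ∈ iSup B by rw [hBc]; trivial)
    exact ⟨m₀, fun z _ => (Subsingleton.elim (α := PrimeSpectrum k) z pt) ▸ hm⟩
  have hjB : ∀ V : X.Opens, V ≤ j ⁻¹ᵁ (fy ⁻¹ᵁ B m₀) := fun V z _ => by
    show (j ≫ fy) z ∈ B m₀
    rw [hj₂]
    exact hm₀ trivial
  have hjA : ∀ V : X.Opens, V ≤ j ⁻¹ᵁ (fx ⁻¹ᵁ V) := fun V z hz => by
    show (j ≫ fx) z ∈ V
    rw [hj₁]
    exact hz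
  have hκ0 : ∀ q m, mul H (P := fx ⁻¹ᵁ A₂ q ⊓ fy ⁻¹ᵁ B m) inf_le_left inf_le_right
      (comp1 px A q (κ m)) = 0 := by
    intro q
    obtain ⟨T, hT⟩ := fun_glue (fun m => fy ⁻¹ᵁ B m) (A := fx ⁻¹ᵁ A₂ q)
      (by rw [← Scheme.Hom.preimage_iSup, hBc, Scheme.Hom.preimage_top]; exact le_top)
      (fun m => mul H inf_le_left inf_le_right (comp1 px A q (κ m)))
      fun m l Q hm hl => by
        have hQ : Q ≤ fx ⁻¹ᵁ A₂ q ⊓ fy ⁻¹ᵁ (B m ⊓ B l) :=
          le_inf (hm.trans inf_le_left) (le_inf (hm.trans inf_le_right) (hl.trans inf_le_right))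
        have := congrArg (rf (X := W) hQ) (hκ q m l)
        rwa [rf_rf, rf_rf] at this
    obtain ⟨a, rfl⟩ := (hpx (A₂ q)).2 T
    suffices ha : a = 0 by
      intro m
      have := hT m _ inf_le_left inf_le_right
      rw [ha, map_zero, rf_self] at this
      exact this.symm.trans (map_zero _)
    have hb : A₂ q ≤ j ⁻¹ᵁ (fx ⁻¹ᵁ A₂ q ⊓ fy ⁻¹ᵁ B m₀) := le_inf (hjA _) (hjB _)
    have h1 := congrArg (fun s => (j.appLE _ (A₂ q) hb).hom s) (hT m₀ _ inf_le_left inf_le_right)
    simp only [rf_self] at h1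
    have h2 : (j.appLE _ (A₂ q) hb).hom (rf inf_le_left ((fx.app (A₂ q)).hom a)) = a := by
      have e : fx.app (A₂ q) ≫ W.presheaf.map (homOfLE inf_le_left).op ≫ j.appLE _ (A₂ q) hb = 𝟙 _ := by
        rw [Scheme.Hom.map_appLE, Scheme.Hom.app_eq_appLE, Scheme.Hom.appLE_comp_appLE]
        exact appLE_of_eq hj₁ _
      exact ConcreteCategory.congr_hom e a
    rw [← h2, h1]
    refine (slice_mul H y₀ hy j hj₁ hj₂ hm₀ inf_le_left inf_le_right hb _).trans ?_
    obtain ⟨ω, hω⟩ := hηj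
    have hle : ∀ a, A a ≤ j ⁻¹ᵁ P (a, m₀) := fun a => le_inf (hjA _) (hjB _)
    let z : K0 px A := fun a => rf (hle a) (ω (a, m₀))
    have hz : TensorProduct.rid k (K1 px A) (TensorProduct.map LinearMap.id (ev y₀ hy hm₀) (γ m₀)) =
        dK px A z := by
      funext p
      have hcomm : ∀ t : K1 px A ⊗[k] Fn py (B m₀),
          TensorProduct.rid k (K1 px A) (TensorProduct.map LinearMap.id (ev y₀ hy hm₀) t) p =
            TensorProduct.rid k _ (TensorProduct.map LinearMap.id (ev y₀ hy hm₀) (comp1 px A p t)) := by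
        intro t
        induction t using TensorProduct.induction_on with
        | zero => simp
        | add s t hs ht => simp only [map_add, Pi.add_apply, hs, ht]
        | tmul a b => simp [comp1]
      have hb' : A₂ p ≤ j ⁻¹ᵁ (fx ⁻¹ᵁ A₂ p ⊓ fy ⁻¹ᵁ B m₀) := le_inf (hjA _) (hjB _)
      rw [hcomm, ← slice_mul H y₀ hy j hj₁ hj₂ hm₀ inf_le_left inf_le_right hb', hγ]
      show (j.appLE _ _ hb').hom (rf (hinf p m₀) (η (p.1, m₀) (p.2, m₀))) =
        rf inf_le_left (rf (hle p.1) (ω (p.1, m₀))) - rf inf_le_right (rf (hle p.2) (ω (p.2, m₀)))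
      have e := IsCob.eq hω (p.1, m₀) (p.2, m₀) (V := A₂ p)
        (inf_le_left.trans (hle p.1)) (inf_le_right.trans (hle p.2))
      rw [rf_rf, rf_rf, ← e]
      show (W.presheaf.map (homOfLE (hinf p m₀)).op ≫ j.appLE _ _ hb') _ = _
      rw [Scheme.Hom.map_appLE]
      rfl
    have hfin : TensorProduct.rid k (Fn px (A₂ q))
        (TensorProduct.map LinearMap.id (ev y₀ hy hm₀) (comp1 px A q (κ m₀))) = e (dK px A z) q := by
      rw [← hz]
      simp only [κ]
      generalize γ m₀ = t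
      induction t using TensorProduct.induction_on with
      | zero => simp
      | add s t hs ht => simp only [map_add, Pi.add_apply, hs, ht]
      | tmul a b => simp [comp1]
    rw [hfin, ← LinearMap.comp_apply, hed]
    rfl
  have hγd : ∀ m, γ m = TensorProduct.map (dK px A) LinearMap.id
      (TensorProduct.map θ LinearMap.id (γ m)) := by
    intro m
    have h0 : κ m = 0 := ext_comp1 px A fun q =>
      (mul_bijective H (hA₂ q) (hB m) rfl).1 (by rw [hκ0, map_zero, map_zero])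
    have hsub : TensorProduct.map e (LinearMap.id : Fn py (B m) →ₗ[k] Fn py (B m)) =
        LinearMap.id - TensorProduct.map (dK px A ∘ₗ θ) LinearMap.id := by
      refine TensorProduct.ext' fun a b => ?_
      simp [e, TensorProduct.sub_tmul]
    simp only [κ, hsub, LinearMap.sub_apply, sub_eq_zero, LinearMap.id_apply] at h0
    rw [← LinearMap.comp_apply, ← TensorProduct.map_comp, LinearMap.comp_id]
    exact h0
  -- split off the part along `X`
  let w : ∀ q : α × β, Γ(W, P q) := fun q =>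
    mul H inf_le_left inf_le_right (comp0 px A q.1 (TensorProduct.map θ LinearMap.id (γ q.2)))
  let η' : C1 P := fun q r => η q r - rf inf_le_left (w q) + rf inf_le_right (w r)
  have hη' : IsCoc η' := fun a b d V ha hb hd => by
    simp only [η', rf_add, rf_sub, rf_rf]
    rw [← hη a b d V ha hb hd]
    abel
  have hsame : ∀ (a b : α) (m : β) (V : W.Opens) (hV : V ≤ P (a, m) ⊓ P (b, m)),
      rf hV (η' (a, m) (b, m)) = 0 := by
    intro a b m V hV
    have hV' : V ≤ fx ⁻¹ᵁ A₂ (a, b) ⊓ fy ⁻¹ᵁ B m :=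
      le_inf (le_inf (hV.trans (inf_le_left.trans inf_le_left)) (hV.trans (inf_le_right.trans inf_le_left)))
        (hV.trans (inf_le_left.trans inf_le_right))
    have h1 := congrArg (fun t => rf (X := W) hV' (show Γ(W, fx ⁻¹ᵁ A₂ (a, b) ⊓ fy ⁻¹ᵁ B m) from
      mul H inf_le_left inf_le_right (comp1 px A (a, b) t))) (hγd m)
    simp only [comp1_dK, map_sub, hγ] at h1
    simp only [η', rf_add, rf_sub, rf_rf]
    rw [rf_rf] at h1
    refine (congrArg₂ (· + ·) (congrArg₂ (· - ·) h1 rfl) rfl).trans ?_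
    have n4 : ∀ (c : α) (hc : A₂ (a, b) ≤ A c),
        rf (inf_le_inf_right (fy ⁻¹ᵁ B m) (pre_mono fx hc)) (w (c, m)) =
          mul H inf_le_left inf_le_right (TensorProduct.map (resA px hc).toLinearMap LinearMap.id
            (comp0 px A c (TensorProduct.map θ LinearMap.id (γ m)))) := by
      intro c hc
      have hid : (resA py (le_refl (B m))).toLinearMap = LinearMap.id :=
        LinearMap.ext fun x => rf_self (X := Y) le_rfl x
      refine (res_mul H inf_le_left inf_le_right inf_le_left inf_le_right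
        (inf_le_inf_right _ (pre_mono fx hc)) hc le_rfl _).trans ?_
      rw [hid]
    rw [← n4 a inf_le_left, ← n4 b inf_le_right]
    erw [rf_sub, rf_rf, rf_rf]
    abel
  -- the rest comes from `Y`
  have hT : ∀ m l, ∃ h : Γ(Y, B m ⊓ B l), ∀ (a : α) (V : W.Opens) (hV : V ≤ P (a, m) ⊓ P (a, l))
      (hB' : V ≤ fy ⁻¹ᵁ (B m ⊓ B l)), rf hV (η' (a, m) (a, l)) = rf hB' ((fy.app _).hom h) := by
    intro m l
    obtain ⟨T, hT⟩ := fun_glue (fun a => fx ⁻¹ᵁ A a) (A := fy ⁻¹ᵁ (B m ⊓ B l))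
      (by rw [← Scheme.Hom.preimage_iSup, hAc, Scheme.Hom.preimage_top]; exact le_top)
      (fun a => rf (le_inf (le_inf inf_le_right (inf_le_left.trans (pre_mono fy inf_le_left)))
        (le_inf inf_le_right (inf_le_left.trans (pre_mono fy inf_le_right)))) (η' (a, m) (a, l)))
      fun a b V ha hb => by
        have va : V ≤ P (a, m) := le_inf (ha.trans inf_le_right) (ha.trans (inf_le_left.trans (pre_mono fy inf_le_left)))
        have va' : V ≤ P (a, l) := le_inf (ha.trans inf_le_right) (ha.trans (inf_le_left.trans (pre_mono fy inf_le_right)))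
        have vb : V ≤ P (b, m) := le_inf (hb.trans inf_le_right) (hb.trans (inf_le_left.trans (pre_mono fy inf_le_left)))
        have vb' : V ≤ P (b, l) := le_inf (hb.trans inf_le_right) (hb.trans (inf_le_left.trans (pre_mono fy inf_le_right)))
        rw [rf_rf, rf_rf]
        have t1 := hη' (a, m) (a, l) (b, l) V va va' vb'
        have t2 := hη' (a, m) (b, m) (b, l) V va vb vb'
        rw [hsame a b l V (le_inf va' vb'), add_zero] at t1
        rw [hsame a b m V (le_inf va vb), zero_add] at t2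
        exact t1.trans t2.symm
    obtain ⟨h, rfl⟩ := (hpy (B m ⊓ B l)).2 T
    refine ⟨h, fun a V hV hB' => ?_⟩
    rw [hT a V hB' (hV.trans (inf_le_left.trans inf_le_left)), rf_rf]
  choose h hh using hT
  obtain ⟨a₀, ha₀⟩ : ∃ a₀, (⊤ : (Spec (CommRingCat.of k)).Opens) ≤ x₀ ⁻¹ᵁ A a₀ := by
    obtain ⟨pt⟩ := (inferInstance : Nonempty (Spec (CommRingCat.of k)))
    obtain ⟨m₀, hm⟩ := Opens.mem_iSup.1 (show x₀ pt ∈ iSup A by rw [hAc]; trivial)
    exact ⟨m₀, fun z _ => (Subsingleton.elim (α := PrimeSpectrum k) z pt) ▸ hm⟩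
  have hiP : ∀ m, B m ≤ i ⁻¹ᵁ P (a₀, m) := fun m z hz => by
    refine ⟨?_, ?_⟩
    · show (i ≫ fx) z ∈ A a₀
      rw [hi₁]
      exact ha₀ trivial
    · show (i ≫ fy) z ∈ B m
      rw [hi₂]
      exact hz
  obtain ⟨σ, hσ⟩ := hηi
  let z : ∀ m, Γ(Y, B m) := fun m =>
    rf (hiP m) (σ (a₀, m)) - rf (hiP m) ((i.app _).hom (w (a₀, m)))
  have hhz : ∀ m l, h m l = rf inf_le_left (z m) - rf inf_le_right (z l) := by
    intro m l
    have hc : B m ⊓ B l ≤ i ⁻¹ᵁ (P (a₀, m) ⊓ P (a₀, l)) :=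
      le_inf (inf_le_left.trans (hiP m)) (inf_le_right.trans (hiP l))
    have hle : P (a₀, m) ⊓ P (a₀, l) ≤ fy ⁻¹ᵁ (B m ⊓ B l) :=
      le_inf (inf_le_left.trans inf_le_right) (inf_le_right.trans inf_le_right)
    have e1 := congrArg (fun s => (i.appLE _ _ hc).hom s) (hh m l a₀ _ le_rfl hle)
    have e2 : (i.appLE _ _ hc).hom (rf hle ((fy.app _).hom (h m l))) = h m l := by
      have e : fy.app (B m ⊓ B l) ≫ W.presheaf.map (homOfLE hle).op ≫ i.appLE _ _ hc = 𝟙 _ := by
        rw [Scheme.Hom.map_appLE, Scheme.Hom.app_eq_appLE, Scheme.Hom.appLE_comp_appLE]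
        exact appLE_of_eq hi₂ _
      exact ConcreteCategory.congr_hom e (h m l)
    simp only [rf_self] at e1
    rw [← e2, ← e1]
    simp only [η', z, Scheme.Hom.appLE, CommRingCat.hom_comp, RingHom.comp_apply, map_add, map_sub]
    have e3 := IsCob.eq hσ (a₀, m) (a₀, l) (V := B m ⊓ B l)
      (inf_le_left.trans (hiP m)) (inf_le_right.trans (hiP l))
    erw [app_rf, app_rf]
    change rf hc ((i.app (P (a₀, m) ⊓ P (a₀, l))).hom (η (a₀, m) (a₀, l))) -
        rf hc (rf _ ((i.app (P (a₀, m))).hom (w (a₀, m)))) +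
          rf hc (rf _ ((i.app (P (a₀, l))).hom (w (a₀, l)))) =
        rf inf_le_left (rf (hiP m) (σ (a₀, m))) -
            rf inf_le_left (rf (hiP m) ((i.app (P (a₀, m))).hom (w (a₀, m)))) -
          (rf inf_le_right (rf (hiP l) (σ (a₀, l))) -
            rf inf_le_right (rf (hiP l) ((i.app (P (a₀, l))).hom (w (a₀, l)))))
    have e4 : rf hc ((i.app (P (a₀, m) ⊓ P (a₀, l))).hom (η (a₀, m) (a₀, l))) =
        rf (inf_le_left.trans (hiP m)) (σ (a₀, m)) - rf (inf_le_right.trans (hiP l)) (σ (a₀, l)) := e3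
    rw [e4]
    erw [rf_rf, rf_rf, rf_rf, rf_rf, rf_rf, rf_rf]
    abel
  refine ⟨fun q => w q - (-rf inf_le_right ((fy.app (B q.2)).hom (z q.2))), fun q r => ?_⟩
  have hq : P q ⊓ P r ≤ P (q.1, r.2) :=
    le_inf (inf_le_left.trans inf_le_left) (inf_le_right.trans inf_le_right)
  have hB' : P q ⊓ P r ≤ fy ⁻¹ᵁ (B q.2 ⊓ B r.2) :=
    le_inf (inf_le_left.trans inf_le_right) (inf_le_right.trans inf_le_right)
  have t := hη' q (q.1, r.2) r (P q ⊓ P r) inf_le_left hq inf_le_right
  rw [hsame q.1 r.1 r.2 _ (le_inf hq inf_le_right), add_zero] at t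
  have t2 := (hh q.2 r.2 q.1 _ (le_inf inf_le_left hq) hB').symm.trans t
  rw [hhz, rf_self] at t2
  simp only [map_sub, app_rf, rf_sub, rf_rf, η'] at t2
  simp only [rf_sub, sub_neg_eq_add, rf_add, rf_rf]
  rw [sub_add] at t2
  linear_combination -t2

include H in
/-- A cocycle of functions on a product which splits on both slices splits. -/
theorem isCob_of_slices (hx : H2.Rigid.H0 px) (hy' : H2.Rigid.H0 py)
    (x₀ : Spec (CommRingCat.of k) ⟶ X) (hx₀ : x₀ ≫ px = 𝟙 _) (y₀ : Spec (CommRingCat.of k) ⟶ Y)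
    (hy : y₀ ≫ py = 𝟙 _) (i : Y ⟶ W) (hi₁ : i ≫ fx = py ≫ x₀) (hi₂ : i ≫ fy = 𝟙 Y)
    (j : X ⟶ W) (hj₁ : j ≫ fx = 𝟙 X) (hj₂ : j ≫ fy = px ≫ y₀)
    {ι : Type u} (U : ι → W.Opens) (hU : ∀ a, IsAffineOpen (U a)) (hUc : iSup U = ⊤)
    (γ : C1 U) (hγ : IsCoc γ) (hγi : IsCob (Cech1.comap i γ)) (hγj : IsCob (Cech1.comap j γ)) :
    IsCob γ := by
  haveI : W.IsSeparated := ⟨by
    haveI : IsProper fx := MorphismProperty.of_isPullback H.flip inferInstance
    haveI : IsProper (fx ≫ px) := inferInstance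
    rw [← Limits.terminal.comp_from (fx ≫ px)]; infer_instance⟩
  haveI : CompactSpace X := QuasiCompact.compactSpace_of_compactSpace px
  let A := fun a => (X.affineCover.finiteSubcover.f a).opensRange
  obtain ⟨α, hα, A, hA, hAc⟩ : ∃ (α : Type u) (_ : _root_.Finite α) (A : α → X.Opens),
      (∀ a, IsAffineOpen (A a)) ∧ iSup A = ⊤ := by
    obtain ⟨s, hs, hcov⟩ := isCompact_and_isOpen_iff_finite_and_eq_biUnion_affineOpens.mp
      ⟨(isCompact_univ : IsCompact (Set.univ : Set X)), isOpen_univ⟩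
    haveI := hs.to_subtype
    refine ⟨s, inferInstance, fun a => a.1.1, fun a => a.1.2, ?_⟩
    ext x
    simpa using Set.ext_iff.1 hcov x
  let B : Y.affineOpens → Y.Opens := fun m => m.1
  have hBc : iSup B = ⊤ := iSup_affineOpens_eq_top Y
  let P : α × Y.affineOpens → W.Opens := fun q => fx ⁻¹ᵁ A q.1 ⊓ fy ⁻¹ᵁ B q.2
  have hPc : iSup P = ⊤ := top_le_iff.1 fun w _ => by
    obtain ⟨a, ha⟩ := Opens.mem_iSup.1 (show fx w ∈ iSup A by rw [hAc]; trivial)
    obtain ⟨m, hm⟩ := Opens.mem_iSup.1 (show fy w ∈ iSup B by rw [hBc]; trivial)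
    exact Opens.mem_iSup.2 ⟨(a, m), ha, hm⟩
  obtain ⟨η, hη, hback, hpull⟩ := exists_refine hUc hPc γ fun q =>
    isCob_of_affine (fun a => ((isAffineOpen_prod H (hA q.1) q.2.2).inf (hU a)))
      (isAffineOpen_prod H (hA q.1) q.2.2) (by rw [← inf_iSup_eq, hUc, inf_top_eq])
      fun a b d V ha hb hd => by
        rw [rf_rf, rf_rf, rf_rf]
        exact hγ a b d V (ha.trans inf_le_right) (hb.trans inf_le_right) (hd.trans inf_le_right)
  exact hback (isCob_product H hx hy' x₀ hx₀ y₀ hy i hi₁ hi₂ j hj₁ hj₂ A B hA hAc (fun m => m.2)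
    hBc η hη (hpull _ i hγi) (hpull _ j hγj))

end

end Groth.Agent.Lib.Cube.H1Prod
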