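import Groth.Agent.Lib.Cube.Small

/-!
# The step along a regular element

If a cocycle is trivial modulo every power of a regular element `x` and the twisted cohomology is
separated for the `x`-adic topology, it is trivial.
-/

set_option autoImplicit false

universe u

open CategoryTheory CategoryTheory.Limits AlgebraicGeometry TopologicalSpace IsLocalRing

namespace Groth.Agent.Lib.Cube.Regular

open Groth.Agent.Lib.TensorMod.Dual (rf rf_rf rf_self)
open Groth.Agent.Lib.Cube.Triv Groth.Agent.Lib.Cube.Cech1 Groth.Agent.Lib.Cube.AffineBC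
open Groth.Agent.Lib.Cube.Small (quot str_rf flat_str exists_sum mem_map_of_sum_eq_zero app_congr)
open Groth.Agent.H97.GlueLine (Cocycle)

noncomputable section

variable {W : Scheme.{u}} {ι : Type u} {U : ι → W.Opens}

/-- Cocycles of functions twisted by the units of `c`. -/
def IsTw (c : Cocycle U) (g : C1 U) : Prop :=
  ∀ (a b d : ι) (V : W.Opens) (ha : V ≤ U a) (hb : V ≤ U b) (hd : V ≤ U d),
    rf (le_inf ha hb) (g a b) + rf (le_inf ha hb) (c.u a b) * rf (le_inf hb hd) (g b d) =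
      rf (le_inf ha hd) (g a d)

/-- Coboundaries twisted by the units of `c`. -/
def IsTwCob (c : Cocycle U) (g : C1 U) : Prop :=
  ∃ w : ∀ a, Γ(W, U a), ∀ a b, g a b = rf inf_le_left (w a) - c.u a b * rf inf_le_right (w b)

variable {R : CommRingCat.{u}}

/-- The twisted first cohomology is separated along `x`. -/
def Sep (C : Ctx (Spec R)) (x : R) : Prop :=
  ∀ g : C1 C.U, IsTw C.c g →
    (∀ n : ℕ, ∃ h : C1 C.U, IsTw C.c h ∧
      IsTwCob C.c fun a b => g a b - (str C.pw (C.U a ⊓ C.U b)).hom (x ^ n) * h a b) →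
    IsTwCob C.c g

theorem bijective_pw_app {S : Scheme.{u}} (C : Ctx S) [IsLocallyNoetherian S] :
    Function.Bijective C.pw.appTop.hom := by
  haveI : Surjective C.px := ⟨fun s => ⟨C.x₀ s, by rw [← Scheme.Hom.comp_apply, C.hx₀]; rfl⟩⟩
  haveI : Surjective C.fx := ⟨fun x => ⟨C.j x, by rw [← Scheme.Hom.comp_apply, C.hj₁]; rfl⟩⟩
  haveI : IsLocallyNoetherian C.X := LocallyOfFiniteType.isLocallyNoetherian C.px
  have h1 := H2.Rigid.appTop_bijective C.px C.hx
  have h2 := H2.Rigid.appTop_bijective C.fx (C.hy.of_isPullback C.H.flip)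
  rw [Ctx.pw, Scheme.Hom.comp_appTop, CommRingCat.hom_comp]
  exact h2.comp h1

variable [IsLocalRing R] [IsNoetherianRing R] (C : Ctx (Spec R)) {x : R}

omit [IsLocalRing R] [IsNoetherianRing R] in
theorem eq_zero_of_mul_str (hx : ∀ r : R, r * x = 0 → r = 0) {V : C.W.Opens} (hV : IsAffineOpen V)
    (b : Γ(C.W, V)) (h : (str C.pw V).hom x * b = 0) : b = 0 := by
  have := mem_map_of_sum_eq_zero _ (flat_str C.pw hV) ⊥ ![x]
    (fun c hc β => by
      rw [Ideal.mem_bot]
      fin_cases β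
      simp only [Fin.sum_univ_one, Matrix.cons_val_zero] at hc
      exact hx _ hc)
    ![b] (by simpa using h) 0
  simpa using this

/-- The regular step. -/
theorem trivAlong_of_regular (hxm : x ∈ maximalIdeal R) (hx : ∀ r : R, r * x = 0 → r = 0)
    (hsep : Sep C x) (h : ∀ n : ℕ, TrivAlong C.c (C.bcMap (quot (Ideal.span {x ^ (n + 1)})))) :
    TrivAlong C.c (𝟙 C.W) := by
  haveI := C.isSeparated
  have hUab : ∀ a b, IsAffineOpen (C.U a ⊓ C.U b) := fun a b => (C.hU a).inf (C.hU b)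
  have hker : ∀ (n : ℕ) (V : C.W.Opens), IsAffineOpen V → ∀ y : Γ(C.W, V),
      ((C.bcMap (quot (Ideal.span {x ^ n}))).app V).hom y = 0 ↔ ∃ b, (str C.pw V).hom (x ^ n) * b = y := by
    intro n V hV y
    rw [← RingHom.mem_ker, (app_surjective (IsPullback.of_hasPullback C.pw (quot (Ideal.span {x ^ n}))) hV
      Ideal.Quotient.mk_surjective).2]
    have : RingHom.ker (CommRingCat.ofHom (Ideal.Quotient.mk (Ideal.span {x ^ n}))).hom =
        Ideal.span {x ^ n} := Ideal.mk_ker
    rw [this, Ideal.map_span, Set.image_singleton, Ideal.mem_span_singleton]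
    exact ⟨fun ⟨b, hb⟩ => ⟨b, hb.symm⟩, fun ⟨b, hb⟩ => ⟨b, hb.symm⟩⟩
  -- lifts and defects at every level
  have hlift : ∀ n : ℕ, ∃ (α : ∀ a, Γ(C.W, C.U a)) (h : C1 C.U),
      (∀ a, IsUnit (((C.bcMap (quot (Ideal.span {x ^ (n + 1)}))).app (C.U a)).hom (α a))) ∧
      IsTw C.c h ∧
      ∀ a b, rf inf_le_left (α a) - C.c.u a b * rf inf_le_right (α b) =
        (str C.pw (C.U a ⊓ C.U b)).hom (x ^ (n + 1)) * h a b := by
    intro n
    obtain ⟨v, hv, hve⟩ := h n
    choose α hα using fun a => (app_surjective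
      (IsPullback.of_hasPullback C.pw (quot (Ideal.span {x ^ (n + 1)}))) (C.hU a)
      Ideal.Quotient.mk_surjective).1 (v a)
    have hd : ∀ a b, ∃ b', (str C.pw (C.U a ⊓ C.U b)).hom (x ^ (n + 1)) * b' =
        rf inf_le_left (α a) - C.c.u a b * rf inf_le_right (α b) := by
      intro a b
      refine (hker _ _ (hUab a b) _).1 ?_
      simp only [map_sub, map_mul]
      erw [app_rf, app_rf, hα, hα]
      exact sub_eq_zero.2 (hve a b)
    choose h hh using hd
    refine ⟨α, h, fun a => (hα a).symm ▸ hv a, ?_, fun a b => (hh a b).symm⟩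
    intro a b d V ha hb hd'
    let T := C.U a ⊓ C.U b ⊓ C.U d
    have hT : IsAffineOpen T := (hUab a b).inf (C.hU d)
    have hTa : T ≤ C.U a := inf_le_left.trans inf_le_left
    have hTb : T ≤ C.U b := inf_le_left.trans inf_le_right
    have hTd : T ≤ C.U d := inf_le_right
    have key : rf (le_inf hTa hTb) (h a b) + rf (le_inf hTa hTb) (C.c.u a b) * rf (le_inf hTb hTd) (h b d) =
        rf (le_inf hTa hTd) (h a d) := by
      refine sub_eq_zero.1 (eq_zero_of_mul_str C (x := x ^ (n + 1)) (fun r hr => ?_) hT _ ?_)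
      · have hxn : ∀ (m : ℕ) (r : R), r * x ^ m = 0 → r = 0 := by
          intro m
          induction m with
          | zero => intro r hr; simpa using hr
          | succ m ih => intro r hr; exact ih r (hx _ (by rw [mul_assoc, ← pow_succ]; exact hr))
        exact hxn _ r hr
      · have e1 := congrArg (rf (X := C.W) (le_inf hTa hTb)) (hh a b)
        have e2 := congrArg (rf (X := C.W) (le_inf hTb hTd)) (hh b d)
        have e3 := congrArg (rf (X := C.W) (le_inf hTa hTd)) (hh a d)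
        simp only [rf_mul, rf_sub, rf_rf, str_rf] at e1 e2 e3
        have ht := C.c.trans a b d T hTa hTb hTd
        linear_combination e1 + rf (le_inf hTa hTb) (C.c.u a b) * e2 - e3 - rf hTd (α d) * ht
    have e := congrArg (rf (X := C.W) (le_inf (le_inf ha hb) hd' : V ≤ T)) key
    rw [rf_add, rf_mul, rf_rf, rf_rf, rf_rf, rf_rf] at e
    exact e
  choose α hδ hαu hcoc hrel using hlift
  -- comparison of the first level with the others
  let g₁ := C.bcMap (quot (Ideal.span {x ^ (0 + 1)}))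
  have hg1 : IsTwCob C.c (hδ 0) := by
    refine hsep _ (hcoc 0) fun n => ?_
    let C₁ := C.bc (quot (Ideal.span {x ^ (0 + 1)}))
    haveI : IsLocallyNoetherian (Spec (CommRingCat.of (R ⧸ Ideal.span {x ^ (0 + 1)}))) := inferInstance
    -- the ratio of the two trivialisations is constant
    have hwit : ∀ a, IsUnit ((g₁.app (C.U a)).hom (α n a)) := by
      intro a
      have hle : Ideal.span {x ^ (n + 1)} ≤ Ideal.span {x ^ (0 + 1)} :=
        Ideal.span_singleton_le_span_singleton.2 (pow_dvd_pow x (by omega))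
      let ψ : Spec (CommRingCat.of (R ⧸ Ideal.span {x ^ (0 + 1)})) ⟶
          Spec (CommRingCat.of (R ⧸ Ideal.span {x ^ (n + 1)})) :=
        Spec.map (CommRingCat.ofHom (Ideal.Quotient.factor hle))
      have hψ : ψ ≫ quot (Ideal.span {x ^ (n + 1)}) = quot (Ideal.span {x ^ (0 + 1)}) := by
        rw [← Spec.map_comp]
        rfl
      let q : C.bcW (quot (Ideal.span {x ^ (0 + 1)})) ⟶ C.bcW (quot (Ideal.span {x ^ (n + 1)})) :=
        pullback.lift g₁ (C.bcBase (quot (Ideal.span {x ^ (0 + 1)})) ≫ ψ)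
          (by rw [Category.assoc, hψ]; exact pullback.condition)
      have hq : q ≫ C.bcMap (quot (Ideal.span {x ^ (n + 1)})) = g₁ := pullback.lift_fst _ _ _
      rw [app_congr hq.symm]
      exact ((hαu n a).map (q.app _).hom).map ((C.bcW _).presheaf.map _).hom
    have hδ0 : ∀ (m : ℕ) a b, rf (pre_mono g₁ inf_le_left) ((g₁.app _).hom (α m a)) =
        (g₁.app _).hom (C.c.u a b) * rf (pre_mono g₁ inf_le_right) ((g₁.app _).hom (α m b)) := by
      intro m a b
      have e : (g₁.app (C.U a ⊓ C.U b)).hom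
          (rf inf_le_left (α m a) - C.c.u a b * rf inf_le_right (α m b)) = 0 := by
        refine (hker 1 _ (hUab a b) _).2 ⟨(str C.pw _).hom (x ^ m) * hδ m a b, ?_⟩
        rw [hrel, ← mul_assoc, ← map_mul, ← pow_add, add_comm 1 m]
      rw [map_sub, sub_eq_zero, map_mul] at e
      erw [app_rf, app_rf] at e
      exact e
    let r : ∀ a, Γ(C.bcW (quot (Ideal.span {x ^ (0 + 1)})), g₁ ⁻¹ᵁ C.U a) := fun a =>
      (g₁.app (C.U a)).hom (α n a) * ↑(hαu 0 a).unit⁻¹
    have hr : ∀ a, (g₁.app (C.U a)).hom (α n a) = r a * (g₁.app (C.U a)).hom (α 0 a) := fun a => by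
      simp only [r]
      rw [mul_assoc, IsUnit.val_inv_mul, mul_one]
    obtain ⟨T, hT⟩ := fun_glue (fun a => g₁ ⁻¹ᵁ C.U a) (A := ⊤)
      (by rw [← Scheme.Hom.preimage_iSup, C.hUc, Scheme.Hom.preimage_top])
      (fun a => rf inf_le_right (r a))
      fun a b V ha hb => by
        rw [rf_rf, rf_rf]
        have hV : V ≤ g₁ ⁻¹ᵁ (C.U a ⊓ C.U b) := le_inf (ha.trans inf_le_right) (hb.trans inf_le_right)
        have e1 := congrArg (rf (X := C.bcW _) hV) (hδ0 n a b)
        have e0 := congrArg (rf (X := C.bcW _) hV) (hδ0 0 a b)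
        rw [hr, hr] at e1
        simp only [rf_mul, rf_rf] at e1 e0
        have hu : IsUnit (rf (ha.trans inf_le_right : V ≤ g₁ ⁻¹ᵁ C.U a) ((g₁.app (C.U a)).hom (α 0 a))) :=
          (hαu 0 a).map _
        refine hu.mul_left_inj.1 ?_
        linear_combination e1 - rf (hb.trans inf_le_right : V ≤ g₁ ⁻¹ᵁ C.U b) (r b) * e0
    obtain ⟨t, ht⟩ := (bijective_pw_app C₁).2 T
    obtain ⟨ρ, hρ⟩ := Ideal.Quotient.mk_surjective
      ((Scheme.ΓSpecIso (CommRingCat.of (R ⧸ Ideal.span {x ^ (0 + 1)}))).hom.hom t)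
    have hrρ : ∀ a, r a = (g₁.app (C.U a)).hom ((str C.pw (C.U a)).hom ρ) := by
      intro a
      have h1 := hT a (g₁ ⁻¹ᵁ C.U a) le_top le_rfl
      rw [← ht, rf_rf, rf_self] at h1
      have hpw : C₁.pw = C.bcBase (quot (Ideal.span {x ^ (0 + 1)})) := pullback.lift_snd _ _ _
      have h2 : (g₁.app (C.U a)).hom ((str C.pw (C.U a)).hom ρ) =
          (str (C.bcBase (quot (Ideal.span {x ^ (0 + 1)}))) (g₁ ⁻¹ᵁ C.U a)).hom (Ideal.Quotient.mk _ ρ) :=
        ConcreteCategory.congr_hom (isPushout (IsPullback.of_hasPullback C.pw _) (C.hU a)).w ρ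
      rw [h2, hρ, ← hpw]
      refine h1.symm.trans ?_
      show _ = ((Scheme.ΓSpecIso _).hom ≫ str C₁.pw _) t
      rw [AffineBC.str, Iso.hom_inv_id_assoc, Scheme.Hom.appLE]
      rfl
    have hρu : IsUnit ρ := by
      obtain ⟨a, ha⟩ := Opens.mem_iSup.1 (show C.i (C.y₀ (closedPoint R)) ∈ iSup C.U by rw [C.hUc]; trivial)
      have htop : (⊤ : (Spec R).Opens) ≤ (C.y₀ ≫ C.i) ⁻¹ᵁ C.U a := fun z _ =>
        (IsLocalRing.specializes_closedPoint z).mem_open ((C.y₀ ≫ C.i) ⁻¹ᵁ C.U a).2 ha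
      let ev := (C.y₀ ≫ C.i).appLE (C.U a) ⊤ htop ≫ (Scheme.ΓSpecIso R).hom
      have hev : str C.pw (C.U a) ≫ ev = 𝟙 _ := by
        simp only [ev, AffineBC.str, Category.assoc, Scheme.Hom.appLE_comp_appLE_assoc]
        rw [H1Prod.appLE_of_eq (show C.y₀ ≫ C.i ≫ C.pw = 𝟙 _ by rw [C.i_pw, C.hy₀])]
        exact (congrArg (_ ≫ ·) (Category.id_comp _)).trans (Iso.inv_hom_id _)
      obtain ⟨b, hb⟩ := (hker 1 _ (C.hU a) (α n a - (str C.pw (C.U a)).hom ρ * α 0 a)).1 (by
        rw [map_sub, map_mul, sub_eq_zero]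
        exact (hr a).trans (congrArg (· * _) (hrρ a)))
      obtain ⟨b₀, hb₀⟩ := (app_surjective (IsPullback.of_hasPullback C.pw (quot (Ideal.span {x ^ (0 + 1)})))
        (C.hU a) Ideal.Quotient.mk_surjective).1 ↑(hwit a).unit⁻¹
      obtain ⟨b₁, hb₁⟩ := (hker 1 _ (C.hU a) (α n a * b₀ - 1)).1 (by
        rw [map_sub, map_mul, map_one, sub_eq_zero]
        exact (congrArg _ hb₀).trans (IsUnit.mul_val_inv _))
      have e1 := congrArg (fun t => ev.hom t) hb
      have e2 := congrArg (fun t => ev.hom t) hb₁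
      have hevr : ∀ s, ev.hom ((str C.pw (C.U a)).hom s) = s := fun s => ConcreteCategory.congr_hom hev s
      simp only [map_mul, map_sub, map_one, hevr, pow_one] at e1 e2
      refine notMem_maximalIdeal.1 fun hρm => (maximalIdeal.isMaximal R).ne_top ((Ideal.eq_top_iff_one _).2 ?_)
      have : (1 : R) = ev.hom b₀ * (x * ev.hom b) + ev.hom b₀ * (ρ * ev.hom (α 0 a)) - x * ev.hom b₁ := by
        linear_combination -(ev.hom b₀) * e1 + e2
      rw [this]
      exact sub_mem (add_mem (Ideal.mul_mem_left _ _ (Ideal.mul_mem_right _ _ hxm))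
        (Ideal.mul_mem_left _ _ (Ideal.mul_mem_right _ _ hρm))) (Ideal.mul_mem_right _ _ hxm)
    have hw : ∀ a, ∃ w, (str C.pw (C.U a)).hom x * w = α n a - (str C.pw (C.U a)).hom ρ * α 0 a := by
      intro a
      have := (hker 1 _ (C.hU a) (α n a - (str C.pw (C.U a)).hom ρ * α 0 a)).1 (by
        rw [map_sub, map_mul, sub_eq_zero]
        exact (hr a).trans (congrArg (· * _) (hrρ a)))
      simpa only [pow_one] using this
    choose w hw using hw
    let ν : R := ↑hρu.unit⁻¹
    have hν : ν * ρ = 1 := hρu.val_inv_mul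
    refine ⟨fun a b => (str C.pw (C.U a ⊓ C.U b)).hom ν * hδ n a b, fun a b d V ha hb hd => ?_,
      fun a => -((str C.pw (C.U a)).hom ν * w a), fun a b => ?_⟩
    · have e := hcoc n a b d V ha hb hd
      simp only [rf_mul, str_rf]
      linear_combination (str C.pw V).hom ν * e
    · let T := C.U a ⊓ C.U b
      refine sub_eq_zero.1 (eq_zero_of_mul_str C hx (hUab a b) _ ?_)
      have e1 := congrArg (rf (X := C.W) (inf_le_left : T ≤ C.U a)) (hw a)
      have e2 := congrArg (rf (X := C.W) (inf_le_right : T ≤ C.U b)) (hw b)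
      have e3 := hrel n a b
      have e4 := hrel 0 a b
      have e5 : (str C.pw T).hom ν * (str C.pw T).hom ρ = 1 := by rw [← map_mul, hν, map_one]
      simp only [rf_mul, rf_sub, str_rf] at e1 e2
      simp only [rf, map_neg, map_mul]
      rw [map_pow, pow_succ] at e3
      rw [zero_add, pow_one] at e4
      simp only [map_pow, zero_add, pow_one]
      change (str C.pw T).hom x * (hδ 0 a b - (str C.pw T).hom x ^ n * ((str C.pw T).hom ν * hδ n a b) -
        (-(rf inf_le_left ((str C.pw (C.U a)).hom ν) * rf inf_le_left (w a)) -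
          C.c.u a b * -(rf inf_le_right ((str C.pw (C.U b)).hom ν) * rf inf_le_right (w b)))) = 0
      rw [str_rf, str_rf]
      linear_combination (str C.pw T).hom ν * e1 - (str C.pw T).hom ν * C.c.u a b * e2 +
        (str C.pw T).hom ν * e3 - e4 -
          (rf (inf_le_left : T ≤ C.U a) (α 0 a) - C.c.u a b * rf (inf_le_right : T ≤ C.U b) (α 0 b)) * e5
  obtain ⟨w, hw⟩ := hg1
  let s : ∀ a, Γ(C.W, C.U a) := fun a => α 0 a - (str C.pw (C.U a)).hom x * w a
  have hs : ∀ a b, rf inf_le_left (s a) = C.c.u a b * rf inf_le_right (s b) := by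
    intro a b
    simp only [s, rf_sub, rf_mul, str_rf]
    have e4 := hrel 0 a b
    rw [hw a b, zero_add, pow_one] at e4
    linear_combination e4
  -- `s` has no zero near the closed fibre, hence none
  have hclosed : ∀ a, ∀ z : C.W, z ∈ C.U a → C.pw z = closedPoint R → z ∈ C.W.basicOpen (s a) := by
    intro a z hz hzc
    let q := quot (Ideal.span {x ^ (0 + 1)})
    obtain ⟨z', hz'⟩ : ∃ z' : C.bcW q, g₁ z' = z := by
      obtain ⟨c, hc⟩ : ∃ c : Spec (CommRingCat.of (R ⧸ Ideal.span {x ^ (0 + 1)})), q c = closedPoint R := by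
        haveI : Nontrivial (R ⧸ Ideal.span {x ^ (0 + 1)}) := Ideal.Quotient.nontrivial_iff.2 fun e =>
          (maximalIdeal.isMaximal R).ne_top (top_le_iff.1 (e.symm.trans_le
            ((Ideal.span_singleton_le_iff_mem _).2 (by simpa using hxm))))
        obtain ⟨M, hM⟩ := Ideal.exists_maximal (R ⧸ Ideal.span {x ^ (0 + 1)})
        refine ⟨⟨M, hM.isPrime⟩, PrimeSpectrum.ext ?_⟩
        exact IsLocalRing.eq_maximalIdeal (Ideal.comap_isMaximal_of_surjective _ Ideal.Quotient.mk_surjective)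
      obtain ⟨z', hz', -⟩ := Scheme.Pullback.exists_preimage_pullback z c
        (f := C.pw) (g := q) (hzc.trans hc.symm)
      exact ⟨z', hz'⟩
    have h1 : (g₁.app (C.U a)).hom (s a) = (g₁.app (C.U a)).hom (α 0 a) := by
      simp only [s, map_sub, sub_eq_self, map_mul]
      refine mul_eq_zero_of_left ?_ _
      refine (hker 1 _ (C.hU a) _).2 ⟨1, by rw [pow_one, mul_one]⟩
    have h2 : z' ∈ g₁ ⁻¹ᵁ C.W.basicOpen (s a) := by
      rw [Scheme.preimage_basicOpen, h1]
      rw [Scheme.basicOpen_of_isUnit _ (hαu 0 a)]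
      show g₁ z' ∈ C.U a
      rw [hz']; exact hz
    have h3 : g₁ z' ∈ C.W.basicOpen (s a) := h2
    rwa [hz'] at h3
  let O : C.W.Opens := ⨆ a, C.W.basicOpen (s a)
  have hOa : ∀ a, O ⊓ C.U a = C.W.basicOpen (s a) := by
    intro a
    refine le_antisymm ?_ (le_inf (le_iSup (fun a => C.W.basicOpen (s a)) a) (C.W.basicOpen_le _))
    rintro z ⟨hzO, hza⟩
    obtain ⟨b, hb⟩ := Opens.mem_iSup.1 hzO
    have hzb : z ∈ C.U b := C.W.basicOpen_le _ hb
    have h1 : z ∈ C.W.basicOpen (rf (inf_le_right : C.U a ⊓ C.U b ≤ C.U b) (s b)) := by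
      show z ∈ C.W.basicOpen (C.W.presheaf.map _ (s b))
      rw [Scheme.basicOpen_res]
      exact ⟨⟨hza, hzb⟩, hb⟩
    have h2 : z ∈ C.W.basicOpen (rf (inf_le_left : C.U a ⊓ C.U b ≤ C.U a) (s a)) := by
      rw [hs a b, Scheme.basicOpen_mul]
      refine ⟨?_, h1⟩
      have hu : IsUnit (C.c.u a b) := by
        have h1 := C.c.trans a b a (C.U a ⊓ C.U b) inf_le_left inf_le_right inf_le_left
        have h2 := C.c.self a (C.U a ⊓ C.U b) (le_inf inf_le_left inf_le_left)
        rw [rf_self, h2] at h1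
        exact IsUnit.of_mul_eq_one _ h1
      rw [Scheme.basicOpen_of_isUnit _ hu]
      exact ⟨hza, hzb⟩
    have h2' : z ∈ C.W.basicOpen (C.W.presheaf.map (homOfLE (inf_le_left : C.U a ⊓ C.U b ≤ C.U a)).op (s a)) := h2
    rw [Scheme.basicOpen_res] at h2'
    exact h2'.2
  have hO : O = ⊤ := by
    by_contra hne
    obtain ⟨z, hz⟩ : ((O : Set C.W)ᶜ).Nonempty := by
      rw [Set.nonempty_compl]
      exact fun e => hne (Opens.ext e)
    have hcl : IsClosed (C.pw '' (O : Set C.W)ᶜ) := C.pw.isClosedMap _ O.2.isClosed_compl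
    obtain ⟨z', hz', hz'c⟩ := (IsLocalRing.specializes_closedPoint (C.pw z)).mem_closed hcl ⟨z, hz, rfl⟩
    obtain ⟨a, ha⟩ := Opens.mem_iSup.1 (show z' ∈ iSup C.U by rw [C.hUc]; trivial)
    exact hz' ((hOa a).ge (hclosed a z' ha hz'c)).1
  refine ⟨fun a => (show Γ(C.W, C.U a) from s a), fun a => ?_, fun a b => ?_⟩
  · refine C.W.toRingedSpace.isUnit_of_isUnit_germ _ _ fun z hz => ?_
    have : z ∈ C.W.basicOpen (s a) := (hOa a).le ⟨by rw [hO]; trivial, hz⟩
    exact (C.W.mem_basicOpen (s a) z hz).1 this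
  · exact hs a b

end

end Groth.Agent.Lib.Cube.Regular
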