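import Groth.Agent.Lib.Cube.Ctx
import Groth.Agent.Lib.Cube.AffineBC
import Groth.Agent.Lib.Cube.H1Prod
import Mathlib.RingTheory.Flat.EquationalCriterion

/-!
# The infinitesimal step of the theorem of the cube

Over a local ring `R` with an ideal `J` killed by the maximal ideal, a cocycle trivial on both
slices and modulo `J` is trivial.
-/

set_option autoImplicit false

universe u

open CategoryTheory CategoryTheory.Limits AlgebraicGeometry TopologicalSpace IsLocalRing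

namespace Groth.Agent.Lib.Cube.Small

open Groth.Agent.Lib.TensorMod.Dual (rf rf_rf rf_self)
open Groth.Agent.Lib.Cube.Triv Groth.Agent.Lib.Cube.Cech1 Groth.Agent.Lib.Cube.AffineBC

noncomputable section

variable {R : CommRingCat.{u}}

/-- The closed subscheme of the base cut out by an ideal. -/
abbrev quot (J : Ideal R) : Spec (CommRingCat.of (R ⧸ J)) ⟶ Spec R :=
  Spec.map (CommRingCat.ofHom (Ideal.Quotient.mk J))

/-- The closed point. -/
abbrev res (R : CommRingCat.{u}) [IsLocalRing R] : Spec (CommRingCat.of (ResidueField R)) ⟶ Spec R :=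
  Spec.map (CommRingCat.ofHom (residue R))

variable {W P : Scheme.{u}} (p : W ⟶ Spec R)

theorem str_rf {A B : W.Opens} (h : A ≤ B) (r : R) : rf h ((str p B).hom r) = (str p A).hom r := by
  have e : str p B ≫ W.presheaf.map (homOfLE h).op = str p A := by
    simp only [AffineBC.str, Category.assoc, Scheme.Hom.appLE_map]
  exact ConcreteCategory.congr_hom e r

theorem str_app {Q : Scheme.{u}} {q : Q ⟶ Spec R} (f : Q ⟶ W) (hq : f ≫ p = q) (A : W.Opens) (r : R) :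
    (f.app A).hom ((str p A).hom r) = (str q (f ⁻¹ᵁ A)).hom r := by
  have e : str p A ≫ f.app A = str q (f ⁻¹ᵁ A) := by
    simp only [AffineBC.str, Category.assoc, Scheme.Hom.app_eq_appLE, Scheme.Hom.appLE_comp_appLE, hq]
  exact ConcreteCategory.congr_hom e r

theorem app_congr {f f' : P ⟶ W} (e : f = f') (V : W.Opens) (x : Γ(W, V)) :
    (f.app V).hom x = rf (e ▸ le_rfl : f ⁻¹ᵁ V ≤ f' ⁻¹ᵁ V) ((f'.app V).hom x) := by
  subst e
  exact (rf_self le_rfl _).symm

theorem rf_map {J : Ideal R} {A B : W.Opens} (h : A ≤ B) {x : Γ(W, B)}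
    (hx : x ∈ J.map (str p B).hom) : rf h x ∈ J.map (str p A).hom := by
  have e : str p B ≫ W.presheaf.map (homOfLE h).op = str p A := by
    simp only [AffineBC.str, Category.assoc, Scheme.Hom.appLE_map]
  rw [← e, CommRingCat.hom_comp, ← Ideal.map_map]
  exact Ideal.mem_map_of_mem _ hx

theorem app_map {Q : Scheme.{u}} {q : Q ⟶ Spec R} (f : Q ⟶ W) (hq : f ≫ p = q) {J : Ideal R}
    {A : W.Opens} {x : Γ(W, A)} (hx : x ∈ J.map (str p A).hom) :
    (f.app A).hom x ∈ J.map (str q (f ⁻¹ᵁ A)).hom := by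
  have e : str p A ≫ f.app A = str q (f ⁻¹ᵁ A) := by
    simp only [AffineBC.str, Category.assoc, Scheme.Hom.app_eq_appLE, Scheme.Hom.appLE_comp_appLE, hq]
  rw [← e, CommRingCat.hom_comp, ← Ideal.map_map]
  exact Ideal.mem_map_of_mem _ hx

section Algebra

theorem exists_gens (J m : Ideal R) [IsLocalRing R] [IsNoetherianRing R] (hm : maximalIdeal R = m) :
    ∃ (n : ℕ) (g : Fin n → R), Ideal.span (Set.range g) = J ∧
      ∀ c : Fin n → R, ∑ β, c β * g β = 0 → ∀ β, c β ∈ m := by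
  classical
  have hex : ∃ n, ∃ g : Fin n → R, Ideal.span (Set.range g) = J :=
    Submodule.fg_iff_exists_fin_generating_family.1 (IsNoetherian.noetherian J)
  obtain ⟨g, hg⟩ := Nat.find_spec hex
  refine ⟨_, g, hg, fun c hc β => ?_⟩
  by_contra hβ
  rw [← hm] at hβ
  have hu : IsUnit (c β) := notMem_maximalIdeal.1 hβ
  rcases hn : Nat.find hex with - | n
  · exact (Fin.cast hn β).elim0
  · let e : Fin n → Fin (Nat.find hex) := fun a => Fin.cast hn.symm ((Fin.cast hn β).succAbove a)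
    refine Nat.find_min hex (by omega : n < Nat.find hex) ⟨g ∘ e, le_antisymm ((Ideal.span_mono (Set.range_comp_subset_range e g)).trans hg.le) (hg.ge.trans (Ideal.span_le.2 ?_))⟩
    rintro _ ⟨a, rfl⟩
    by_cases ha : a = β
    · subst ha
      have hs : c a * g a = -∑ b ∈ Finset.univ.erase a, c b * g b := by
        rw [eq_neg_iff_add_eq_zero, Finset.add_sum_erase _ (fun b => c b * g b) (Finset.mem_univ a)]
        exact hc
      have : c a * g a ∈ Ideal.span (Set.range (g ∘ e)) := by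
        rw [hs]
        refine neg_mem (Ideal.sum_mem _ fun b hb => Ideal.mul_mem_left _ _ (Ideal.subset_span ?_))
        obtain ⟨b', hb'⟩ := Fin.exists_succAbove_eq (x := Fin.cast hn b) (y := Fin.cast hn a)
          (fun h => (Finset.mem_erase.1 hb).1 (Fin.cast_injective hn h))
        exact ⟨b', by simp [e, hb']⟩
      obtain ⟨v, hv⟩ := hu
      have := Ideal.mul_mem_left _ (↑v⁻¹ : R) this
      rwa [← hv, ← mul_assoc, Units.inv_mul, one_mul] at this
    · refine Ideal.subset_span ?_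
      obtain ⟨b', hb'⟩ := Fin.exists_succAbove_eq (x := Fin.cast hn a) (y := Fin.cast hn β)
        (fun h => ha (Fin.cast_injective hn h))
      exact ⟨b', by simp [e, hb']⟩

theorem mem_map_of_sum_eq_zero {B : Type u} [CommRing B] (φ : R →+* B) (hφ : φ.Flat) (m : Ideal R)
    {n : ℕ} (g : Fin n → R) (hg : ∀ c : Fin n → R, ∑ β, c β * g β = 0 → ∀ β, c β ∈ m)
    (b : Fin n → B) (h : ∑ β, φ (g β) * b β = 0) (β : Fin n) : b β ∈ m.map φ := by
  algebraize [φ]
  haveI : Module.Flat R B := hφ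
  obtain ⟨k, a, y, hb, ha⟩ := Module.Flat.isTrivialRelation_of_sum_smul_eq_zero (M := B)
    (f := g) (x := b) ((Finset.sum_congr rfl fun i _ => Algebra.smul_def _ _).trans h)
  rw [hb β]
  refine Ideal.sum_mem _ fun j _ => ?_
  rw [Algebra.smul_def]
  refine Ideal.mul_mem_right _ _ (Ideal.mem_map_of_mem φ (hg (fun i => a i j) ?_ β))
  rw [← ha j]
  exact Finset.sum_congr rfl fun i _ => mul_comm _ _

theorem exists_sum {B : Type u} [CommRing B] (φ : R →+* B) {n : ℕ} (g : Fin n → R) (J : Ideal R)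
    (hg : Ideal.span (Set.range g) = J) {x : B} (hx : x ∈ J.map φ) :
    ∃ b : Fin n → B, ∑ β, φ (g β) * b β = x := by
  rw [← hg, Ideal.map_span, ← Set.range_comp] at hx
  obtain ⟨b, hb⟩ := (Ideal.mem_span_range_iff_exists_fun).1 hx
  exact ⟨b, by rw [← hb]; exact Finset.sum_congr rfl fun i _ => mul_comm _ _⟩

theorem mul_eq_zero_of_mem {B : Type u} [CommRing B] (φ : R →+* B) {I J : Ideal R} (h : I * J = ⊥)
    {x y : B} (hx : x ∈ I.map φ) (hy : y ∈ J.map φ) : x * y = 0 := by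
  have := Ideal.mul_mem_mul hx hy
  rwa [← Ideal.map_mul, h, Ideal.map_bot, Ideal.mem_bot] at this

theorem isUnit_of_sub {B : Type u} [CommRing B] {x y : B} (hy : IsUnit y) (h : (x - y) * (x - y) = 0) :
    IsUnit x := by
  obtain ⟨v, rfl⟩ := hy
  have hn : IsNilpotent (↑v⁻¹ * (x - v)) := ⟨2, by rw [pow_two]; linear_combination (↑v⁻¹ * ↑v⁻¹ : B) * h⟩
  have h1 := hn.isUnit_one_add
  have : x = (v : B) * (1 + ↑v⁻¹ * (x - v)) := by
    rw [mul_add, ← mul_assoc, Units.mul_inv]; ring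
  rw [this]
  exact v.isUnit.mul h1

end Algebra

theorem flat_str [Flat p] {V : W.Opens} (hV : IsAffineOpen V) : (str p V).hom.Flat := by
  have h := HasRingHomProperty.appLE (P := @Flat) p inferInstance ⟨⊤, isAffineOpen_top _⟩ ⟨V, hV⟩ le_top
  rw [AffineBC.str, CommRingCat.hom_comp]
  exact RingHom.Flat.respectsIso.2 _ (Scheme.ΓSpecIso R).symm.commRingCatIsoToRingEquiv h

variable [IsLocalRing R] [IsNoetherianRing R] (J : Ideal R) (hJm : maximalIdeal R * J = ⊥)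
  (hJ1 : J ≤ maximalIdeal R)

include hJm hJ1 in
theorem JJ : J * J = ⊥ :=
  le_bot_iff.1 ((Ideal.mul_mono_left hJ1).trans_eq hJm)

/-- The reduction of a function to the closed fibre. -/
theorem app_eq_zero {g : P ⟶ W} {p' : P ⟶ Spec (CommRingCat.of (ResidueField R))}
    (H : IsPullback g p' p (res R)) {V : W.Opens} (hV : IsAffineOpen V) (x : Γ(W, V)) :
    (g.app V).hom x = 0 ↔ x ∈ (maximalIdeal R).map (str p V).hom := by
  have h := (app_surjective H hV residue_surjective).2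
  rw [← RingHom.mem_ker, h]
  have : RingHom.ker (CommRingCat.ofHom (residue R)).hom = maximalIdeal R := IsLocalRing.ker_residue
  rw [this]

section Slice

variable (C : Ctx (Spec R)) {Y : Scheme.{u}} (py : Y ⟶ Spec R) [IsProper py] [Flat py]
  (hy : H2.Rigid.H0 py) (y₀ : Spec R ⟶ Y) (hy₀ : y₀ ≫ py = 𝟙 _) (i : Y ⟶ C.W) [IsClosedImmersion i]
  (hi : i ≫ C.pw = py) (hT : TrivAlong C.c i)
  (α : ∀ a, Γ(C.W, C.U a)) (hα : ∀ a, IsUnit (α a)) (γ : ∀ a b, Γ(C.W, C.U a ⊓ C.U b))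
  (hγ : ∀ a b, γ a b ∈ J.map (str C.pw (C.U a ⊓ C.U b)).hom)
  (hrel : ∀ a b, rf inf_le_left (α a) = C.c.u a b * rf inf_le_right (α b) * (1 + γ a b))

include hJm hJ1 hy hy₀ hi hT hα hγ hrel in
theorem exists_omega : ∃ ω : ∀ a, Γ(Y, i ⁻¹ᵁ C.U a),
    (∀ a, ω a ∈ J.map (str py (i ⁻¹ᵁ C.U a)).hom) ∧
      ∀ a b, (i.app (C.U a ⊓ C.U b)).hom (γ a b) =
        rf (pre_mono i inf_le_left) (ω a) - rf (pre_mono i inf_le_right) (ω b) := by
  obtain ⟨σ, hσ, hσe⟩ := hT
  let s : ∀ a, Γ(Y, i ⁻¹ᵁ C.U a) := fun a => ↑(hσ a).unit⁻¹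
  let r : ∀ a, Γ(Y, i ⁻¹ᵁ C.U a) := fun a => (i.app (C.U a)).hom (α a) * s a
  let iγ := fun a b => (i.app (C.U a ⊓ C.U b)).hom (γ a b)
  have hiγ : ∀ a b, iγ a b ∈ J.map (str py (i ⁻¹ᵁ (C.U a ⊓ C.U b))).hom := fun a b =>
    app_map C.pw i hi (hγ a b)
  have hα' : ∀ a, (i.app (C.U a)).hom (α a) = σ a * r a := fun a => by
    show _ = σ a * (_ * ↑(hσ a).unit⁻¹)
    rw [mul_left_comm, IsUnit.mul_val_inv, mul_one]
  have hrr : ∀ a b, rf (pre_mono i inf_le_left) (r a) =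
      rf (pre_mono i inf_le_right) (r b) * (1 + iγ a b) := by
    intro a b
    have e := congrArg (fun t => (i.app (C.U a ⊓ C.U b)).hom t) (hrel a b)
    simp only [map_mul, map_add, map_one] at e
    erw [app_rf, app_rf] at e
    have e' : rf (pre_mono i inf_le_left) (σ a * r a) = (i.app (C.U a ⊓ C.U b)).hom (C.c.u a b) *
        rf (pre_mono i inf_le_right) (σ b * r b) * (1 + iγ a b) := by
      rw [← hα', ← hα']; exact e
    clear e
    rw [rf_mul _ (σ a) (r a), rf_mul _ (σ b) (r b), hσe a b] at e'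
    refine (((hσ b).map (Y.presheaf.map (homOfLE (pre_mono i (inf_le_right : C.U a ⊓ C.U b ≤ C.U b))).op).hom).mul_right_inj).1 ?_
    refine (((C.c.self a (C.U a ⊓ C.U a) le_rfl) |> fun _ => ?_))
    have hu : IsUnit ((i.app (C.U a ⊓ C.U b)).hom (C.c.u a b)) := by
      have h1 := C.c.trans a b a (C.U a ⊓ C.U b) inf_le_left inf_le_right inf_le_left
      have h2 := C.c.self a (C.U a ⊓ C.U b) (le_inf inf_le_left inf_le_left)
      rw [rf_self, h2] at h1
      exact (IsUnit.of_mul_eq_one _ h1).map _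
    refine hu.mul_right_inj.1 ?_
    linear_combination e'
  -- a constant with the same reduction
  let φ := quot J
  let g := pullback.fst py φ
  have hg : IsPullback g (pullback.snd py φ) py φ := IsPullback.of_hasPullback _ _
  haveI : IsAffineHom i := inferInstance
  have haff : ∀ a, IsAffineOpen (i ⁻¹ᵁ C.U a) := fun a => (C.hU a).preimage i
  have hker : ∀ (V : Y.Opens), IsAffineOpen V → ∀ x : Γ(Y, V),
      (g.app V).hom x = 0 ↔ x ∈ J.map (str py V).hom := by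
    intro V hV x
    rw [← RingHom.mem_ker, (app_surjective hg hV Ideal.Quotient.mk_surjective).2]
    have : RingHom.ker (CommRingCat.ofHom (Ideal.Quotient.mk J)).hom = J := Ideal.mk_ker
    rw [this]
  have hcov : (⊤ : Y.Opens) ≤ iSup fun a => i ⁻¹ᵁ C.U a := by
    rw [← Scheme.Hom.preimage_iSup, C.hUc, Scheme.Hom.preimage_top]
  haveI : Y.IsSeparated := ⟨by rw [← Limits.terminal.comp_from py]; infer_instance⟩
  obtain ⟨T, hT'⟩ := fun_glue (fun a => g ⁻¹ᵁ (i ⁻¹ᵁ C.U a)) (A := ⊤)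
    (by
      rw [← Scheme.Hom.preimage_iSup]
      exact fun z _ => hcov (Opens.mem_top (g z)))
    (fun a => rf inf_le_right ((g.app _).hom (r a)))
    fun a b V ha hb => by
      rw [rf_rf, rf_rf]
      have hab : i ⁻¹ᵁ C.U a ⊓ i ⁻¹ᵁ C.U b = i ⁻¹ᵁ (C.U a ⊓ C.U b) := rfl
      have hV : V ≤ g ⁻¹ᵁ (i ⁻¹ᵁ (C.U a ⊓ C.U b)) := le_inf (ha.trans inf_le_right) (hb.trans inf_le_right)
      have h0 : (g.app (i ⁻¹ᵁ (C.U a ⊓ C.U b))).hom
          (rf (pre_mono i inf_le_left) (r a) - rf (pre_mono i inf_le_right) (r b)) = 0 := by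
        refine (hker _ ((haff a).inf (haff b)) _).2 ?_
        rw [hrr, mul_add, mul_one, add_sub_cancel_left]
        exact Ideal.mul_mem_left _ _ (hiγ a b)
      rw [map_sub, sub_eq_zero] at h0
      have h0' := congrArg (rf (X := pullback py φ) hV) h0
      erw [app_rf, app_rf, rf_rf, rf_rf] at h0'
      exact h0'
  haveI : IsNoetherianRing (R ⧸ J) := inferInstance
  haveI : Surjective (pullback.snd py φ) := ⟨fun t => by
    refine ⟨pullback.lift (φ ≫ y₀) (𝟙 _) (by rw [Category.assoc, hy₀, Category.comp_id, Category.id_comp]) t, ?_⟩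
    rw [← Scheme.Hom.comp_apply, pullback.lift_snd]
    rfl⟩
  obtain ⟨t, ht⟩ := (H2.Rigid.appTop_bijective (pullback.snd py φ) (hy.pullback_snd py φ)).2 T
  obtain ⟨ρ, hρ⟩ : ∃ ρ : R, ∀ a, r a - (str py (i ⁻¹ᵁ C.U a)).hom ρ ∈ J.map (str py (i ⁻¹ᵁ C.U a)).hom := by
    obtain ⟨ρ, hρ⟩ := Ideal.Quotient.mk_surjective ((Scheme.ΓSpecIso (CommRingCat.of (R ⧸ J))).hom.hom t)
    refine ⟨ρ, fun a => (hker _ (haff a) _).1 ?_⟩
    rw [map_sub, sub_eq_zero]
    have h1 := hT' a (g ⁻¹ᵁ (i ⁻¹ᵁ C.U a)) le_top le_rfl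
    rw [← ht] at h1
    have h2 : (g.app (i ⁻¹ᵁ C.U a)).hom ((str py (i ⁻¹ᵁ C.U a)).hom ρ) =
        (str (pullback.snd py φ) (g ⁻¹ᵁ (i ⁻¹ᵁ C.U a))).hom (Ideal.Quotient.mk J ρ) :=
      ConcreteCategory.congr_hom (isPushout hg (haff a)).w ρ
    rw [h2, hρ]
    erw [rf_rf, rf_self] at h1
    refine h1.symm.trans ?_
    show _ = ((Scheme.ΓSpecIso _).hom ≫ str (pullback.snd py φ) _) t
    rw [AffineBC.str, Iso.hom_inv_id_assoc, Scheme.Hom.appLE]
    rfl
  have hρu : IsUnit ρ := by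
    obtain ⟨a, ha⟩ := Opens.mem_iSup.1 (show i (y₀ (closedPoint R)) ∈ iSup C.U by rw [C.hUc]; trivial)
    have htop : (⊤ : (Spec R).Opens) ≤ y₀ ⁻¹ᵁ (i ⁻¹ᵁ C.U a) := fun z _ =>
      (IsLocalRing.specializes_closedPoint z).mem_open (y₀ ⁻¹ᵁ (i ⁻¹ᵁ C.U a)).2 ha
    let ev := y₀.appLE (i ⁻¹ᵁ C.U a) ⊤ htop ≫ (Scheme.ΓSpecIso R).hom
    have hev : str py (i ⁻¹ᵁ C.U a) ≫ ev = 𝟙 _ := by
      simp only [ev, AffineBC.str, Category.assoc, Scheme.Hom.appLE_comp_appLE_assoc]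
      rw [H1Prod.appLE_of_eq hy₀]
      exact (congrArg (_ ≫ ·) (Category.id_comp _)).trans (Iso.inv_hom_id _)
    have h1 : IsUnit (ev.hom (r a)) := ((((hα a).map (i.app (C.U a)).hom).mul (Units.isUnit _))).map _
    have h2 : ev.hom (r a - (str py (i ⁻¹ᵁ C.U a)).hom ρ) ∈ J := by
      have h3 := Ideal.mem_map_of_mem ev.hom (hρ a)
      rw [Ideal.map_map, ← CommRingCat.hom_comp, hev] at h3
      simpa using h3
    rw [map_sub, show ev.hom ((str py (i ⁻¹ᵁ C.U a)).hom ρ) = ρ from ConcreteCategory.congr_hom hev ρ] at h2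
    by_contra hc
    exact (mem_maximalIdeal _).1 (by simpa using add_mem (hJ1 h2) ((mem_maximalIdeal ρ).2 hc)) h1
  let ν : R := ↑hρu.unit⁻¹
  have hν : ∀ (V : Y.Opens), (str py V).hom ν * (str py V).hom ρ = 1 := fun V => by
    rw [← map_mul, IsUnit.val_inv_mul, map_one]
  refine ⟨fun a => (str py (i ⁻¹ᵁ C.U a)).hom ν * (r a - (str py (i ⁻¹ᵁ C.U a)).hom ρ),
    fun a => Ideal.mul_mem_left _ _ (hρ a), fun a b => ?_⟩
  have e := hrr a b
  have hz : rf (pre_mono i (inf_le_right : C.U a ⊓ C.U b ≤ C.U b))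
      (r b - (str py (i ⁻¹ᵁ C.U b)).hom ρ) * iγ a b = 0 :=
    mul_eq_zero_of_mem _ (JJ J hJm hJ1) (rf_map py _ (hρ b)) (hiγ a b)
  rw [rf_sub, str_rf] at hz
  rw [rf_mul, rf_mul, rf_sub, rf_sub, str_rf, str_rf, str_rf, str_rf, ← mul_sub]
  have h4 := hν (i ⁻¹ᵁ (C.U a ⊓ C.U b))
  show iγ a b = _
  linear_combination (-(str py (i ⁻¹ᵁ (C.U a ⊓ C.U b))).hom ν) * e -
    iγ a b * h4 - (str py (i ⁻¹ᵁ (C.U a ⊓ C.U b))).hom ν * hz

end Slice

include hJm hJ1 in
/-- The small extension step. -/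
theorem trivAlong_of_small (C : Ctx (Spec R)) (h : TrivAlong C.c (C.bcMap (quot J))) :
    TrivAlong C.c (𝟙 C.W) := by
  haveI := C.isSeparated
  obtain ⟨v, hv, hve⟩ := h
  let g := C.bcMap (quot J)
  have hg : IsPullback g (C.bcBase (quot J)) C.pw (quot J) := IsPullback.of_hasPullback _ _
  have hUab : ∀ a b, IsAffineOpen (C.U a ⊓ C.U b) := fun a b => (C.hU a).inf (C.hU b)
  have hker : ∀ (V : C.W.Opens), IsAffineOpen V → ∀ x : Γ(C.W, V),
      (g.app V).hom x = 0 ↔ x ∈ J.map (str C.pw V).hom := by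
    intro V hV x
    rw [← RingHom.mem_ker, (app_surjective hg hV Ideal.Quotient.mk_surjective).2]
    have : RingHom.ker (CommRingCat.ofHom (Ideal.Quotient.mk J)).hom = J := Ideal.mk_ker
    rw [this]
  choose α hαv using fun a => (app_surjective hg (C.hU a) Ideal.Quotient.mk_surjective).1 (v a)
  have hJJ := JJ J hJm hJ1
  have hα : ∀ a, IsUnit (α a) := by
    intro a
    obtain ⟨β, hβ⟩ := (app_surjective hg (C.hU a) Ideal.Quotient.mk_surjective).1 ↑(hv a).unit⁻¹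
    refine isUnit_of_mul_isUnit_left (y := β) (isUnit_of_sub isUnit_one ?_)
    have h0 : α a * β - 1 ∈ J.map (str C.pw (C.U a)).hom := by
      refine (hker _ (C.hU a) _).1 ?_
      rw [map_sub, map_mul, map_one, hαv, hβ]
      exact sub_eq_zero.2 (IsUnit.mul_val_inv _)
    exact mul_eq_zero_of_mem _ hJJ h0 h0
  have huu : ∀ a b, IsUnit (C.c.u a b) := fun a b => by
    have h1 := C.c.trans a b a (C.U a ⊓ C.U b) inf_le_left inf_le_right inf_le_left
    have h2 := C.c.self a (C.U a ⊓ C.U b) (le_inf inf_le_left inf_le_left)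
    rw [rf_self, h2] at h1
    exact IsUnit.of_mul_eq_one _ h1
  have hγ' : ∀ a b, ∃ γ : Γ(C.W, C.U a ⊓ C.U b), γ ∈ J.map (str C.pw (C.U a ⊓ C.U b)).hom ∧
      rf inf_le_left (α a) = C.c.u a b * rf inf_le_right (α b) * (1 + γ) := by
    intro a b
    let e := C.c.u a b * rf (inf_le_right : C.U a ⊓ C.U b ≤ C.U b) (α b)
    have he : IsUnit e := (huu a b).mul ((hα b).map _)
    refine ⟨↑he.unit⁻¹ * (rf inf_le_left (α a) - e), Ideal.mul_mem_left _ _ ((hker _ (hUab a b) _).1 ?_), ?_⟩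
    · simp only [e, map_sub, map_mul]
      erw [app_rf, app_rf, hαv, hαv]
      exact sub_eq_zero.2 (hve a b)
    · show _ = e * _
      rw [mul_add, mul_one, ← mul_assoc, IsUnit.mul_val_inv, one_mul, add_sub_cancel]
  choose γ hγ hrel using hγ'
  have hγc : IsCoc γ := by
    have key : ∀ a b d, ∀ (V : C.W.Opens) (ha : V ≤ C.U a) (hb : V ≤ C.U b) (hd : V ≤ C.U d),
        rf (le_inf ha hb) (γ a b) + rf (le_inf hb hd) (γ b d) = rf (le_inf ha hd) (γ a d) := by
      intro a b d V ha hb hd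
      have e1 := congrArg (rf (X := C.W) (le_inf ha hb)) (hrel a b)
      have e2 := congrArg (rf (X := C.W) (le_inf hb hd)) (hrel b d)
      have e3 := congrArg (rf (X := C.W) (le_inf ha hd)) (hrel a d)
      simp only [rf_mul, rf_add, rf_rf] at e1 e2 e3
      simp only [rf, map_one] at e1 e2 e3
      have ht := C.c.trans a b d V ha hb hd
      have hz : rf (le_inf ha hb) (γ a b) * rf (le_inf hb hd) (γ b d) = 0 :=
        mul_eq_zero_of_mem _ hJJ (rf_map C.pw _ (hγ a b)) (rf_map C.pw _ (hγ b d))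
      have hu : IsUnit (rf (le_inf ha hd) (C.c.u a d) * rf hd (α d)) :=
        ((huu a d).map _).mul ((hα d).map _)
      refine hu.mul_right_inj.1 ?_
      simp only [rf] at ht hz ⊢
      rw [e2] at e1
      rw [e3] at e1
      linear_combination -e1 -
        ((C.W.presheaf.map (homOfLE hd).op) (α d) * (1 +
          (C.W.presheaf.map (homOfLE (le_inf ha hb)).op) (γ a b) +
          (C.W.presheaf.map (homOfLE (le_inf hb hd)).op) (γ b d))) * ht -
        ((C.W.presheaf.map (homOfLE (le_inf ha hb)).op) (C.c.u a b) *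
          (C.W.presheaf.map (homOfLE (le_inf hb hd)).op) (C.c.u b d) *
          (C.W.presheaf.map (homOfLE hd).op) (α d)) * hz
    exact key
  obtain ⟨ωi, hωi, hωi'⟩ := exists_omega J hJm hJ1 C C.py C.hy C.y₀ C.hy₀ C.i C.i_pw C.hi α hα γ hγ hrel
  obtain ⟨ωj, hωj, hωj'⟩ := exists_omega J hJm hJ1 C C.px C.hx C.x₀ C.hx₀ C.j C.j_pw C.hj α hα γ hγ hrel
  obtain ⟨n, gJ, hgJ, hind⟩ := exists_gens J (maximalIdeal R) rfl
  choose γβ hγβ using fun a b => exists_sum (str C.pw (C.U a ⊓ C.U b)).hom gJ J hgJ (hγ a b)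
  -- the closed fibre
  let C₀ := C.bc (res R)
  let g₀ := C.bcMap (res R)
  have hg₀ : IsPullback g₀ (C.bcBase (res R)) C.pw (res R) := IsPullback.of_hasPullback _ _
  let γ₀ : Fin n → C1 C₀.U := fun β a b => (g₀.app (C.U a ⊓ C.U b)).hom (γβ a b β)
  have hcoc : ∀ β, IsCoc (γ₀ β) := by
    intro β a b d V ha hb hd
    let T := C.U a ⊓ C.U b ⊓ C.U d
    have hT : IsAffineOpen T := (hUab a b).inf (C.hU d)
    have hsum : ∑ β, (str C.pw T).hom (gJ β) *
        (rf inf_le_left (γβ a b β) + rf (le_inf (inf_le_left.trans inf_le_right) inf_le_right) (γβ b d β) -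
          rf (le_inf (inf_le_left.trans inf_le_left) inf_le_right) (γβ a d β)) = 0 := by
      simp only [mul_add, mul_sub, Finset.sum_add_distrib, Finset.sum_sub_distrib]
      have e : ∀ (A : C.W.Opens) (hA : T ≤ A) (x : Fin n → Γ(C.W, A)) (y : Γ(C.W, A)),
          ∑ β, (str C.pw A).hom (gJ β) * x β = y →
          ∑ β, (str C.pw T).hom (gJ β) * rf hA (x β) = rf hA y := by
        intro A hA x y hxy
        rw [← hxy]
        simp only [rf, map_sum, map_mul]
        exact Finset.sum_congr rfl fun β _ => congrArg (· * _) (str_rf C.pw hA _).symm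
      rw [e _ _ _ _ (hγβ a b), e _ _ _ _ (hγβ b d), e _ _ _ _ (hγβ a d), sub_eq_zero]
      exact hγc a b d T (inf_le_left.trans inf_le_left) (inf_le_left.trans inf_le_right) inf_le_right
    have h0 := (app_eq_zero C.pw hg₀ hT _).2
      (mem_map_of_sum_eq_zero _ (flat_str C.pw hT) _ gJ hind _ hsum β)
    simp only [map_add, map_sub, sub_eq_zero] at h0
    erw [app_rf, app_rf, app_rf] at h0
    have h1 := congrArg (rf (X := C.bcW (res R)) (le_inf (le_inf ha hb) hd : V ≤ g₀ ⁻¹ᵁ T)) h0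
    erw [rf_add, rf_rf, rf_rf, rf_rf] at h1
    exact h1
  have hslice : ∀ {Y : Scheme.{u}} (py : Y ⟶ Spec R) [IsProper py] [Flat py] (i : Y ⟶ C.W) [IsClosedImmersion i]
      {Y₀ : Scheme.{u}} (q₀ : Y₀ ⟶ Spec (CommRingCat.of (ResidueField R))) (gY : Y₀ ⟶ Y)
      (_ : IsPullback gY q₀ py (res R)) (i₀ : Y₀ ⟶ C.bcW (res R)) (_ : i₀ ≫ g₀ = gY ≫ i)
      (_ : i ≫ C.pw = py) (ω : ∀ a, Γ(Y, i ⁻¹ᵁ C.U a))
      (_ : ∀ a, ω a ∈ J.map (str py (i ⁻¹ᵁ C.U a)).hom)
      (_ : ∀ a b, (i.app (C.U a ⊓ C.U b)).hom (γ a b) =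
        rf (pre_mono i inf_le_left) (ω a) - rf (pre_mono i inf_le_right) (ω b)) (β : Fin n),
      IsCob (Cech1.comap i₀ (γ₀ β)) := by
    intro Y py _ _ i _ Y₀ q₀ gY hgY i₀ hi₀ hi ω hω hω' β
    haveI : Y.IsSeparated := ⟨by rw [← Limits.terminal.comp_from py]; infer_instance⟩
    have hA : ∀ a, IsAffineOpen (i ⁻¹ᵁ C.U a) := fun a => (C.hU a).preimage i
    choose ωβ hωβ using fun a => exists_sum (str py (i ⁻¹ᵁ C.U a)).hom gJ J hgJ (hω a)
    have hle : ∀ V : C.W.Opens, i₀ ⁻¹ᵁ (g₀ ⁻¹ᵁ V) ≤ gY ⁻¹ᵁ (i ⁻¹ᵁ V) := fun V z hz => by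
      show (gY ≫ i) z ∈ V
      rw [← hi₀]; exact hz
    refine ⟨fun a => rf (hle _) ((gY.app (i ⁻¹ᵁ C.U a)).hom (ωβ a β)), fun a b => ?_⟩
    let T := i ⁻¹ᵁ (C.U a ⊓ C.U b)
    have hsum : ∑ β, (str py T).hom (gJ β) * ((i.app (C.U a ⊓ C.U b)).hom (γβ a b β) -
        (rf (pre_mono i inf_le_left) (ωβ a β) - rf (pre_mono i inf_le_right) (ωβ b β))) = 0 := by
      have e1 : (i.app (C.U a ⊓ C.U b)).hom (γ a b) =
          ∑ β, (str py T).hom (gJ β) * (i.app (C.U a ⊓ C.U b)).hom (γβ a b β) := by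
        rw [← hγβ a b, map_sum]
        exact Finset.sum_congr rfl fun β _ => by rw [map_mul, str_app C.pw i hi]
      have e2 : ∀ c (hc : T ≤ i ⁻¹ᵁ C.U c),
          ∑ β, (str py T).hom (gJ β) * rf hc (ωβ c β) = rf hc (ω c) := fun c hc => by
        rw [← hωβ c]
        simp only [rf, map_sum, map_mul]
        exact Finset.sum_congr rfl fun β _ => congrArg (· * _) (str_rf py hc _).symm
      simp only [mul_sub, Finset.sum_sub_distrib]
      rw [← e1, e2, e2, hω' a b, sub_self]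
    have h0 := (app_eq_zero py hgY ((hA a).inf (hA b)) _).2
      (mem_map_of_sum_eq_zero _ (flat_str py ((hA a).inf (hA b))) _ gJ hind _ hsum β)
    erw [map_sub, map_sub, app_rf, app_rf] at h0
    replace h0 := sub_eq_zero.1 h0
    show (i₀.app _).hom ((g₀.app (C.U a ⊓ C.U b)).hom (γβ a b β)) = _
    refine (app_congr hi₀ (C.U a ⊓ C.U b) (γβ a b β)).trans ?_
    refine (congrArg (rf _) h0).trans ?_
    erw [rf_sub, rf_rf, rf_rf, rf_rf, rf_rf]
    rfl
  have hcob : ∀ β, IsCob (γ₀ β) := fun β =>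
    H1Prod.isCob_of_slices C₀.H C₀.hx C₀.hy C₀.x₀ C₀.hx₀ C₀.y₀ C₀.hy₀ C₀.i C₀.hi₁ C₀.hi₂
      C₀.j C₀.hj₁ C₀.hj₂ C₀.U C₀.hU C₀.hUc (γ₀ β) (hcoc β)
      (hslice C.py C.i (pullback.snd C.py (res R)) (pullback.fst C.py (res R))
        (IsPullback.of_hasPullback _ _) C₀.i (pullback.lift_fst _ _ _) C.i_pw ωi hωi hωi' β)
      (hslice C.px C.j (pullback.snd C.px (res R)) (pullback.fst C.px (res R))
        (IsPullback.of_hasPullback _ _) C₀.j (pullback.lift_fst _ _ _) C.j_pw ωj hωj hωj' β)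
  choose d₀ hd₀ using hcob
  choose d hd using fun (β : Fin n) a => (app_surjective hg₀ (C.hU a) residue_surjective).1 (d₀ β a)
  let w : ∀ a, Γ(C.W, C.U a) := fun a => ∑ β, (str C.pw (C.U a)).hom (gJ β) * d β a
  have hw : ∀ a, w a ∈ J.map (str C.pw (C.U a)).hom := fun a => Ideal.sum_mem _ fun β _ =>
    Ideal.mul_mem_right _ _ (Ideal.mem_map_of_mem _ (hgJ ▸ Ideal.subset_span ⟨β, rfl⟩))
  have hγw : ∀ a b, γ a b = rf inf_le_left (w a) - rf inf_le_right (w b) := by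
    intro a b
    rw [← hγβ a b]
    simp only [w, rf, map_sum, map_mul, ← Finset.sum_sub_distrib]
    refine Finset.sum_congr rfl fun β _ => ?_
    change _ = rf _ _ * rf _ _ - rf _ _ * rf _ _
    rw [str_rf, str_rf, ← mul_sub, ← sub_eq_zero, ← mul_sub]
    have h1 : γβ a b β - (rf inf_le_left (d β a) - rf inf_le_right (d β b)) ∈
        (maximalIdeal R).map (str C.pw (C.U a ⊓ C.U b)).hom := by
      refine (app_eq_zero C.pw hg₀ (hUab a b) _).1 ?_
      simp only [map_sub, sub_eq_zero]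
      erw [app_rf, app_rf, hd, hd]
      exact hd₀ β a b
    rw [mul_comm]
    exact mul_eq_zero_of_mem _ hJm h1 (Ideal.mem_map_of_mem _ (hgJ ▸ Ideal.subset_span ⟨β, rfl⟩))
  refine ⟨fun a => (show Γ(C.W, C.U a) from α a * (1 - w a)), fun a => (hα a).mul (isUnit_of_sub isUnit_one ?_), fun a b => ?_⟩
  · rw [sub_sub_cancel_left, neg_mul_neg]
    exact mul_eq_zero_of_mem _ hJJ (hw a) (hw a)
  · show @Eq Γ(C.W, C.U a ⊓ C.U b) (rf (inf_le_left : C.U a ⊓ C.U b ≤ C.U a) (α a * (1 - w a)))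
      (C.c.u a b * rf (inf_le_right : C.U a ⊓ C.U b ≤ C.U b) (α b * (1 - w b)))
    erw [rf_mul, rf_mul, rf_sub, rf_sub]
    simp only [rf, map_one]
    have e := hrel a b
    rw [hγw] at e
    simp only [rf] at e
    have z1 := mul_eq_zero_of_mem _ hJJ (rf_map C.pw (inf_le_left : C.U a ⊓ C.U b ≤ _) (hw a))
      (rf_map C.pw (inf_le_left : C.U a ⊓ C.U b ≤ _) (hw a))
    have z2 := mul_eq_zero_of_mem _ hJJ (rf_map C.pw (inf_le_right : C.U a ⊓ C.U b ≤ _) (hw b))
      (rf_map C.pw (inf_le_left : C.U a ⊓ C.U b ≤ _) (hw a))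
    simp only [rf] at z1 z2
    linear_combination (1 - (C.W.presheaf.map (homOfLE (inf_le_left : C.U a ⊓ C.U b ≤ _)).op) (w a)) * e +
      C.c.u a b * (C.W.presheaf.map (homOfLE (inf_le_right : C.U a ⊓ C.U b ≤ _)).op) (α b) * (z2 - z1)

end

end Groth.Agent.Lib.Cube.Small
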