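import Groth.Agent.Lib.Cube.Refine

/-!
# Spreading triviality out from a point of the base
-/

set_option autoImplicit false

universe u

open CategoryTheory CategoryTheory.Limits AlgebraicGeometry TopologicalSpace Opposite

namespace Groth.Agent.Lib.Cube.Spread

open Groth.Agent.Lib.TensorMod.Dual (rf rf_rf rf_self)
open Groth.Agent.Lib.Cube.Triv Groth.Agent.Lib.Cube.Cech1 Groth.Agent.Lib.Cube.AffineBC
open Groth.Agent.Lib.Cube.Small (str_rf)
open Groth.Agent.Lib.Cube.Rigid

noncomputable section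

variable {R : CommRingCat.{u}} (C : Ctx (Spec R))

/-- The localisation at a prime. -/
abbrev atPt (p : PrimeSpectrum R) : Spec (CommRingCat.of (Localization.AtPrime p.asIdeal)) ⟶ Spec R :=
  Spec.map (CommRingCat.ofHom (algebraMap R (Localization.AtPrime p.asIdeal)))

theorem isLoc (p : PrimeSpectrum R) :
    @IsLocalization R _ p.asIdeal.primeCompl (CommRingCat.of (Localization.AtPrime p.asIdeal)) _
      (CommRingCat.ofHom (algebraMap R (Localization.AtPrime p.asIdeal))).hom.toAlgebra := by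
  rw [show (CommRingCat.ofHom (algebraMap R (Localization.AtPrime p.asIdeal))).hom.toAlgebra =
    (inferInstanceAs (Algebra R (Localization.AtPrime p.asIdeal)) :
      Algebra R (CommRingCat.of (Localization.AtPrime p.asIdeal))) from Algebra.algebra_ext _ _ fun r => rfl]
  exact (inferInstance : IsLocalization p.asIdeal.primeCompl (Localization.AtPrime p.asIdeal))

theorem rf_zero {W : Scheme.{u}} {A B : W.Opens} (h : A ≤ B) : rf h (0 : Γ(W, B)) = 0 :=
  map_zero (W.presheaf.map (homOfLE h).op).hom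

theorem isUnit_str_basicOpen {W : Scheme.{u}} (q : W ⟶ Spec R) (f : R) :
    IsUnit ((str q (q ⁻¹ᵁ PrimeSpectrum.basicOpen f)).hom f) := by
  let z : Γ(Spec R, ⊤) := (Scheme.ΓSpecIso R).inv.hom f
  have hD : (Spec R).basicOpen z = PrimeSpectrum.basicOpen f := basicOpen_eq_of_affine f
  have hu : IsUnit (rf (le_top : (Spec R).basicOpen z ≤ ⊤) z) :=
    RingedSpace.isUnit_res_basicOpen _ z
  have hle : q ⁻¹ᵁ PrimeSpectrum.basicOpen f ≤ q ⁻¹ᵁ (Spec R).basicOpen z := pre_mono q hD.ge
  have h := isUnit_rf hle (hu.map (q.app _).hom)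
  rw [app_rf, rf_rf] at h
  exact h

/-- Triviality over the local ring of a point spreads out to a neighbourhood. -/
theorem exists_spread [Finite C.ι] (p : PrimeSpectrum R) (h : TrivAlong C.c (C.bcMap (atPt p))) :
    ∃ V : (Spec R).Opens, p ∈ V ∧ ∃ v : ∀ a, Γ(C.W, C.U a ⊓ C.pw ⁻¹ᵁ V),
      (∀ a, IsUnit (v a)) ∧ IsSec C.c (C.pw ⁻¹ᵁ V) v := by
  classical
  haveI := Fintype.ofFinite C.ι
  haveI := C.isSeparated
  obtain ⟨v, hv, he⟩ := h
  choose w hw using fun a => (hv a).exists_right_inv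
  let g := C.bcMap (atPt p)
  let H : IsPullback g (C.bcBase (atPt p)) C.pw (atPt p) := IsPullback.of_hasPullback C.pw (atPt p)
  let φ := algebraMap R (Localization.AtPrime p.asIdeal)
  let gv := str (C.bcBase (atPt p))
  have hd := fun (A : C.W.Opens) (hA : IsAffineOpen A) => exists_den H hA p.asIdeal.primeCompl (isLoc p)
  choose s hs x hx using fun a => (hd _ (C.hU a)).1 (v a)
  choose t ht y hy using fun a => (hd _ (C.hU a)).1 (w a)
  have hg : ∀ (A : C.W.Opens) (_ : IsAffineOpen A) (r : R),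
      (g.app A).hom ((str C.pw A).hom r) = (gv (g ⁻¹ᵁ A)).hom (φ r) :=
    fun A hA r => ConcreteCategory.congr_hom (isPushout H hA).w r
  have hxy : ∀ a, ∃ m ∈ p.asIdeal.primeCompl,
      (str C.pw (C.U a)).hom m * (x a * y a - (str C.pw (C.U a)).hom (s a * t a)) = 0 := fun a =>
    (hd _ (C.hU a)).2 _ (by
      rw [map_sub, sub_eq_zero, map_mul, ← hx, ← hy, hg _ (C.hU a), map_mul, map_mul]
      show (gv _).hom (φ (s a)) * v a * ((gv _).hom (φ (t a)) * w a) = _
      linear_combination (gv _).hom (φ (s a)) * (gv _).hom (φ (t a)) * hw a)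
  have hrel : ∀ a b, ∃ m ∈ p.asIdeal.primeCompl, (str C.pw (C.U a ⊓ C.U b)).hom m *
      ((str C.pw (C.U a ⊓ C.U b)).hom (s b) * rf inf_le_left (x a) -
        C.c.u a b * ((str C.pw (C.U a ⊓ C.U b)).hom (s a) * rf inf_le_right (x b))) = 0 := fun a b =>
    (hd _ ((C.hU a).inf (C.hU b))).2 _ (by
      rw [map_sub, sub_eq_zero, map_mul, map_mul, map_mul, app_rf, app_rf, ← hx, ← hx, rf_mul, rf_mul,
        hg _ ((C.hU a).inf (C.hU b)), hg _ ((C.hU a).inf (C.hU b))]
      erw [str_rf, str_rf]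
      rw [he a b]
      show (gv _).hom (φ (s b)) * ((gv _).hom (φ (s a)) * _) = _ * ((gv _).hom (φ (s a)) * ((gv _).hom (φ (s b)) * _))
      ring)
  choose m hm hm0 using hxy
  choose n hn hn0 using hrel
  let f : R := (∏ a, s a * t a * m a) * ∏ ab : C.ι × C.ι, n ab.1 ab.2
  have hf : f ∈ p.asIdeal.primeCompl :=
    mul_mem (prod_mem fun a _ => mul_mem (mul_mem (hs a) (ht a)) (hm a)) (prod_mem fun ab _ => hn _ _)
  let V : (Spec R).Opens := PrimeSpectrum.basicOpen f
  let O := C.pw ⁻¹ᵁ V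
  have hu : ∀ {r : R}, r ∣ f → ∀ {A : C.W.Opens}, A ≤ O → IsUnit ((str C.pw A).hom r) := fun {r} hr {A} hA => by
    have h1 := isUnit_rf hA (isUnit_of_dvd_unit (map_dvd (str C.pw O).hom hr) (isUnit_str_basicOpen C.pw f))
    rw [str_rf] at h1
    exact h1
  have hsd : ∀ a, s a ∣ f := fun a => dvd_mul_of_dvd_left
    (((dvd_mul_right _ _).mul_right _).trans (Finset.dvd_prod_of_mem (fun a => s a * t a * m a) (Finset.mem_univ a))) _
  have htd : ∀ a, t a ∣ f := fun a => dvd_mul_of_dvd_left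
    (((dvd_mul_left _ _).mul_right _).trans (Finset.dvd_prod_of_mem (fun a => s a * t a * m a) (Finset.mem_univ a))) _
  have hmd : ∀ a, m a ∣ f := fun a => dvd_mul_of_dvd_left
    ((dvd_mul_left _ _).trans (Finset.dvd_prod_of_mem (fun a => s a * t a * m a) (Finset.mem_univ a))) _
  have hnd : ∀ a b, n a b ∣ f := fun a b => dvd_mul_of_dvd_right
    (Finset.dvd_prod_of_mem (fun ab : C.ι × C.ι => n ab.1 ab.2) (Finset.mem_univ (a, b))) _
  choose q hq using fun a => (hu (hsd a) (inf_le_right : C.U a ⊓ O ≤ O)).exists_right_inv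
  refine ⟨V, hf, fun a => rf inf_le_left (x a) * q a, fun a => ?_, fun a b B ha hb => ?_⟩
  · have e := congrArg (rf (inf_le_left : C.U a ⊓ O ≤ C.U a)) (hm0 a)
    rw [rf_mul, str_rf, rf_sub, rf_mul, str_rf, map_mul] at e
    rw [rf_zero] at e
    have e' := sub_eq_zero.1 ((hu (hmd a) inf_le_right).mul_right_eq_zero.1 e)
    obtain ⟨t', ht'⟩ := (hu (htd a) (inf_le_right : C.U a ⊓ O ≤ O)).exists_right_inv
    refine IsUnit.of_mul_eq_one (rf inf_le_left (y a) * t') ?_
    linear_combination q a * t' * e' + (str C.pw (C.U a ⊓ O)).hom (t a) * t' * hq a + ht'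
  · have hab : B ≤ C.U a ⊓ C.U b := le_inf (ha.trans inf_le_left) (hb.trans inf_le_left)
    have e := congrArg (rf hab) (hn0 a b)
    rw [rf_mul, str_rf, rf_sub, rf_mul, rf_mul, rf_mul, str_rf, str_rf, rf_rf, rf_rf] at e
    rw [rf_zero] at e
    have e' := sub_eq_zero.1 ((hu (hnd a b) (ha.trans inf_le_right)).mul_right_eq_zero.1 e)
    have ea := congrArg (rf ha) (hq a)
    have eb := congrArg (rf hb) (hq b)
    rw [rf_mul, str_rf, Rigid.rf_one] at ea eb
    rw [rf_mul, rf_mul, rf_rf, rf_rf]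
    refine (hu (hsd b) (ha.trans inf_le_right)).mul_left_cancel ?_
    linear_combination rf ha (q a) * e' +
      rf hab (C.c.u a b) * rf (hb.trans inf_le_left) (x b) * ea -
      rf hab (C.c.u a b) * rf (hb.trans inf_le_left) (x b) * eb

end

end Groth.Agent.Lib.Cube.Spread
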