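import Groth.Agent.H97.GlueLine
import Groth.Agent.Lib.Ample.GenLocus
import Groth.Agent.Lib.QCoh.Sections

/-!
# Cocycles of invertible modules and their triviality after inverse image

An invertible module becomes a cocycle of units on an affine cover; its inverse image along any
morphism is trivial iff the inverse image of the cocycle is a coboundary.
-/

set_option autoImplicit false

universe u

open CategoryTheory AlgebraicGeometry Opposite TopologicalSpace

namespace Groth.Agent.Lib.Cube.Triv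

open Groth.Agent.Lib.TensorMod Groth.Agent.Lib.TensorMod.Dual Groth.Agent.Lib.TensorMod.Gen
open Groth.Agent.Lib.TensorMod.Pullback (pb unitSec)
open Groth.Agent.H97.GlueLine (Cocycle)

variable {W P Q : Scheme.{u}} {ι : Type u} {U : ι → W.Opens}

/-- Inverse images of inclusions. -/
theorem pre_mono (f : P ⟶ W) {A B : W.Opens} (h : A ≤ B) : f ⁻¹ᵁ A ≤ f ⁻¹ᵁ B :=
  (Opens.map f.base).monotone h

theorem app_rf (f : P ⟶ W) {A B : W.Opens} (h : A ≤ B) (a : Γ(W, B)) :
    f.app A (rf h a) = rf (pre_mono f h) (f.app B a) :=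
  ConcreteCategory.congr_hom (f.naturality (homOfLE h).op) a

theorem rf_mul {A B : W.Opens} (h : A ≤ B) (a b : Γ(W, B)) : rf h (a * b) = rf h a * rf h b :=
  map_mul (W.presheaf.map (homOfLE h).op).hom a b

/-- The inverse image of a cocycle. -/
noncomputable def comap (c : Cocycle U) (f : P ⟶ W) : Cocycle fun a => f ⁻¹ᵁ U a where
  u a b := f.app (U a ⊓ U b) (c.u a b)
  self a V h := by
    have e := congrArg (fun t => f.app (U a ⊓ U a) t) (c.self a (U a ⊓ U a) le_rfl)
    simp only [rf_self, map_one] at e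
    rw [e]
    exact map_one (P.presheaf.map (homOfLE h).op).hom
  trans a b d V ha hb hd := by
    have e := congrArg (fun t => f.app (U a ⊓ U b ⊓ U d) t)
      (c.trans a b d (U a ⊓ U b ⊓ U d) (inf_le_left.trans inf_le_left) (inf_le_left.trans inf_le_right)
        inf_le_right)
    simp only [map_mul, app_rf] at e
    have e' := congrArg (rf (le_inf (le_inf ha hb) hd : V ≤ f ⁻¹ᵁ (U a ⊓ U b ⊓ U d))) e
    erw [rf_mul, rf_rf, rf_rf, rf_rf] at e'
    exact e'

/-- The cocycle is the coboundary of units. -/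
def IsTriv (c : Cocycle U) : Prop :=
  ∃ v : ∀ a, Γ(W, U a), (∀ a, IsUnit (v a)) ∧
    ∀ a b, rf (inf_le_left : U a ⊓ U b ≤ U a) (v a) = c.u a b * rf inf_le_right (v b)

/-- The cocycle becomes trivial after inverse image along `f`. -/
def TrivAlong (c : Cocycle U) (f : P ⟶ W) : Prop :=
  ∃ v : ∀ a, Γ(P, f ⁻¹ᵁ U a), (∀ a, IsUnit (v a)) ∧
    ∀ a b, rf (pre_mono f (inf_le_left : U a ⊓ U b ≤ U a)) (v a) =
      f.app (U a ⊓ U b) (c.u a b) * rf (pre_mono f inf_le_right) (v b)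

theorem TrivAlong.eq {c : Cocycle U} {f : P ⟶ W} {v : ∀ a, Γ(P, f ⁻¹ᵁ U a)}
    (h : ∀ a b, rf (pre_mono f (inf_le_left : U a ⊓ U b ≤ U a)) (v a) =
      f.app (U a ⊓ U b) (c.u a b) * rf (pre_mono f inf_le_right) (v b))
    (a b : ι) {V : P.Opens} (ha : V ≤ f ⁻¹ᵁ U a) (hb : V ≤ f ⁻¹ᵁ U b) :
    rf ha (v a) = rf (le_inf ha hb : V ≤ f ⁻¹ᵁ (U a ⊓ U b)) (f.app (U a ⊓ U b) (c.u a b)) * rf hb (v b) := by
  have e := congrArg (rf (le_inf ha hb : V ≤ f ⁻¹ᵁ (U a ⊓ U b))) (h a b)
  erw [rf_mul, rf_rf, rf_rf] at e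
  exact e

theorem TrivAlong.comp {c : Cocycle U} {f : P ⟶ W} (h : TrivAlong c f) (g : Q ⟶ P) :
    TrivAlong c (g ≫ f) := by
  obtain ⟨v, hv, he⟩ := h
  refine ⟨fun a => g.app (f ⁻¹ᵁ U a) (v a), fun a => (hv a).map _, fun a b => ?_⟩
  have e := congrArg (fun t => g.app (f ⁻¹ᵁ (U a ⊓ U b)) t) (he a b)
  simp only [map_mul, app_rf] at e
  exact e

theorem TrivAlong.of_eq {c : Cocycle U} {f g : P ⟶ W} (h : TrivAlong c f) (e : f = g) :
    TrivAlong c g := e ▸ h

section Module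

variable {L : W.Modules}

/-- An invertible module is given by a cocycle on an affine cover. -/
theorem exists_cocycle (hL : PicF.IsInvertible L) :
    ∃ (ι : Type u) (U : ι → W.Opens) (_ : ∀ a, IsAffineOpen (U a)) (_ : iSup U = ⊤)
      (e : ∀ a, Γ(L, U a)) (_ : ∀ a, IsGen L (U a) (e a)) (c : Cocycle U),
      ∀ a b, rs L (inf_le_right : U a ⊓ U b ≤ U b) (e b) = c.u a b • rs L inf_le_left (e a) := by
  have h : ∀ x : W, ∃ V : W.Opens, x ∈ V ∧ IsAffineOpen V ∧ ∃ e : Γ(L, V), IsGen L V e := fun x => by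
    obtain ⟨U, e, hx, he⟩ := isInvertible_iff.1 hL x
    obtain ⟨V, hV, hxV, hle⟩ := exists_isAffineOpen_mem_and_subset (U := U) hx
    exact ⟨V, hxV, hV, _, he.res hle⟩
  choose V hx hV e he using h
  have hcov : iSup V = ⊤ := top_le_iff.1 fun x _ => Opens.mem_iSup.2 ⟨x, hx x⟩
  obtain ⟨c, hc⟩ := H97.GlueLine.exists_cocycle (M := L) (O := ⊤) (U := V) (fun _ _ _ => le_top)
    (fun x => rs L inf_le_left (e x)) (fun x => (he x).res _)
  refine ⟨W, V, hV, hcov, e, he, c, fun a b => ?_⟩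
  have := hc a b (V a ⊓ V b) inf_le_left inf_le_right le_top
  rw [rs_rs, rs_rs] at this
  rw [this]
  congr 1
  exact rf_self _ _

variable (e : ∀ a, Γ(L, U a)) (he : ∀ a, IsGen L (U a) (e a)) (c : Cocycle U)
  (hc : ∀ a b, rs L (inf_le_right : U a ⊓ U b ≤ U b) (e b) = c.u a b • rs L inf_le_left (e a))

include he hc in
/-- The inverse image is trivial iff the cocycle is trivial along the morphism. -/
theorem trivAlong_iff (hU : iSup U = ⊤) (f : P ⟶ W) :
    TrivAlong c f ↔ Nonempty ((Scheme.Modules.pullback f).obj L ≅ Coh.structureModule P) := by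
  let d : ∀ a, Γ((pb f).obj L, f ⁻¹ᵁ U a) := fun a => unitSec f L (e a)
  have hd : ∀ a, IsGen ((pb f).obj L) (f ⁻¹ᵁ U a) (d a) := fun a => Ample.GenLocus.isGen_unitSec f (he a)
  have hdc : ∀ a b, rs ((pb f).obj L) (pre_mono f (inf_le_right : U a ⊓ U b ≤ U b)) (d b) =
      f.app (U a ⊓ U b) (c.u a b) • rs ((pb f).obj L) (pre_mono f inf_le_left) (d a) := fun a b => by
    refine (Ample.GenLocus.unitSec_rs f (inf_le_right : U a ⊓ U b ≤ U b) _).trans ?_
    rw [hc, Ample.GenLocus.unitSec_smul]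
    congr 1
    exact (Ample.GenLocus.unitSec_rs f (inf_le_left : U a ⊓ U b ≤ U a) _).symm
  have hcov : iSup (fun a => f ⁻¹ᵁ U a) = ⊤ := by
    rw [← Scheme.Hom.preimage_iSup, hU, Scheme.Hom.preimage_top]
  constructor
  · rintro ⟨v, hv, hve⟩
    obtain ⟨φ, -⟩ := HomGlue.exists_iso_of_gen (L := Coh.structureModule P) (M := (pb f).obj L)
      (U := fun a => f ⁻¹ᵁ U a) hcov (fun a => one P (f ⁻¹ᵁ U a))
      (fun a => Ample.GenLocus.isGen_one _) (fun a => v a • d a)
      (fun a => Ample.GenLocus.IsGen_smul_isUnit (hd a) (hv a)) fun i j V hi hj r hr => by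
        have hr1 : r = 1 := by
          have e1 : rs (Coh.structureModule P) hi (one P (f ⁻¹ᵁ U i)) = one P V :=
            map_one (P.presheaf.map (homOfLE hi).op).hom
          have e2 : rs (Coh.structureModule P) hj (one P (f ⁻¹ᵁ U j)) = one P V :=
            map_one (P.presheaf.map (homOfLE hj).op).hom
          rw [e1, e2] at hr
          exact (mul_one r).symm.trans hr.symm
        rw [hr1, one_smul, rs_smul, rs_smul, TrivAlong.eq hve i j hi hj, mul_comm, mul_smul]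
        congr 1
        have e1 := congrArg (rs ((pb f).obj L) (le_inf hi hj : V ≤ f ⁻¹ᵁ (U i ⊓ U j))) (hdc i j)
        erw [rs_smul, rs_rs, rs_rs] at e1
        exact e1.symm
    exact ⟨φ.symm⟩
  · rintro ⟨i⟩
    let g : Γ((pb f).obj L, ⊤) := i.inv.app ⊤ (one P ⊤)
    have hg : IsGen ((pb f).obj L) ⊤ g := Ample.GenLocus.isGen_of_isIso_over
      (Ample.GenLocus.isIso_over_of_iso i.symm ⊤) (Ample.GenLocus.isGen_one ⊤)
    have hv : ∀ a, ∃ r : Γ(P, f ⁻¹ᵁ U a), rs ((pb f).obj L) le_top g = r • d a := fun a =>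
      Ample.GenLocus.exists_coord (hd a) _
    choose v hv using hv
    refine ⟨v, fun a => Ample.GenLocus.isUnit_of_isGen_smul (hd a) (hv a ▸ hg.res le_top), fun a b => ?_⟩
    refine ((hd a) _ (pre_mono f inf_le_left)).1 ?_
    show rf _ (v a) • rs _ _ (d a) = (f.app (U a ⊓ U b) (c.u a b) * rf _ (v b)) • rs _ _ (d a)
    rw [← rs_smul, ← hv, rs_rs, mul_comm, mul_smul, ← hdc, ← rs_smul, ← hv, rs_rs]

end Module

end Groth.Agent.Lib.Cube.Triv
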